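import Cfsg.Agent.H780.SpOddMain

/-!
# Saturated systems over a Sylow subgroup of `Sp₄(K)`, `p = 2`: essential subgroups (helper780)
-/

set_option autoImplicit false

universe u v

namespace Cfsg.Agent.H780

open Cfsg Cfsg.FusionSystem Cfsg.Agent.H802

variable {Ω : Type u} [Group Ω] {S : Subgroup Ω}

/-- Every automorphism in `Aut_F(S)` has a power with exponent prime to `p` which is inner. -/
theorem exists_pow_mem_autInducedBy [Finite S] {p : ℕ} [Fact p.Prime] (hS : IsPGroup p S)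
    {F : FusionSystem S} (hF : F.IsSaturated p) {α : MulAut S} (hα : α ∈ F.autGroup S) :
    ∃ b : ℕ, ¬ p ∣ b ∧ α ^ b ∈ autInducedBy S S := by
  have hSa := isFullyAutomized_of_isFullyNormalized hS hF (isFullyNormalized_top F)
  obtain ⟨-, R, hR⟩ := hSa
  have hRn : (R : Subgroup (F.autGroup S)).Normal := by
    refine ⟨fun u hu g => ?_⟩
    rw [hR] at hu ⊢
    obtain ⟨a, ha, hau⟩ := (mem_autInducedBy_iff S S _).1 hu
    refine (mem_autInducedBy_iff S S _).2 ⟨((g : MulAut S) ⟨a, ha⟩ : S), ((g : MulAut S) ⟨a, ha⟩).2, fun x => ?_⟩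
    have h1 : (u : MulAut S) ((g : MulAut S)⁻¹ x) = ⟨a, ha⟩ * ((g : MulAut S)⁻¹ x) * ⟨a, ha⟩⁻¹ :=
      Subtype.ext (hau _)
    show (((g : MulAut S) ((u : MulAut S) ((g : MulAut S)⁻¹ x)) : S) : Ω) = _
    rw [h1, map_mul, map_mul, map_inv]
    have h2 : (g : MulAut S) ((g : MulAut S)⁻¹ x) = x := (g : MulAut S).apply_symm_apply x
    rw [h2]
    rfl
  have hfin : Finite (MulAut S) := inferInstance
  obtain ⟨a, b, hb, hab⟩ := Nat.exists_eq_pow_mul_and_not_dvd (orderOf_pos α).ne' p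
    (Fact.out : p.Prime).ne_one
  refine ⟨b, hb, ?_⟩
  set x : F.autGroup S := ⟨α, hα⟩ ^ b with hx
  have hxp : IsPGroup p (Subgroup.zpowers x) := by
    rintro ⟨y, hy⟩
    obtain ⟨k, rfl⟩ := Subgroup.mem_zpowers_iff.1 hy
    refine ⟨a, Subtype.ext ?_⟩
    show (x ^ k) ^ p ^ a = 1
    have h1 : x ^ p ^ a = 1 := by
      apply Subtype.ext
      show (α ^ b) ^ p ^ a = 1
      rw [← pow_mul, mul_comm, ← hab, pow_orderOf_eq_one]
    rw [← zpow_natCast, ← zpow_mul, mul_comm, zpow_mul, zpow_natCast, h1, one_zpow]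
  have h1 := H794.le_pCore_of_normal_sylow R hRn _ hxp (Subgroup.mem_zpowers x)
  have h2 := H794.pCore_le_sylow R h1
  rw [hR] at h2
  exact h2

variable {K : Type v} [Field K] (C : SpC S K)

section two

variable (h2 : (2 : K) = 0)

include h2

theorem SpC.Z2_comm {x y : Ω} (hx : x ∈ C.Z2) (hy : y ∈ S) : x * y = y * x := by
  rw [C.comm_iff hx.1 hy, hx.2.1, hx.2.2]
  constructor
  · ring
  · linear_combination (-C.t y * C.u x) * h2

omit h2 in
theorem SpC.mem_Z2_of_comm {x : Ω} (hx : x ∈ S) (h : ∀ y ∈ S, x * y = y * x) : x ∈ C.Z2 := by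
  obtain ⟨y, hy, h3, h4, -, -⟩ := C.surj 1 0 0 0
  obtain ⟨w, hw, h6, h7, -, -⟩ := C.surj 0 1 0 0
  have h9 := ((C.comm_iff hx hy).1 (h y hy)).1
  have h10 := ((C.comm_iff hx hw).1 (h w hw)).1
  rw [h3, h4] at h9
  rw [h6, h7] at h10
  exact ⟨hx, by linear_combination h10, by linear_combination -h9⟩

omit h2 in
theorem SpC.t_eq_zero_two {x y : Ω} (hx : x ∈ C.M) (hxZ : x ∉ C.Z2) (hy : y ∈ S) (h : x * y = y * x) :
    C.t y = 0 := by
  have h1 := ((C.comm_iff hx.1 hy).1 h).1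
  rw [hx.2] at h1
  have h3 : C.s x ≠ 0 := fun h3 => hxZ ⟨hx.1, hx.2, h3⟩
  have : C.t y * C.s x = 0 := by linear_combination -h1
  exact (mul_eq_zero.1 this).resolve_right h3

omit h2 in
theorem SpC.mem_L0 {x : Ω} : x ∈ C.L 0 ↔ x ∈ S ∧ C.s x = 0 := by
  rw [C.mem_L, zero_mul]

omit h2 in
theorem SpC.s_eq_zero_two {x y : Ω} (hx : x ∈ C.L 0) (hxZ : x ∉ C.Z2) (hy : y ∈ S) (h : x * y = y * x) :
    C.s y = 0 := by
  rw [C.mem_L0] at hx
  have h1 := ((C.comm_iff hx.1 hy).1 h).1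
  rw [hx.2] at h1
  have h3 : C.t x ≠ 0 := fun h3 => hxZ ⟨hx.1, h3, hx.2⟩
  have : C.t x * C.s y = 0 := by linear_combination h1
  exact (mul_eq_zero.1 this).resolve_left h3

theorem SpC.L0_comm {x y : Ω} (hx : x ∈ C.L 0) (hy : y ∈ C.L 0) : x * y = y * x := by
  rw [C.mem_L0] at hx hy
  rw [C.comm_iff hx.1 hy.1, hx.2, hy.2]
  constructor
  · ring
  · linear_combination (C.t x * C.u y - C.t y * C.u x) * h2

theorem SpC.sq_eq_one_iff {x : Ω} (hx : x ∈ S) : x * x = 1 ↔ C.t x = 0 ∨ C.s x = 0 := by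
  constructor
  · intro h
    have h1 := congrArg C.u h
    rw [C.u_mul hx hx, C.u_one] at h1
    have h3 : C.t x * C.s x = 0 := by linear_combination h1 - C.u x * h2
    exact mul_eq_zero.1 h3
  · intro h
    have h3 : C.t x * C.s x = 0 := mul_eq_zero.2 h
    apply C.inj (S.mul_mem hx hx) S.one_mem
    · rw [C.t_mul hx hx, C.t_one]; linear_combination C.t x * h2
    · rw [C.s_mul hx hx, C.s_one]; linear_combination C.s x * h2
    · rw [C.u_mul hx hx, C.u_one]; linear_combination C.u x * h2 + h3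
    · rw [C.z_mul hx hx, C.z_one]
      linear_combination (C.z x + C.t x * C.u x) * h2 + C.t x * h3

omit h2 in
/-- A nonabelian subgroup of `S` has centralizer in `Z₂`. -/
theorem SpC.centralizer_le_Z2 {P : Subgroup Ω} (hP : P ≤ S) {a b : Ω} (ha : a ∈ P) (hb : b ∈ P)
    (hab : a * b ≠ b * a) {y : Ω} (hy : y ∈ S) (hyP : ∀ x ∈ P, y * x = x * y) : y ∈ C.Z2 := by
  by_contra hyZ
  by_cases hty : C.t y = 0
  · have h3 : ∀ x ∈ P, C.t x = 0 := fun x hx =>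
      C.t_eq_zero_two ⟨hy, hty⟩ hyZ (hP hx) (hyP x hx)
    exact hab (C.M_comm ⟨hP ha, h3 a ha⟩ ⟨hP hb, h3 b hb⟩)
  · exact hab (C.comm_of_comm hy hty (hP ha) (hP hb) (hyP a ha) (hyP b hb))

/-- **Essential subgroups for `p = 2`.** -/
theorem SpC.essential_cases_two [Finite S] (hS : IsPGroup 2 S)
    {F : FusionSystem S} (hF : F.IsSaturated 2) {P : Subgroup Ω} (hP : F.IsEssential 2 P) :
    P = C.M ∨ P = C.L 0 := by
  have hPS := hP.1.1
  have hCP : centralizerIn S P ≤ P := hP.1.2 P (isConj_refl F hPS)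
  have hZP : C.Z2 ≤ P := fun z hz => hCP (mem_centralizerIn.2 ⟨hz.1, fun y hy =>
    (C.Z2_comm h2 hz (hPS hy)).symm⟩)
  have hZfix : ∀ g ∈ S, ∀ x ∈ C.Z2, g * x * g⁻¹ = x := by
    intro g hg x hx
    rw [← C.Z2_comm h2 hx hg, mul_inv_cancel_right]
  -- if `Z₂` is `Aut_F(P)`-invariant then `P = S`
  have key : (∀ α ∈ F.autGroup P, ∀ x : P, (x : Ω) ∈ C.Z2 → ((α x : P) : Ω) ∈ C.Z2) → False := by
    intro hinv
    apply ne_of_isEssential hS hF hP
    apply le_antisymm hPS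
    intro g hg
    exact mem_of_chain2 hS hP C.Z2 hZP hinv hg (fun x hx => C.comm_mem_Z2 hg (hPS hx)) (hZfix g hg)
  by_cases hab : ∃ a ∈ P, ∃ b ∈ P, a * b ≠ b * a
  · exfalso
    obtain ⟨a, ha, b, hb, hab⟩ := hab
    have hcen : ∀ x ∈ P, x ∈ C.Z2 ↔ ∀ y ∈ P, x * y = y * x := by
      intro x hx
      refine ⟨fun h y hy => C.Z2_comm h2 h (hPS hy), fun h => ?_⟩
      exact C.centralizer_le_Z2 hPS ha hb hab (hPS hx) h
    exact key (fun α _ x hx => center_invariant hcen α x hx)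
  · push Not at hab
    -- `P ≠ Z₂`
    obtain ⟨x, hx, hxZ⟩ : ∃ x ∈ P, x ∉ C.Z2 := by
      by_contra hcon
      push Not at hcon
      apply ne_of_isEssential hS hF hP
      apply le_antisymm hPS
      intro g hg
      exact hCP (mem_centralizerIn.2 ⟨hg, fun y hy => C.Z2_comm h2 (hcon y hy) hg⟩)
    by_cases htx : C.t x = 0
    · left
      apply le_antisymm
      · intro y hy
        exact ⟨hPS hy, C.t_eq_zero_two ⟨hPS hx, htx⟩ hxZ (hPS hy) (hab x hx y hy)⟩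
      · intro y hy
        refine hCP (mem_centralizerIn.2 ⟨hy.1, fun w hw => ?_⟩)
        exact C.M_comm ⟨hPS hw, C.t_eq_zero_two ⟨hPS hx, htx⟩ hxZ (hPS hw) (hab x hx w hw)⟩ hy
    · by_cases hsx : C.s x = 0
      · right
        have hxL : x ∈ C.L 0 := C.mem_L0.2 ⟨hPS hx, hsx⟩
        apply le_antisymm
        · intro y hy
          exact C.mem_L0.2 ⟨hPS hy, C.s_eq_zero_two hxL hxZ (hPS hy) (hab x hx y hy)⟩
        · intro y hy
          refine hCP (mem_centralizerIn.2 ⟨hy.1, fun w hw => ?_⟩)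
          exact C.L0_comm h2 (C.mem_L0.2 ⟨hPS hw, C.s_eq_zero_two hxL hxZ (hPS hw) (hab x hx w hw)⟩) hy
      · exfalso
        have hZ2P : ∀ y ∈ P, y ∈ C.Z2 ↔ y * y = 1 := by
          intro y hy
          rw [C.sq_eq_one_iff h2 (hPS hy)]
          constructor
          · exact fun h => Or.inl h.2.1
          · intro h
            have h3 := ((C.comm_iff (hPS hx) (hPS hy)).1 (hab x hx y hy)).1
            rcases h with h | h
            · rw [h, zero_mul] at h3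
              exact ⟨hPS hy, h, (mul_eq_zero.1 h3).resolve_left htx⟩
            · rw [h, mul_zero] at h3
              exact ⟨hPS hy, (mul_eq_zero.1 h3.symm).resolve_right hsx, h⟩
        apply key
        intro α _ y hy
        rw [hZ2P _ (α y).2]
        rw [hZ2P _ y.2] at hy
        have h3 : y * y = 1 := Subtype.ext hy
        have h4 := congrArg α h3
        rw [map_mul, map_one] at h4
        exact congrArg Subtype.val h4

/-- `Z₂` is invariant under `Aut(S)`. -/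
theorem SpC.Z2_inv_two (α : MulAut S) (x : S) (hx : (x : Ω) ∈ C.Z2) : ((α x : S) : Ω) ∈ C.Z2 :=
  center_invariant (fun _ hx => ⟨fun h _ hy => C.Z2_comm h2 h hy, fun h => C.mem_Z2_of_comm hx h⟩) α x hx

/-- The image of `M` under an automorphism of `S` is `M` or `L₀`. -/
theorem SpC.M_or (α : MulAut S) :
    (∀ x : S, (x : Ω) ∈ C.M → ((α x : S) : Ω) ∈ C.M) ∨
      (∀ x : S, (x : Ω) ∈ C.M → ((α x : S) : Ω) ∈ C.L 0) := by
  obtain ⟨y, hy, h3, h4, -, -⟩ := C.surj 0 1 0 0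
  have hyM : y ∈ C.M := ⟨hy, h3⟩
  have hyZ : y ∉ C.Z2 := fun h => one_ne_zero (h4.symm.trans h.2.2)
  have h7 : ((α ⟨y, hy⟩ : S) : Ω) ∉ C.Z2 := by
    intro h
    have h8 := C.Z2_inv_two h2 α⁻¹ _ h
    have h9 : α⁻¹ (α ⟨y, hy⟩) = ⟨y, hy⟩ := α.symm_apply_apply _
    rw [h9] at h8
    exact hyZ h8
  have h8 : ((α ⟨y, hy⟩ : S) : Ω) * (α ⟨y, hy⟩ : S) = 1 := by
    have h9 : (⟨y, hy⟩ : S) * ⟨y, hy⟩ = 1 := Subtype.ext ((C.sq_eq_one_iff h2 hy).2 (Or.inl h3))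
    have h10 := congrArg α h9
    rw [map_mul, map_one] at h10
    exact congrArg Subtype.val h10
  have hcomm : ∀ x : S, (x : Ω) ∈ C.M → ((α ⟨y, hy⟩ : S) : Ω) * (α x : S) = (α x : S) * (α ⟨y, hy⟩ : S) := by
    intro x hx
    have h9 : (⟨y, hy⟩ : S) * x = x * ⟨y, hy⟩ := Subtype.ext (C.M_comm hyM hx)
    have h10 := congrArg α h9
    rw [map_mul, map_mul] at h10
    exact congrArg Subtype.val h10
  rcases (C.sq_eq_one_iff h2 (α ⟨y, hy⟩).2).1 h8 with h | h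
  · left
    intro x hx
    exact ⟨(α x).2, C.t_eq_zero_two ⟨(α ⟨y, hy⟩).2, h⟩ h7 (α x).2 (hcomm x hx)⟩
  · right
    intro x hx
    exact C.mem_L0.2 ⟨(α x).2, C.s_eq_zero_two (C.mem_L0.2 ⟨(α ⟨y, hy⟩).2, h⟩) h7 (α x).2 (hcomm x hx)⟩

theorem SpC.L0_or (α : MulAut S) :
    (∀ x : S, (x : Ω) ∈ C.L 0 → ((α x : S) : Ω) ∈ C.M) ∨
      (∀ x : S, (x : Ω) ∈ C.L 0 → ((α x : S) : Ω) ∈ C.L 0) := by
  obtain ⟨y, hy, h3, h4, -, -⟩ := C.surj 1 0 0 0
  have hyM : y ∈ C.L 0 := C.mem_L0.2 ⟨hy, h4⟩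
  have hyZ : y ∉ C.Z2 := fun h => one_ne_zero (h3.symm.trans h.2.1)
  have h7 : ((α ⟨y, hy⟩ : S) : Ω) ∉ C.Z2 := by
    intro h
    have h8 := C.Z2_inv_two h2 α⁻¹ _ h
    have h9 : α⁻¹ (α ⟨y, hy⟩) = ⟨y, hy⟩ := α.symm_apply_apply _
    rw [h9] at h8
    exact hyZ h8
  have h8 : ((α ⟨y, hy⟩ : S) : Ω) * (α ⟨y, hy⟩ : S) = 1 := by
    have h9 : (⟨y, hy⟩ : S) * ⟨y, hy⟩ = 1 := Subtype.ext ((C.sq_eq_one_iff h2 hy).2 (Or.inr h4))
    have h10 := congrArg α h9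
    rw [map_mul, map_one] at h10
    exact congrArg Subtype.val h10
  have hcomm : ∀ x : S, (x : Ω) ∈ C.L 0 → ((α ⟨y, hy⟩ : S) : Ω) * (α x : S) = (α x : S) * (α ⟨y, hy⟩ : S) := by
    intro x hx
    have h9 : (⟨y, hy⟩ : S) * x = x * ⟨y, hy⟩ := Subtype.ext (C.L0_comm h2 hyM hx)
    have h10 := congrArg α h9
    rw [map_mul, map_mul] at h10
    exact congrArg Subtype.val h10
  rcases (C.sq_eq_one_iff h2 (α ⟨y, hy⟩).2).1 h8 with h | h
  · left
    intro x hx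
    exact ⟨(α x).2, C.t_eq_zero_two ⟨(α ⟨y, hy⟩).2, h⟩ h7 (α x).2 (hcomm x hx)⟩
  · right
    intro x hx
    exact C.mem_L0.2 ⟨(α x).2, C.s_eq_zero_two (C.mem_L0.2 ⟨(α ⟨y, hy⟩).2, h⟩) h7 (α x).2 (hcomm x hx)⟩

omit h2 in
/-- Every element of `S` is a product of an element of `M` and one of `L₀`. -/
theorem SpC.exists_mul (x : S) : ∃ a b : S, (a : Ω) ∈ C.M ∧ (b : Ω) ∈ C.L 0 ∧ x = a * b := by
  obtain ⟨b, hb, h3, h4, -, -⟩ := C.surj (C.t x) 0 0 0
  refine ⟨x * (⟨b, hb⟩ : S)⁻¹, ⟨b, hb⟩, ⟨(x * (⟨b, hb⟩ : S)⁻¹).2, ?_⟩, C.mem_L0.2 ⟨hb, h4⟩, by group⟩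
  show C.t (x * b⁻¹) = 0
  rw [C.t_mul x.2 (S.inv_mem hb), C.t_inv hb, h3, add_neg_cancel]

/-- Elements of `Aut_F(S)` preserve `M` and `L₀`. -/
theorem SpC.inv_two [Finite S] (hS : IsPGroup 2 S) {F : FusionSystem S} (hF : F.IsSaturated 2)
    {α : MulAut S} (hα : α ∈ F.autGroup S) :
    (∀ x : S, (x : Ω) ∈ C.M → ((α x : S) : Ω) ∈ C.M) ∧
      (∀ x : S, (x : Ω) ∈ C.L 0 → ((α x : S) : Ω) ∈ C.L 0) := by
  -- elements outside
  obtain ⟨a, ha, ha1, ha2, -, -⟩ := C.surj 1 1 0 0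
  have hnot : ∀ β : MulAut S, ¬ ((∀ x : S, (x : Ω) ∈ C.M → ((β x : S) : Ω) ∈ C.M) ∧
      (∀ x : S, (x : Ω) ∈ C.L 0 → ((β x : S) : Ω) ∈ C.M)) := by
    rintro β ⟨h3, h4⟩
    have h5 : ∀ x : S, ((β x : S) : Ω) ∈ C.M := by
      intro x
      obtain ⟨y, z, hy, hz, rfl⟩ := C.exists_mul x
      rw [map_mul]
      exact C.M.mul_mem (h3 y hy) (h4 z hz)
    have h6 := h5 (β⁻¹ ⟨a, ha⟩)
    have h7 : β (β⁻¹ ⟨a, ha⟩) = ⟨a, ha⟩ := β.apply_symm_apply _
    rw [h7] at h6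
    exact one_ne_zero (ha1.symm.trans h6.2)
  have hnot' : ∀ β : MulAut S, ¬ ((∀ x : S, (x : Ω) ∈ C.M → ((β x : S) : Ω) ∈ C.L 0) ∧
      (∀ x : S, (x : Ω) ∈ C.L 0 → ((β x : S) : Ω) ∈ C.L 0)) := by
    rintro β ⟨h3, h4⟩
    have h5 : ∀ x : S, ((β x : S) : Ω) ∈ C.L 0 := by
      intro x
      obtain ⟨y, z, hy, hz, rfl⟩ := C.exists_mul x
      rw [map_mul]
      exact (C.L 0).mul_mem (h3 y hy) (h4 z hz)
    have h6 := h5 (β⁻¹ ⟨a, ha⟩)
    have h7 : β (β⁻¹ ⟨a, ha⟩) = ⟨a, ha⟩ := β.apply_symm_apply _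
    rw [h7] at h6
    exact one_ne_zero (ha2.symm.trans (C.mem_L0.1 h6).2)
  -- the two types
  let good : MulAut S → Prop := fun β => (∀ x : S, (x : Ω) ∈ C.M → ((β x : S) : Ω) ∈ C.M) ∧
      (∀ x : S, (x : Ω) ∈ C.L 0 → ((β x : S) : Ω) ∈ C.L 0)
  let bad : MulAut S → Prop := fun β => (∀ x : S, (x : Ω) ∈ C.M → ((β x : S) : Ω) ∈ C.L 0) ∧
      (∀ x : S, (x : Ω) ∈ C.L 0 → ((β x : S) : Ω) ∈ C.M)
  have hor : ∀ β, good β ∨ bad β := by
    intro β
    rcases C.M_or h2 β with h | h <;> rcases C.L0_or h2 β with h' | h'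
    · exact (hnot β ⟨h, h'⟩).elim
    · exact Or.inl ⟨h, h'⟩
    · exact Or.inr ⟨h, h'⟩
    · exact (hnot' β ⟨h, h'⟩).elim
  have hgb : ∀ β, good β → bad β → False := by
    intro β h h'
    exact hnot β ⟨h.1, h'.2⟩
  rcases hor α with h | h
  · exact h
  · exfalso
    have hpow : ∀ k : ℕ, good ((α ^ 2) ^ k) := by
      have h3 : good (α ^ 2) := by
        rw [pow_two]
        exact ⟨fun x hx => h.2 _ (h.1 x hx), fun x hx => h.1 _ (h.2 x hx)⟩
      intro k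
      induction k with
      | zero => exact ⟨fun x hx => by simpa using hx, fun x hx => by simpa using hx⟩
      | succ k ih =>
        rw [pow_succ]
        exact ⟨fun x hx => ih.1 _ (h3.1 x hx), fun x hx => ih.2 _ (h3.2 x hx)⟩
    obtain ⟨b, hb, hbα⟩ := exists_pow_mem_autInducedBy hS hF hα
    obtain ⟨k, rfl⟩ : ∃ k, b = 2 * k + 1 := Nat.not_even_iff_odd.1 (fun h => hb h.two_dvd)
    obtain ⟨g, hg, hgα⟩ := (mem_autInducedBy_iff S S _).1 hbα
    -- the power is bad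
    have hbad : bad (α ^ (2 * k + 1)) := by
      rw [pow_succ, pow_mul]
      exact ⟨fun x hx => (hpow k).2 _ (h.1 x hx), fun x hx => (hpow k).1 _ (h.2 x hx)⟩
    refine hgb _ ⟨fun x hx => ?_, fun x hx => ?_⟩ hbad
    · rw [hgα]
      exact C.M_conj_mem hg hx
    · rw [hgα]
      exact C.conj_mem_of_Z2_le (C.L_le 0) (C.Z2_le_L 0) hg hx

/-- **First reduction for `p = 2`.** -/
theorem SpC.two_reduction [Finite S] (hS : IsPGroup 2 S) {F : FusionSystem S} (hF : F.IsSaturated 2)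
    (hnc : ¬ ∃ Q : Subgroup Ω, F.IsNormal Q ∧ F.IsCentric Q) :
    F.IsEssential 2 C.M ∧ F.IsEssential 2 (C.L 0) ∧ F.core ≤ C.Z2 := by
  have hcases := fun P (hP : F.IsEssential 2 P) => C.essential_cases_two h2 hS hF hP
  have hM : F.IsEssential 2 C.M := by
    by_contra hM
    apply hnc
    by_cases hL : F.IsEssential 2 (C.L 0)
    · refine ⟨C.L 0, isNormal_of_essential hS hF ?_, hL.1⟩
      rintro P (rfl | hP)
      · exact ⟨C.L_le 0, fun α hα x hx => (C.inv_two h2 hS hF hα).2 x hx⟩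
      · rcases hcases P hP with rfl | rfl
        · exact (hM hP).elim
        · exact ⟨le_rfl, fun α _ x _ => (α x).2⟩
    · have h1 : F.IsNormal S := by
        refine isNormal_of_essential hS hF ?_
        rintro P (rfl | hP)
        · exact ⟨le_rfl, fun α _ x _ => (α x).2⟩
        · rcases hcases P hP with rfl | rfl
          · exact (hM hP).elim
          · exact (hL hP).elim
      exact ⟨S, h1, isCentric_of_stronglyClosed (H759.IsNormal.stronglyClosed h1) inf_le_left⟩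
  have hL : F.IsEssential 2 (C.L 0) := by
    by_contra hL
    apply hnc
    refine ⟨C.M, isNormal_of_essential hS hF ?_, hM.1⟩
    rintro P (rfl | hP)
    · exact ⟨C.M_le, fun α hα x hx => (C.inv_two h2 hS hF hα).1 x hx⟩
    · rcases hcases P hP with rfl | rfl
      · exact ⟨le_rfl, fun α _ x _ => (α x).2⟩
      · exact (hL hP).elim
  refine ⟨hM, hL, ?_⟩
  have hQn : F.IsNormal F.core := H759.isNormal_core
  have h3 := (S5087.result 2 hS F hF F.core).1 hQn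
  intro x hx
  have h4 := (h3 _ (Or.inr hM)).1 hx
  have h5 := C.mem_L0.1 ((h3 _ (Or.inr hL)).1 hx)
  exact ⟨h4.1, h4.2, h5.2⟩

end two

end Cfsg.Agent.H780
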