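import Cfsg.Agent.H780.QBasA

/-! # S5176 (A6): basic facts in case A, part 2 (helper780; plan: tools/plans/S5176.md, section 4) -/
set_option autoImplicit false
set_option linter.unusedSectionVars false

namespace Cfsg.Agent.H784.Q
open Cfsg Cfsg.FusionSystem Cfsg.Agent.H752 Cfsg.Agent.H784.SF

universe u

variable {Ω : Type u} [Group Ω] {S : Subgroup Ω}
variable {F : FusionSystem S} {R : Subgroup Ω} {a b z r : Ω} {m : ℕ}

section
variable {t c d k : Ω} {β : Ω → Ω} (h : CaseA F R a b z r m t c d k β) [Finite S]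
include h

lemma CaseA.mem_M {x : Ω} : x ∈ Subgroup.zpowers a ⊔ Subgroup.zpowers d ↔ ∃ i j : ℤ, x = a ^ i * d ^ j := by
  have hc : Commute d a := h.da
  constructor
  · intro hx
    let T : Subgroup Ω :=
      { carrier := {x | ∃ i j : ℤ, x = a ^ i * d ^ j}
        one_mem' := ⟨0, 0, by simp⟩
        mul_mem' := by
          rintro _ _ ⟨i, j, rfl⟩ ⟨i', j', rfl⟩
          refine ⟨i + i', j + j', ?_⟩
          have h1 : d ^ j * a ^ i' = a ^ i' * d ^ j := (hc.zpow_zpow j i').eq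
          calc a ^ i * d ^ j * (a ^ i' * d ^ j') = a ^ i * (d ^ j * a ^ i') * d ^ j' := by group
            _ = a ^ (i + i') * d ^ (j + j') := by rw [h1, zpow_add, zpow_add]; group
        inv_mem' := by
          rintro _ ⟨i, j, rfl⟩
          refine ⟨-i, -j, ?_⟩
          rw [mul_inv_rev, zpow_neg, zpow_neg]
          exact ((hc.zpow_zpow j i).inv_inv).eq }
    have hT : Subgroup.zpowers a ⊔ Subgroup.zpowers d ≤ T := by
      rw [sup_le_iff, Subgroup.zpowers_le, Subgroup.zpowers_le]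
      exact ⟨⟨1, 0, by simp⟩, ⟨0, 1, by simp⟩⟩
    exact hT hx
  · rintro ⟨i, j, rfl⟩
    exact mul_mem (Subgroup.mem_sup_left (Subgroup.zpow_mem _ (Subgroup.mem_zpowers a) i))
      (Subgroup.mem_sup_right (Subgroup.zpow_mem _ (Subgroup.mem_zpowers d) j))

lemma CaseA.aM : a ∈ Subgroup.zpowers a ⊔ Subgroup.zpowers d := Subgroup.mem_sup_left (Subgroup.mem_zpowers a)
lemma CaseA.dM : d ∈ Subgroup.zpowers a ⊔ Subgroup.zpowers d := Subgroup.mem_sup_right (Subgroup.mem_zpowers d)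
lemma CaseA.zM : z ∈ Subgroup.zpowers a ⊔ Subgroup.zpowers d := Subgroup.mem_sup_left h.sit.qr.zA
lemma CaseA.tM : t ∈ Subgroup.zpowers a ⊔ Subgroup.zpowers d :=
  Subgroup.mem_sup_right (by rw [h.td]; exact Subgroup.pow_mem _ (Subgroup.mem_zpowers d) _)

lemma CaseA.tS : t ∈ S := by
  rw [h.td]
  exact pow_mem (mem_CS.1 h.dC).1 _

lemma CaseA.dS : d ∈ S := (mem_CS.1 h.dC).1

lemma CaseA.ta : t * a = a * t := by
  have hc : Commute d a := h.da
  rw [h.td]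
  exact (hc.pow_left _).eq

lemma CaseA.tt : t * t = 1 := by
  have hm := h.sit.qr.m3
  rw [h.td, ← pow_add, ← two_mul, mul_comm, ← pow_succ, Nat.sub_add_cancel (by omega), ← h.od, pow_orderOf_eq_one]

lemma CaseA.t1 : t ≠ 1 := by
  have hm := h.sit.qr.m3
  rw [h.td]
  intro h1
  have := orderOf_dvd_of_pow_eq_one h1
  rw [h.od] at this
  have h1 := Nat.le_of_dvd (by positivity) this
  have h2 : 2 ^ (m - 1) < 2 ^ m := Nat.pow_lt_pow_right (by norm_num) (by omega)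
  omega

lemma CaseA.tz1 : t * z ≠ 1 := by
  intro h1
  apply h.v.ne
  rw [mul_eq_one_iff_eq_inv, h.sit.qr.zinv] at h1
  exact h1

lemma CaseA.tzz : t * z ≠ z := by
  intro h1
  rw [mul_eq_right] at h1
  exact h.t1 h1

lemma CaseA.tzt : t * z = z * t := h.sit.z_centr t h.tS

lemma CaseA.MC : Subgroup.zpowers a ⊔ Subgroup.zpowers d ≤ CS S t := by
  rw [sup_le_iff, Subgroup.zpowers_le, Subgroup.zpowers_le]
  exact ⟨mem_CS.2 ⟨h.sit.aS, h.ta.symm⟩, h.dC⟩

lemma CaseA.MS : Subgroup.zpowers a ⊔ Subgroup.zpowers d ≤ S := h.MC.trans inf_le_left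

lemma CaseA.M_comm {x y : Ω} (hx : x ∈ Subgroup.zpowers a ⊔ Subgroup.zpowers d)
    (hy : y ∈ Subgroup.zpowers a ⊔ Subgroup.zpowers d) : x * y = y * x := by
  obtain ⟨i, j, rfl⟩ := h.mem_M.1 hx
  obtain ⟨i', j', rfl⟩ := h.mem_M.1 hy
  have hc : Commute d a := h.da
  have h1 : Commute (a ^ i * d ^ j) (a ^ i') :=
    Commute.mul_left ((Commute.refl a).zpow_zpow i i') (hc.zpow_zpow j i')
  have h2 : Commute (a ^ i * d ^ j) (d ^ j') :=
    Commute.mul_left (hc.symm.zpow_zpow i j') ((Commute.refl d).zpow_zpow j j')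
  exact (h1.mul_right h2).eq

lemma CaseA.conj_t {x y : Ω} (hx : x ∈ S) (hy : y ∈ S) : (x * y * x⁻¹ * y⁻¹) * t = t * (x * y * x⁻¹ * y⁻¹) := by
  have hzc : ∀ s ∈ S, s * z * s⁻¹ = z := fun s hs => by rw [h.sit.z_centr s hs, mul_inv_cancel_right]
  have hz2 := h.sit.qr.zz
  have key : ∀ x ∈ S, ∀ y ∈ S, x * y * t * (x * y)⁻¹ = y * x * t * (y * x)⁻¹ := by
    intro x hx y hy
    have e1 : x * y * t * (x * y)⁻¹ = x * (y * t * y⁻¹) * x⁻¹ := by group
    have e2 : y * x * t * (y * x)⁻¹ = y * (x * t * x⁻¹) * y⁻¹ := by group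
    have e3 : x * (t * z) * x⁻¹ = (x * t * x⁻¹) * z := by
      calc x * (t * z) * x⁻¹ = (x * t * x⁻¹) * (x * z * x⁻¹) := by group
        _ = _ := by rw [hzc x hx]
    have e4 : y * (t * z) * y⁻¹ = (y * t * y⁻¹) * z := by
      calc y * (t * z) * y⁻¹ = (y * t * y⁻¹) * (y * z * y⁻¹) := by group
        _ = _ := by rw [hzc y hy]
    rw [e1, e2]
    rcases h.Vn x hx with hx' | hx' <;> rcases h.Vn y hy with hy' | hy'
    · rw [hy', hx', hy']
    · rw [hy', e3, hx', hy']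
    · rw [hy', hx', e4, hy']
    · rw [hy', hx', e3, e4, hx', hy']
  have h1 := key x⁻¹ (inv_mem hx) y⁻¹ (inv_mem hy)
  calc (x * y * x⁻¹ * y⁻¹) * t = x * y * (x⁻¹ * y⁻¹ * t * (x⁻¹ * y⁻¹)⁻¹) * (x⁻¹ * y⁻¹) := by group
    _ = x * y * (y⁻¹ * x⁻¹ * t * (y⁻¹ * x⁻¹)⁻¹) * (x⁻¹ * y⁻¹) := by rw [h1]
    _ = t * (x * y * x⁻¹ * y⁻¹) := by group

/-- `S' ≤ M`. -/
lemma CaseA.comm_M {x y : Ω} (hx : x ∈ S) (hy : y ∈ S) :
    x * y * x⁻¹ * y⁻¹ ∈ Subgroup.zpowers a ⊔ Subgroup.zpowers d :=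
  h.cM _ (mem_CS.2 ⟨mul_mem (mul_mem (mul_mem hx hy) (inv_mem hx)) (inv_mem hy), h.conj_t hx hy⟩) (h.sit.comm_a hx hy)

lemma CaseA.M_conj {x y : Ω} (hx : x ∈ S) (hy : y ∈ Subgroup.zpowers a ⊔ Subgroup.zpowers d) :
    x * y * x⁻¹ ∈ Subgroup.zpowers a ⊔ Subgroup.zpowers d := by
  have h1 := mul_mem (h.comm_M hx (h.MS hy)) hy
  simpa using h1

lemma CaseA.bt : b * t * b⁻¹ = t * z := by
  have h1 : b * d * b⁻¹ = d * a⁻¹ := by rw [h.bd, mul_inv_cancel_right]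
  have hc : Commute d a⁻¹ := (show Commute d a from h.da).inv_right
  rw [h.td, ← conj_pow, h1, hc.mul_pow, inv_pow, ← h.sit.qr.hz, h.sit.qr.zinv]

lemma CaseA.omega {x : Ω} (hx : x ∈ Subgroup.zpowers a ⊔ Subgroup.zpowers d) (h2 : x * x = 1) :
    x = 1 ∨ x = z ∨ x = t ∨ x = t * z := by
  obtain ⟨i, j, rfl⟩ := h.mem_M.1 hx
  have hc : Commute d a := h.da
  have hm := h.sit.qr.m3
  have h3 : a ^ i * a ^ i * (d ^ j * d ^ j) = 1 := by
    rw [← h2]
    have h1 : d ^ j * a ^ i = a ^ i * d ^ j := (hc.zpow_zpow j i).eq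
    calc a ^ i * a ^ i * (d ^ j * d ^ j) = a ^ i * (a ^ i * d ^ j) * d ^ j := by group
      _ = a ^ i * (d ^ j * a ^ i) * d ^ j := by rw [h1]
      _ = a ^ i * d ^ j * (a ^ i * d ^ j) := by group
  have h4 : a ^ i * a ^ i = 1 := by
    have h5 : a ^ i * a ^ i ∈ Subgroup.zpowers a ⊓ Subgroup.zpowers d := by
      refine ⟨mul_mem (Subgroup.zpow_mem _ (Subgroup.mem_zpowers a) i) (Subgroup.zpow_mem _ (Subgroup.mem_zpowers a) i), ?_⟩
      rw [mul_eq_one_iff_eq_inv.1 h3]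
      exact Subgroup.inv_mem _ (mul_mem (Subgroup.zpow_mem _ (Subgroup.mem_zpowers d) j) (Subgroup.zpow_mem _ (Subgroup.mem_zpowers d) j))
    rw [h.disj] at h5
    exact h5
  have h6 : d ^ j * d ^ j = 1 := by rw [h4, one_mul] at h3; exact h3
  have h7 : a ^ i = 1 ∨ a ^ i = z := by
    by_cases h8 : a ^ i = 1
    · exact Or.inl h8
    · right
      rw [h.sit.qr.hz]
      exact invol_unique (by omega) h.sit.qr.oa (Subgroup.zpow_mem _ (Subgroup.mem_zpowers a) i) h8 h4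
  have h8 : d ^ j = 1 ∨ d ^ j = t := by
    by_cases h8 : d ^ j = 1
    · exact Or.inl h8
    · right
      rw [h.td]
      exact invol_unique (by omega) h.od (Subgroup.zpow_mem _ (Subgroup.mem_zpowers d) j) h8 h6
  rcases h7 with h7 | h7 <;> rcases h8 with h8 | h8 <;> rw [h7, h8]
  · left; rw [one_mul]
  · right; right; left; rw [one_mul]
  · right; left; rw [mul_one]
  · right; right; right; exact h.tzt.symm

section e
variable {e : Ω → ZMod 2} (he : ∀ (s : Ω) (j : ℤ), s⁻¹ * b * s = b * a ^ j → e s = (j : ZMod 2))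
    (hmul : ∀ s ∈ S, ∀ s' ∈ S, e (s * s') = e s + e s')
include he

lemma CaseA.e_one : e 1 = 0 := by
  have := he 1 0 (by simp)
  simpa using this

lemma CaseA.e_a : e a = 0 := by
  rw [he a 2 h.sit.qr.a_inv_b]; decide

lemma CaseA.e_b : e b = 0 := by
  have := he b 0 (by simp)
  simpa using this

lemma CaseA.e_d : e d = 1 := by
  have h1 : d⁻¹ * b * d = b * a ^ (1 : ℤ) := by
    rw [zpow_one, h.sit.qr.ba]
    calc d⁻¹ * b * d = d⁻¹ * (b * d) := by group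
      _ = a⁻¹ * b := by rw [h.bd]; group
  rw [he d 1 h1]; simp

lemma CaseA.e_K {x : Ω} (hx : x ∈ centralizerIn S R) : e x = 0 := by
  have h1 : x⁻¹ * b * x = b * a ^ (0 : ℤ) := by
    rw [zpow_zero, mul_one, mul_assoc, ← (mem_cen.1 hx).2 b h.sit.qr.bR, inv_mul_cancel_left]
  rw [he x 0 h1]; simp

include hmul

lemma CaseA.e_inv {x : Ω} (hx : x ∈ S) : e x⁻¹ = e x := by
  have h1 := hmul x hx x⁻¹ (inv_mem hx)
  rw [mul_inv_cancel, h.e_one he] at h1
  have h2 : ∀ u v : ZMod 2, 0 = u + v → v = u := by decide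
  exact h2 _ _ h1

lemma CaseA.e_conj {x y : Ω} (hx : x ∈ S) (hy : y ∈ S) : e (y * x * y⁻¹) = e x := by
  rw [hmul _ (mul_mem hy hx) _ (inv_mem hy), hmul _ hy _ hx, h.e_inv he hmul hy]
  have h2 : ∀ u v : ZMod 2, u + v + u = v := by decide
  exact h2 _ _

lemma CaseA.e_zpow {x : Ω} (hx : x ∈ S) (i : ℤ) : e (x ^ i) = i * e x := by
  induction i using Int.induction_on with
  | zero => rw [zpow_zero, h.e_one he]; simp
  | succ i ih =>
    rw [zpow_add, zpow_one, hmul _ (zpow_mem hx _) _ hx, ih]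
    push_cast; ring
  | pred i ih =>
    rw [sub_eq_add_neg, zpow_add, zpow_neg_one, hmul _ (zpow_mem hx _) _ (inv_mem hx), ih, h.e_inv he hmul hx]
    have h2 : e x = - e x := by
      have : ∀ u : ZMod 2, u = -u := by decide
      exact this _
    push_cast
    rw [add_mul]
    nth_rw 2 [h2]
    ring

lemma CaseA.e_M {x : Ω} (hx : x ∈ Subgroup.zpowers a ⊔ Subgroup.zpowers d) :
    e x = 0 ↔ x ^ 2 ^ (m - 1) = 1 ∨ x ^ 2 ^ (m - 1) = z := by
  obtain ⟨i, j, rfl⟩ := h.mem_M.1 hx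
  have hc : Commute d a := h.da
  have h1 : (a ^ i * d ^ j) ^ 2 ^ (m - 1) = z ^ i * t ^ j := by
    rw [(hc.symm.zpow_zpow i j).mul_pow, h.sit.qr.hz, h.td, ← zpow_natCast, ← zpow_natCast, ← zpow_natCast, ← zpow_natCast,
      ← zpow_mul, ← zpow_mul, ← zpow_mul, ← zpow_mul, mul_comm i, mul_comm j]
  have h2 : e (a ^ i * d ^ j) = j := by
    rw [hmul _ (zpow_mem h.sit.aS _) _ (zpow_mem h.dS _), h.e_zpow he hmul h.sit.aS, h.e_zpow he hmul h.dS, h.e_a he,
      h.e_d he]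
    ring
  rw [h1, h2]
  have h3 : z ^ i = 1 ∨ z ^ i = z := by
    rcases Int.even_or_odd i with ⟨l, rfl⟩ | ⟨l, rfl⟩
    · left; rw [← two_mul, zpow_mul, zpow_two, h.sit.qr.zz, one_zpow]
    · right; rw [zpow_add, zpow_mul, zpow_two, h.sit.qr.zz, one_zpow, one_mul, zpow_one]
  rcases Int.even_or_odd j with ⟨l, rfl⟩ | ⟨l, rfl⟩
  · have h4 : t ^ (l + l) = 1 := by rw [← two_mul, zpow_mul, zpow_two, h.tt, one_zpow]
    rw [h4, mul_one]
    refine ⟨fun _ => h3, fun _ => ?_⟩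
    rw [← two_mul]
    push_cast
    have : (2 : ZMod 2) = 0 := by decide
    rw [this, zero_mul]
  · have h4 : t ^ (2 * l + 1) = t := by rw [zpow_add, zpow_mul, zpow_two, h.tt, one_zpow, one_mul, zpow_one]
    rw [h4]
    constructor
    · intro h5
      exfalso
      push_cast at h5
      have : (2 : ZMod 2) = 0 := by decide
      rw [this, zero_mul, zero_add] at h5
      exact one_ne_zero h5
    · rintro h5
      exfalso
      rcases h3 with h3 | h3 <;> rw [h3] at h5 <;> rcases h5 with h5 | h5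
      · exact h.t1 (by rwa [one_mul] at h5)
      · exact h.v.ne (by rwa [one_mul] at h5)
      · rw [← h.tzt] at h5; exact h.tz1 h5
      · rw [← h.tzt] at h5; exact h.tzz h5

end e

end

end Cfsg.Agent.H784.Q
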