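import Cfsg.Agent.H744.EssRad
import Cfsg.Agent.H802.FusEss
import Cfsg.Agent.H780.Heis

/-!
# Chains in essential subgroups (helper780)
-/

set_option autoImplicit false

universe u

namespace Cfsg.Agent.H780

open Cfsg Cfsg.FusionSystem Cfsg.Agent.H802

/-- The automorphisms in `A` acting trivially on the factors of a descending chain ending in `1`. -/
def chainStab {P : Type*} [Group P] [Finite P] (A : Subgroup (MulAut P)) (n : ℕ)
    (c : ℕ → Subgroup P) (hanti : ∀ i, c (i + 1) ≤ c i) (hn : c n = ⊥) : Subgroup (MulAut P) := by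
  have key : ∀ κ : MulAut P, (∀ i < n, ∀ x ∈ c i, x⁻¹ * κ x ∈ c (i + 1)) → ∀ i ≤ n, ∀ x ∈ c i, κ x ∈ c i := by
    intro κ hκ i hi x hx
    rcases hi.lt_or_eq with h | rfl
    · have h1 := (c i).mul_mem hx (hanti i (hκ i h x hx))
      rwa [mul_inv_cancel_left] at h1
    · rw [hn, Subgroup.mem_bot] at hx ⊢
      rw [hx, map_one]
  exact
  { carrier := {κ | κ ∈ A ∧ ∀ i < n, ∀ x ∈ c i, x⁻¹ * κ x ∈ c (i + 1)}
    one_mem' := ⟨A.one_mem, fun i _ x _ => by simp⟩
    mul_mem' := by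
      rintro a b ⟨ha, ha1⟩ ⟨hb, hb1⟩
      refine ⟨A.mul_mem ha hb, fun i hi x hx => ?_⟩
      rw [MulAut.mul_apply]
      have h5 : x⁻¹ * a (b x) = (x⁻¹ * a x) * (a (x⁻¹ * b x)) := by
        rw [map_mul, map_inv]; group
      rw [h5]
      exact (c (i + 1)).mul_mem (ha1 i hi x hx) (key a ha1 (i + 1) hi _ (hb1 i hi x hx))
    inv_mem' := by
      rintro a ⟨ha, ha1⟩
      refine ⟨A.inv_mem ha, fun i hi x hx => ?_⟩
      have key' : ∀ i ≤ n, ∀ x ∈ c i, a⁻¹ x ∈ c i := by
        intro i hi x hx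
        have hinj : Function.Injective (fun w : c i => (⟨a w, key a ha1 i hi w w.2⟩ : c i)) := by
          intro v w hvw
          exact Subtype.ext (a.injective (congrArg Subtype.val hvw))
        obtain ⟨w, hw⟩ := Finite.surjective_of_injective hinj ⟨x, hx⟩
        have hw' : a w = x := congrArg Subtype.val hw
        have h6 : a⁻¹ x = w := by rw [← hw']; exact a.symm_apply_apply w
        rw [h6]
        exact w.2
      have h7 : x⁻¹ * a⁻¹ x = (a⁻¹ (x⁻¹ * a x))⁻¹ := by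
        rw [map_mul, map_inv]
        have h8 : a⁻¹ (a x) = x := a.symm_apply_apply x
        rw [h8]; group
      rw [h7]
      exact (c (i + 1)).inv_mem (key' (i + 1) hi _ (ha1 i hi x hx)) }

theorem mem_chainStab {P : Type*} [Group P] [Finite P] {A : Subgroup (MulAut P)} {n : ℕ}
    {c : ℕ → Subgroup P} {hanti : ∀ i, c (i + 1) ≤ c i} {hn : c n = ⊥} {κ : MulAut P} :
    κ ∈ chainStab A n c hanti hn ↔ κ ∈ A ∧ ∀ i < n, ∀ x ∈ c i, x⁻¹ * κ x ∈ c (i + 1) := Iff.rfl

theorem chainStab_isPGroup {P : Type*} [Group P] [Finite P] {p : ℕ} [Fact p.Prime] (hP : IsPGroup p P)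
    (A : Subgroup (MulAut P)) (n : ℕ) (c : ℕ → Subgroup P) (hanti : ∀ i, c (i + 1) ≤ c i)
    (h0 : c 0 = ⊤) (hn : c n = ⊥) : IsPGroup p (chainStab A n c hanti hn) := by
  rintro ⟨κ, hκ⟩
  have hκ' := mem_chainStab.1 hκ
  obtain ⟨k, hk⟩ := H759.exists_pow_eq_one_of_chain hP κ n c h0 hn (fun i hi x hx => by
    rcases hi.lt_or_eq with h | rfl
    · have h1 := (c i).mul_mem hx (hanti i (hκ'.2 i h x hx))
      rwa [mul_inv_cancel_left] at h1
    · rw [hn, Subgroup.mem_bot] at hx ⊢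
      rw [hx, map_one]) hκ'.2
  exact ⟨k, Subtype.ext hk⟩

theorem chainStab_normal {P : Type*} [Group P] [Finite P] (A : Subgroup (MulAut P)) (n : ℕ)
    (c : ℕ → Subgroup P) (hanti : ∀ i, c (i + 1) ≤ c i) (hn : c n = ⊥)
    (hinv : ∀ α ∈ A, ∀ i, ∀ x ∈ c i, α x ∈ c i) :
    ∀ a ∈ A, ∀ k ∈ chainStab A n c hanti hn, a * k * a⁻¹ ∈ chainStab A n c hanti hn := by
  intro a ha k hk
  rw [mem_chainStab] at hk ⊢
  refine ⟨A.mul_mem (A.mul_mem ha hk.1) (A.inv_mem ha), fun i hi x hx => ?_⟩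
  have h1 := hk.2 i hi _ (hinv a⁻¹ (A.inv_mem ha) i x hx)
  have h2 := hinv a ha (i + 1) _ h1
  rw [map_mul, map_inv] at h2
  have h3 : a (a⁻¹ x) = x := a.apply_symm_apply x
  rwa [h3] at h2

variable {Ω : Type u} [Group Ω] {S : Subgroup Ω}

/-- A `p`-subgroup of `Aut_F(P)` containing the Sylow subgroup `Aut_S(P)` is contained in it. -/
theorem le_autInducedBy_of_le {p : ℕ} [Fact p.Prime] {F : FusionSystem S} {P : Subgroup Ω}
    (hP : F.IsFullyAutomized p P) {K : Subgroup (MulAut P)} (hK : K ≤ F.autGroup P)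
    (hKp : IsPGroup p K) (hTK : autInducedBy S P ≤ K) : K ≤ autInducedBy S P := by
  obtain ⟨-, R, hR⟩ := hP
  have h5 : IsPGroup p (K.subgroupOf (F.autGroup P)) :=
    hKp.of_equiv (Subgroup.subgroupOfEquivOfLe hK).symm
  have h6 : (R : Subgroup (F.autGroup P)) ≤ K.subgroupOf (F.autGroup P) := by
    rw [hR]
    exact fun x hx => hTK hx
  have h7 := R.is_maximal' h5 h6
  intro x hx
  have h8 : (⟨x, hK hx⟩ : F.autGroup P) ∈ K.subgroupOf (F.autGroup P) := hx
  rw [h7, hR] at h8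
  exact h8

/-- `Aut_S(P)` is a Sylow subgroup of every intermediate group. -/
theorem exists_sylow_of_le {p : ℕ} [Fact p.Prime] {F : FusionSystem S} {P : Subgroup Ω}
    (hS : IsPGroup p S)
    (hP : F.IsFullyAutomized p P) {G : Subgroup (MulAut P)} (hG : G ≤ F.autGroup P)
    (hTG : autInducedBy S P ≤ G) :
    ∃ R : Sylow p G, (R : Subgroup G) = (autInducedBy S P).subgroupOf G := by
  refine ⟨{ toSubgroup := (autInducedBy S P).subgroupOf G
            isPGroup' := (isPGroup_autInducedBy hS P).of_equiv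
              (Subgroup.subgroupOfEquivOfLe hTG).symm
            is_maximal' := ?_ }, rfl⟩
  intro Q hQ hle
  have h1 : IsPGroup p (Q.map G.subtype) := hQ.map _
  have h2 : Q.map G.subtype ≤ F.autGroup P := by
    rintro _ ⟨x, -, rfl⟩
    exact hG x.2
  have h3 : autInducedBy S P ≤ Q.map G.subtype := by
    intro x hx
    exact ⟨⟨x, hTG hx⟩, hle hx, rfl⟩
  have h4 := le_autInducedBy_of_le hP h2 h1 h3
  apply le_antisymm
  · intro x hx
    exact h4 ⟨x, hx, rfl⟩
  · exact hle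

/-- For an essential subgroup, `Aut_S(P)` is not normal in `Aut_F(P)`. -/
theorem not_normal_of_isEssential [Finite S] {p : ℕ} [Fact p.Prime] (hS : IsPGroup p S)
    {F : FusionSystem S} (hF : F.IsSaturated p) {P : Subgroup Ω} (hP : F.IsEssential p P)
    (hn : ∀ g ∈ F.autGroup P, ∀ u ∈ autInducedBy S P, g * u * g⁻¹ ∈ autInducedBy S P) : False := by
  have h1 := exists_normal_sylow_of_normal hS hF hP.2.1 hn
  exact ne_of_isEssential hS hF hP (H794.eq_top_of_p_closed hS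
    (isFullyAutomized_of_isFullyNormalized hS hF hP.2.1) hP.1
    (H744.isRadical_of_isEssential hS hP) h1)

/-- In an essential subgroup, an element of `S` stabilizing a chain of invariant subgroups lies in `P`. -/
theorem mem_of_chain [Finite S] {p : ℕ} [Fact p.Prime] (hS : IsPGroup p S)
    {F : FusionSystem S} {P : Subgroup Ω} (hP : F.IsEssential p P)
    (n : ℕ) (c : ℕ → Subgroup Ω) (h0 : P ≤ c 0) (hanti : ∀ i, c (i + 1) ≤ c i) (hn : c n = ⊥)
    (hinv : ∀ α ∈ F.autGroup P, ∀ i, ∀ x : P, (x : Ω) ∈ c i → ((α x : P) : Ω) ∈ c i)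
    {g : Ω} (hg : g ∈ S) (hgP : ∀ x ∈ P, g * x * g⁻¹ ∈ P)
    (hst : ∀ i < n, ∀ x ∈ P, x ∈ c i → x⁻¹ * (g * x * g⁻¹) ∈ c (i + 1)) : g ∈ P := by
  have hfP : Finite P := finite_of_le hP.1.1
  have hnorm : g ∈ Subgroup.normalizer (P : Set Ω) := by
    have hinj : Function.Injective (fun x : P => (⟨g * x * g⁻¹, hgP x x.2⟩ : P)) := by
      intro a b hab
      have := congrArg Subtype.val hab
      exact Subtype.ext (mul_left_cancel (mul_right_cancel this))
    rw [Subgroup.mem_normalizer_iff]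
    intro x
    refine ⟨fun hx => hgP x hx, fun hx => ?_⟩
    obtain ⟨y, hy⟩ := Finite.surjective_of_injective hinj ⟨_, hx⟩
    have := mul_left_cancel (mul_right_cancel (congrArg Subtype.val hy))
    rw [← this]
    exact y.2
  obtain ⟨τ, hτ⟩ := exists_conjAut hnorm
  let c' : ℕ → Subgroup P := fun i => (c i).subgroupOf P
  have hanti' : ∀ i, c' (i + 1) ≤ c' i := fun i x hx => hanti i hx
  have hn' : c' n = ⊥ := by
    show (c n).subgroupOf P = ⊥
    rw [hn]
    simp
  have h0' : c' 0 = ⊤ := by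
    rw [eq_top_iff]
    exact fun x _ => h0 x.2
  set K := chainStab (F.autGroup P) n c' hanti' hn' with hK
  have hKp : IsPGroup p K := chainStab_isPGroup (hS.to_le hP.1.1) _ n c' hanti' h0' hn'
  have hτK : τ ∈ K := by
    rw [hK, mem_chainStab]
    refine ⟨autInducedBy_le_autGroup F hP.1.1 ((mem_autInducedBy_iff S P τ).2 ⟨g, hg, hτ⟩), ?_⟩
    intro i hi x hx
    show (x : Ω)⁻¹ * (τ x : P) ∈ c (i + 1)
    rw [hτ]
    exact hst i hi x x.2 hx
  have hKn : (K.subgroupOf (F.autGroup P)).Normal := by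
    refine ⟨fun x hx a => ?_⟩
    exact chainStab_normal (F.autGroup P) n c' hanti' hn' (fun α hα i x hx => hinv α hα i x hx)
      a a.2 x hx
  have h1 : K.subgroupOf (F.autGroup P) ≤ pCore p (F.autGroup P) :=
    H794.le_pCore hKn (hKp.of_equiv (Subgroup.subgroupOfEquivOfLe
      (fun k hk => (mem_chainStab.1 hk).1)).symm)
  have h2 := (H744.isRadical_of_isEssential hS hP).2
  have h3 : τ ∈ Inn P := by
    rw [← h2]
    exact ⟨⟨τ, (mem_chainStab.1 hτK).1⟩, h1 hτK, rfl⟩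
  exact H744.mem_of_inn hP.1 hg hτ h3

end Cfsg.Agent.H780
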