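import Cfsg.Agent.H759.FusFactor
import Cfsg.Agent.H802.FusBasic

/-!
# Automorphism groups and factor systems (helper780)

Lifting automorphisms of the factor system `F/T`, and of order prime to `p`; induced automorphisms.
-/

set_option autoImplicit false

namespace Cfsg.Agent.H780

open Cfsg Cfsg.FusionSystem

variable {Ω : Type*} [Group Ω] {S : Subgroup Ω} {Ω' : Type*} [Group Ω'] {S' : Subgroup Ω'}
variable {F : FusionSystem S} {T : Subgroup Ω} {θ : S →* Ω'} {E : FusionSystem S'}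

/-- Every `E`-automorphism of `P'` lifts to an `F`-automorphism of the preimage. -/
theorem exists_aut_lift [Finite S] (hE : F.IsFactorSystem T θ E) {P' : Subgroup Ω'} (hP' : P' ≤ S')
    {α' : MulAut P'} (hα' : α' ∈ E.autGroup P') :
    ∃ α ∈ F.autGroup (preimageAlong θ P'), ∀ (x : preimageAlong θ P')
      (hx : θ ⟨x, H759.preimageAlong_le x.2⟩ ∈ P'),
      θ ⟨(α x : preimageAlong θ P'), H759.preimageAlong_le (α x).2⟩ = (α' ⟨_, hx⟩ : P') := by
  have h1 := (H802.mem_autGroup_iff E hP' α').1 hα'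
  obtain ⟨φ, hφ, hφe⟩ := H759.exists_map_of_factor hE h1
  have hPS : preimageAlong θ P' ≤ S := H759.preimageAlong_le
  have hfin : Finite (preimageAlong θ P') := H802.finite_of_le hPS
  have hmaps : ∀ x : preimageAlong θ P', φ x ∈ preimageAlong θ P' := by
    intro x
    obtain ⟨hxS, hx'⟩ := H759.mem_preimageAlong.1 x.2
    have hy := (F.le_of_mem hφ).2 x
    have h2 := hφe x x.2 hxS hx' hy
    refine H759.mem_preimageAlong.2 ⟨hy, ?_⟩
    have h3 : θ ⟨φ x, hy⟩ = θ ⟨φ ⟨x, x.2⟩, hy⟩ := rfl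
    rw [h3, ← h2]
    exact (α' _).2
  have hr := H802.range_eq_of_mapsTo hφ hmaps
  obtain ⟨α, hα, hαe⟩ := H802.exists_aut hφ hr
  refine ⟨α, hα, fun x hx => ?_⟩
  have hy := (F.le_of_mem hφ).2 x
  have h2 := hφe x x.2 (H759.preimageAlong_le x.2) hx hy
  have h3 : (⟨(α x : preimageAlong θ P'), H759.preimageAlong_le (α x).2⟩ : S) = ⟨φ x, hy⟩ :=
    Subtype.ext (hαe x)
  rw [h3]
  exact h2.symm

/-- For `p'`-automorphisms the lift can be chosen of order prime to `p`. -/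
theorem exists_aut_lift_coprime [Finite S] {p : ℕ} [Fact p.Prime] (hE : F.IsFactorSystem T θ E)
    {P' : Subgroup Ω'} (hP' : P' ≤ S') {α' : MulAut P'} (hα' : α' ∈ E.autGroup P')
    (ho : (orderOf α').Coprime p) :
    ∃ α ∈ F.autGroup (preimageAlong θ P'), (orderOf α).Coprime p ∧ ∀ (x : preimageAlong θ P')
      (hx : θ ⟨x, H759.preimageAlong_le x.2⟩ ∈ P'),
      θ ⟨(α x : preimageAlong θ P'), H759.preimageAlong_le (α x).2⟩ = (α' ⟨_, hx⟩ : P') := by
  obtain ⟨α, hα, hαe⟩ := exists_aut_lift hE hP' hα'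
  have hfin : Finite (preimageAlong θ P') := H802.finite_of_le H759.preimageAlong_le
  have hp : p.Prime := Fact.out
  -- powers
  have hmem : ∀ x : preimageAlong θ P', θ ⟨x, H759.preimageAlong_le x.2⟩ ∈ P' :=
    fun x => (H759.mem_preimageAlong.1 x.2).2
  have hpow : ∀ (n : ℕ) (x : preimageAlong θ P'),
      θ ⟨((α ^ n) x : preimageAlong θ P'), H759.preimageAlong_le ((α ^ n) x).2⟩ =
        ((α' ^ n) ⟨_, hmem x⟩ : P') := by
    intro n
    induction n with
    | zero => intro x; rfl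
    | succ n ih =>
      intro x
      have h1 := ih (α x)
      have h2 : (⟨θ ⟨(α x : preimageAlong θ P'), H759.preimageAlong_le (α x).2⟩, hmem (α x)⟩ : P') =
          α' ⟨_, hmem x⟩ := Subtype.ext (hαe x (hmem x))
      rw [h2] at h1
      exact h1
  have hn : orderOf α ≠ 0 := (orderOf_pos α).ne'
  set n := orderOf α with hn'
  set a := p ^ n.factorization p with ha
  set b := n / p ^ n.factorization p with hb
  have hab : a * b = n := Nat.ordProj_mul_ordCompl_eq_self n p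
  have hbp : Nat.Coprime p b := Nat.coprime_ordCompl hp hn
  have hcop : Nat.Coprime a b := Nat.Coprime.pow_left _ hbp
  -- k ≡ 0 mod a, k ≡ 1 mod b
  obtain ⟨k, hka, hkb⟩ := Nat.chineseRemainder hcop 0 1
  -- order of α' divides b
  have hdvd : orderOf α' ∣ n := by
    refine orderOf_dvd_of_pow_eq_one ?_
    apply MulEquiv.ext
    intro y
    apply Subtype.ext
    have hy : (y : Ω') ∈ θ.range := by
      rw [hE.2.2.1]
      exact hP' y.2
    obtain ⟨s, hs⟩ := hy
    have hsP : (s : Ω) ∈ preimageAlong θ P' := H759.mem_preimageAlong.2 ⟨s.2, by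
      show θ s ∈ P'
      rw [hs]; exact y.2⟩
    have h1 := hpow n ⟨s, hsP⟩
    have h2 : α ^ n = 1 := pow_orderOf_eq_one α
    rw [h2] at h1
    have h3 : (⟨θ ⟨((⟨(s : Ω), hsP⟩ : preimageAlong θ P') : Ω), H759.preimageAlong_le hsP⟩,
        hmem ⟨s, hsP⟩⟩ : P') = y := Subtype.ext hs
    rw [h3] at h1
    rw [← h1]
    exact hs
  have hdvdb : orderOf α' ∣ b := by
    have h1 : (orderOf α').Coprime a := Nat.Coprime.pow_right _ ho
    rw [← hab] at hdvd
    exact h1.dvd_of_dvd_mul_left hdvd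
  refine ⟨α ^ k, pow_mem hα k, ?_, fun x hx => ?_⟩
  · -- order of α ^ k divides b
    have h1 : orderOf (α ^ k) ∣ b := by
      refine orderOf_dvd_of_pow_eq_one ?_
      rw [← pow_mul]
      obtain ⟨c, hc⟩ := (Nat.modEq_zero_iff_dvd.1 hka)
      rw [hc, mul_comm a c, mul_assoc, hab, mul_comm c n, pow_mul, hn', pow_orderOf_eq_one, one_pow]
    exact Nat.Coprime.coprime_dvd_left h1 hbp.symm
  · rw [hpow k x]
    have h1 : α' ^ k = α' := by
      have h2 : k ≡ 1 [MOD orderOf α'] := hkb.of_dvd hdvdb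
      have h3 := pow_eq_pow_iff_modEq.2 h2
      rw [h3, pow_one]
    rw [h1]

/-- An `F`-automorphism of `Q ≥ T` induces an `E`-automorphism of the image of `Q`. -/
theorem exists_aut_induced [Finite S] (hT : F.StronglyClosed T) (hE : F.IsFactorSystem T θ E)
    {Q : Subgroup Ω} (hQS : Q ≤ S) (hTQ : T ≤ Q) {α : MulAut Q} (hα : α ∈ F.autGroup Q) :
    ∃ α' ∈ E.autGroup (imageAlong θ Q), ∀ (x : Q) (hx : θ ⟨x, hQS x.2⟩ ∈ imageAlong θ Q),
      ((α' ⟨_, hx⟩ : imageAlong θ Q) : Ω') = θ ⟨(α x : Q), hQS (α x).2⟩ := by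
  have hQ'S' : imageAlong θ Q ≤ S' := by
    rw [← hE.2.2.1]
    exact H759.imageAlong_le_range
  have hpre : preimageAlong θ (imageAlong θ Q) ≤ Q := by
    intro x hx
    obtain ⟨hxS, hx'⟩ := H759.mem_preimageAlong.1 hx
    obtain ⟨y, hyS, hyQ, hy⟩ := H759.mem_imageAlong.1 hx'
    have h1 := (H759.theta_eq_iff hE).1 hy
    have h2 : y⁻¹ * x ∈ Q := hTQ h1
    have h3 := mul_mem hyQ h2
    rwa [mul_inv_cancel_left] at h3
  have h1 := (H802.mem_autGroup_iff F hQS α).1 hα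
  obtain ⟨φ', hφ', hφe⟩ := H759.exists_factor_map hT hE h1 hQ'S' hpre
  have hfinS' : Finite S' := by
    rw [← hE.2.2.1]
    exact Finite.of_surjective θ.rangeRestrict θ.rangeRestrict_surjective
  have hfin : Finite (imageAlong θ Q) := H802.finite_of_le hQ'S'
  have hmaps : ∀ y : imageAlong θ Q, φ' y ∈ imageAlong θ Q := by
    intro y
    obtain ⟨x, hxS, hxQ, hxy⟩ := H759.mem_imageAlong.1 y.2
    have h2 := hφe x hxQ hxS (by rw [hxy]; exact y.2) (hQS (α ⟨x, hxQ⟩).2)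
    have h3 : (⟨θ ⟨x, hxS⟩, by rw [hxy]; exact y.2⟩ : imageAlong θ Q) = y := Subtype.ext hxy
    rw [h3] at h2
    rw [h2]
    exact H759.mem_imageAlong.2 ⟨_, hQS (α ⟨x, hxQ⟩).2, (α ⟨x, hxQ⟩).2, rfl⟩
  have hr := H802.range_eq_of_mapsTo hφ' hmaps
  obtain ⟨α', hα', hαe⟩ := H802.exists_aut hφ' hr
  refine ⟨α', hα', fun x hx => ?_⟩
  rw [hαe]
  exact hφe x x.2 (hQS x.2) hx (hQS (α x).2)

end Cfsg.Agent.H780
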