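import Cfsg.Agent.H780.QuadNorm
import Cfsg.Agent.H793.ZCenter

/-!
# Characteristic `p`-functors with a quadratic element condition and the centre (helper780)
-/

set_option autoImplicit false

namespace Cfsg.Agent.H780

open Cfsg Cfsg.FusionSystem Cfsg.Agent.H752 Cfsg.Agent.H793

universe u

/-- The value of the functor at a subgroup, as a subgroup of the ambient group. -/
def fOf (W : ∀ (Q : Type u) [Group Q], Subgroup Q) {Ω : Type u} [Group Ω] (T : Subgroup Ω) : Subgroup Ω :=
  (W ↥T).map T.subtype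

section functor

variable {p : ℕ} (W : ∀ (Q : Type u) [Group Q], Subgroup Q)
  (hW2 : ∀ (Q R : Type u) [Group Q] [Group R] [Finite Q], IsPGroup p Q → ∀ φ : Q ≃* R,
    (W Q).map φ.toMonoidHom = W R)
  (hWZ : ∀ (Q : Type u) [Group Q] [Finite Q], IsPGroup p Q → Subgroup.center Q ≤ W Q)

variable {Ω : Type u} [Group Ω] {L : Type u} [Group L]

theorem fOf_le (T : Subgroup Ω) : fOf W T ≤ T := Subgroup.map_subtype_le _

include hW2 in
theorem fOf_range {T : Subgroup Ω} [Finite T] (hT : IsPGroup p T) (ι : T →* L) (hι : Function.Injective ι) :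
    fOf W ι.range = (W ↥T).map ι := by
  have h1 := hW2 T ι.range hT (MonoidHom.ofInjective hι)
  rw [fOf, ← h1, Subgroup.map_map]
  rfl

include hW2 in
theorem mem_fOf_range {T : Subgroup Ω} [Finite T] (hT : IsPGroup p T) (ι : T →* L)
    (hι : Function.Injective ι) (z : T) : ι z ∈ fOf W ι.range ↔ (z : Ω) ∈ fOf W T := by
  rw [fOf_range W hW2 hT ι hι, fOf]
  constructor
  · rintro ⟨w, hw, h⟩
    rw [hι h] at hw
    exact ⟨z, hw, rfl⟩
  · rintro ⟨w, hw, h⟩
    have : w = z := Subtype.ext h
    rw [this] at hw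
    exact ⟨z, hw, rfl⟩

include hW2 in
theorem normalizer_le_fOf (T : Subgroup Ω) [Finite T] (hT : IsPGroup p T) :
    Subgroup.normalizer (T : Set Ω) ≤ Subgroup.normalizer ((fOf W T : Subgroup Ω) : Set Ω) := by
  have key : ∀ g ∈ Subgroup.normalizer (T : Set Ω), ∀ y ∈ fOf W T, g * y * g⁻¹ ∈ fOf W T := by
    intro g hg y hy
    obtain ⟨α, hα⟩ := H802.exists_conjAut hg
    obtain ⟨w, hw, rfl⟩ := hy
    have h1 := hW2 T T hT α
    have h2 : α w ∈ W ↥T := by rw [← h1]; exact ⟨w, hw, rfl⟩
    exact ⟨α w, h2, hα w⟩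
  intro g hg
  refine Subgroup.mem_normalizer_iff.2 fun y => ⟨key g hg y, fun hy => ?_⟩
  have := key g⁻¹ (inv_mem hg) _ hy
  have h4 : g⁻¹ * (g * y * g⁻¹) * g⁻¹⁻¹ = y := by group
  rwa [h4] at this

include hWZ in
theorem mem_fOf_of_center {T : Subgroup Ω} [Finite T] (hT : IsPGroup p T) {x : Ω}
    (hx : x ∈ T ⊓ Subgroup.centralizer (T : Set Ω)) : x ∈ fOf W T := by
  refine ⟨⟨x, hx.1⟩, hWZ T hT ?_, rfl⟩
  rw [Subgroup.mem_center_iff]
  intro y
  exact Subtype.ext (Subgroup.mem_centralizer_iff.1 hx.2 y y.2)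

variable {S : Subgroup Ω} {F : FusionSystem S}

include hW2 hWZ in
/-- Goodness of `S` from goodness of `W(S)`. -/
theorem good_top_fOf [Finite S] (hS : IsPGroup p S) {x : Ω} (hx : x ∈ S ⊓ Subgroup.centralizer (S : Set Ω))
    (hJ : Good F x (fOf W S)) : Good F x S := by
  intro f hf hfS hxS
  obtain ⟨α, hα, hfα⟩ := hf.exists_aut hfS
  refine hJ f (hf.res (fOf_le W S)) ?_ (mem_fOf_of_center W hWZ hS hx)
  rintro _ ⟨w, hw, rfl⟩
  have h1 := hW2 S S hS α
  have h2 : α w ∈ W ↥S := by rw [← h1]; exact ⟨w, hw, rfl⟩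
  refine ⟨α w, h2, ?_⟩
  have h3 := hfα w w.2
  exact h3.symm

end functor

section model

variable {Ω : Type u} [Group Ω] {S : Subgroup Ω} {F : FusionSystem S} {Q : Subgroup Ω}
  {E : FusionSystem (normalizerIn S Q)} {L : Type u} [Group L] {ι : ↥(normalizerIn S Q) →* L}

/-- If `x ∈ A ≤ N_S(Q)` is fixed by `Aut_F(A)` then it is centralized by the normalizer of `A` in the model of
`N_F(Q)`. -/
theorem comm_of_good (hE : F.IsNormalizerSystem Q E) (hreal : E.IsRealizedBy ι) {A : Subgroup Ω}
    (hA : A ≤ normalizerIn S Q) {x : Ω} (hxA : x ∈ A) (hgood : Good F x A) {B : Subgroup L}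
    (hB : B = (A.subgroupOf (normalizerIn S Q)).map ι) {g : L}
    (hg : g ∈ Subgroup.normalizer (B : Set L)) : g * ι ⟨x, hA hxA⟩ = ι ⟨x, hA hxA⟩ * g := by
  have hιi := hreal.1
  have hmem : ∀ z : ↥(normalizerIn S Q), ι z ∈ B ↔ (z : Ω) ∈ A := by
    intro z
    rw [hB]
    constructor
    · rintro ⟨w, hw, h⟩
      rw [hιi h] at hw
      exact hw
    · exact fun h => ⟨z, h, rfl⟩
  have hBr : ∀ b ∈ B, ∃ n, ι n = b := by
    intro b hb
    rw [hB] at hb
    obtain ⟨n, -, hn⟩ := hb
    exact ⟨n, hn⟩
  obtain ⟨k, hk, hke⟩ := H753.exists_mp_of_conj hreal hA g (fun y => by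
    have h1 := (hmem ⟨y, hA y.2⟩).2 y.2
    exact hBr _ ((Subgroup.mem_normalizer_iff.1 hg _).1 h1))
  have hkF : Mp F A k := ((H753.mp_normalizerSystem_iff hE).1 hk).1
  have hkx := hgood k hkF (fun y hy => by
    obtain ⟨h1, h2⟩ := hke y hy
    have h4 := (Subgroup.mem_normalizer_iff.1 hg _).1 ((hmem ⟨y, hA hy⟩).2 hy)
    rw [← h2] at h4
    exact (hmem ⟨k y, h1⟩).1 h4) hxA
  obtain ⟨h1, h2⟩ := hke x hxA
  have h3 : (⟨k x, h1⟩ : ↥(normalizerIn S Q)) = ⟨x, hA hxA⟩ := Subtype.ext hkx
  rw [h3] at h2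
  calc g * ι ⟨x, hA hxA⟩ = g * ι ⟨x, hA hxA⟩ * g⁻¹ * g := by group
    _ = ι ⟨x, hA hxA⟩ * g := by rw [← h2]

end model

/-- **The centre and characteristic functors with a quadratic element condition.** -/
theorem functor_center {p : ℕ} [Fact p.Prime] (W : ∀ (Q : Type u) [Group Q], Subgroup Q)
    (hW2 : ∀ (Q R : Type u) [Group Q] [Group R] [Finite Q], IsPGroup p Q → ∀ φ : Q ≃* R,
      (W Q).map φ.toMonoidHom = W R)
    (hWZ : ∀ (Q : Type u) [Group Q] [Finite Q], IsPGroup p Q → Subgroup.center Q ≤ W Q)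
    (hq : ∀ (G : Type u) [Group G] [Finite G] (P : Sylow p G),
      ¬ (((W ↥(P : Subgroup G)).map (P : Subgroup G).subtype : Subgroup G)).Normal →
      ∃ g : G, g ∈ (P : Subgroup G) ∧ g ∉ Cfsg.pCore p G ∧
        ⁅⁅Subgroup.center ↥(Cfsg.pCore p G) |>.map (Cfsg.pCore p G).subtype, Subgroup.zpowers g⁆,
          Subgroup.zpowers g⁆ = ⊥)
    {Ω : Type u} [Group Ω] {S : Subgroup Ω} [Finite S] (hS : IsPGroup p S) {F : FusionSystem S}
    (hF : F.IsSaturated p) {z : Ω} (hz : z ∈ S ⊓ Subgroup.centralizer (S : Set Ω))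
    (hJ : Good F (z ^ p) (fOf W S)) : z ^ p ∈ F.center := by
  classical
  set x := z ^ p with hxdef
  have hx : x ∈ S ⊓ Subgroup.centralizer (S : Set Ω) := Subgroup.pow_mem _ hz p
  have hxS : x ∈ S := hx.1
  have hgS : Good F x S := good_top_fOf W hW2 hWZ hS hx hJ
  -- all fully normalized subgroups are good
  have hall : ∀ R : Subgroup Ω, F.IsFullyNormalized R → Good F x R := by
    by_contra hcon
    push Not at hcon
    obtain ⟨R₀, hR₀n, hR₀b⟩ := hcon
    -- the lexicographically largest bad subgroup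
    have hfinS := H793.finite_subgroups_le (S := S)
    let B : Set (Subgroup Ω) := {R | F.IsFullyNormalized R ∧ ¬ Good F x R}
    have hBfin : B.Finite := hfinS.subset fun R hR => hR.1.1
    let w : Subgroup Ω → ℕ := fun R =>
      Nat.card (normalizerIn S R) * (Nat.card S + 1) + Nat.card R
    obtain ⟨Q, hQB, hQmax⟩ := Set.exists_max_image B w hBfin ⟨R₀, hR₀n, hR₀b⟩
    obtain ⟨hQn, hQb⟩ := hQB
    have hQS : Q ≤ S := hQn.1
    have hmax : ∀ R : Subgroup Ω, F.IsFullyNormalized R →
        (Nat.card (normalizerIn S Q) < Nat.card (normalizerIn S R) ∨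
          (Nat.card (normalizerIn S Q) ≤ Nat.card (normalizerIn S R) ∧ Nat.card Q < Nat.card R)) →
        Good F x R := by
      intro R hRn hR
      by_contra hRb
      have h1 : w R ≤ w Q := hQmax R ⟨hRn, hRb⟩
      have h2 : Nat.card Q ≤ Nat.card S := Subgroup.card_le_of_le hQS
      simp only [w] at h1
      rcases hR with hR | ⟨hR, hR'⟩
      · have h3 : (Nat.card (normalizerIn S Q) + 1) * (Nat.card S + 1) ≤
            Nat.card (normalizerIn S R) * (Nat.card S + 1) := Nat.mul_le_mul_right _ hR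
        rw [Nat.add_mul, Nat.one_mul] at h3
        omega
      · have h3 : Nat.card (normalizerIn S Q) * (Nat.card S + 1) ≤
            Nat.card (normalizerIn S R) * (Nat.card S + 1) := Nat.mul_le_mul_right _ hR
        omega
    have hext := ext_of_good hS hF hx (Nat.card (normalizerIn S Q))
      (fun R hRn hR => hmax R hRn (Or.inl hR)) hgS
    have hfix : ∀ (P : Subgroup Ω) (f : Ω → Ω), Mp F P f →
        Nat.card (normalizerIn S Q) ≤ Nat.card P → x ∈ P → f x = x :=
      fun P f hf ht hxP => fix_of_ext (hext P f hf ht) hxP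
    have hQc : F.IsCentric Q := isCentric_of_bad hS hF hQn hQb hfix
      (fun R hRn h1 h2 => hmax R hRn (Or.inr ⟨h1, h2⟩))
    -- the model of `N_F(Q)`
    obtain ⟨E, hE⟩ := H802.exists_normalizerSystem F hQS
    have hEs : E.IsSaturated p := H802.normalizerSystem_isSaturated hS hF hQn hE
    have hNS : normalizerIn S Q ≤ S := inf_le_left
    have hfinN : Finite (normalizerIn S Q) := H802.finite_of_le hNS
    have hNp : IsPGroup p (normalizerIn S Q) := hS.to_le hNS
    obtain ⟨L, hL, ι, hm, hQL, -⟩ := H771.exists_model hNp hEs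
      (H753.isNormal_normalizerSystem hQS hE) (H753.isCentric_normalizerSystem hE hQc)
    have hfinL : Finite L := hm.1
    have hreal := hm.2.1
    have hιi : Function.Injective ι := hreal.1
    obtain ⟨T, hT⟩ := hm.2.2.1
    refine hQb fun f hf hfQ hxQ => ?_
    have hQN : Q ≤ normalizerIn S Q := H802.le_normalizerIn hQS
    have hxN : x ∈ normalizerIn S Q := hQN hxQ
    have hxZN : x ∈ normalizerIn S Q ⊓ Subgroup.centralizer (normalizerIn S Q : Set Ω) :=
      ⟨hxN, Subgroup.centralizer_le hNS hx.2⟩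
    have hcen : ∀ g : L, g * ι ⟨x, hxN⟩ = ι ⟨x, hxN⟩ * g := by
      by_cases hWn : (fOf W (T : Subgroup L)).Normal
      · -- `W(N_S(Q))` is good
        have hJle := fOf_le W (normalizerIn S Q)
        have hJg : Good F x (fOf W (normalizerIn S Q)) := by
          by_cases hNeq : normalizerIn S Q = S
          · rw [hNeq]; exact hJ
          · have hJS : fOf W (normalizerIn S Q) ≤ S := hJle.trans hNS
            have hle : normalizerIn S (normalizerIn S Q) ≤
                normalizerIn S (fOf W (normalizerIn S Q)) :=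
              inf_le_inf_left _ (normalizer_le_fOf W hW2 _ hNp)
            have hfinNN : Finite (normalizerIn S (fOf W (normalizerIn S Q))) :=
              H802.finite_of_le inf_le_left
            have hlt : Nat.card (normalizerIn S Q) <
                Nat.card (normalizerIn S (fOf W (normalizerIn S Q))) :=
              (H802.card_lt_card_normalizerIn hS hNS hNeq).trans_le (Subgroup.card_le_of_le hle)
            obtain ⟨R', hRR', hR'n⟩ := H802.exists_isFullyNormalized hS hF hJS
            exact good_of_conj hS hF _ hfix hRR' hR'n hlt.le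
              (hmax R' hR'n (Or.inl (hlt.trans_le (hR'n.2 _ (H802.isConj_symm hRR')))))
        intro g
        have hxJ : x ∈ fOf W (normalizerIn S Q) := mem_fOf_of_center W hWZ hNp hxZN
        refine comm_of_good hE hreal hJle hxJ hJg (B := fOf W (T : Subgroup L)) ?_ ?_
        · rw [hT, fOf_range W hW2 hNp ι hιi]
          congr 1
          ext y
          rw [Subgroup.mem_subgroupOf]
          constructor
          · exact fun hy => ⟨y, hy, rfl⟩
          · rintro ⟨y', hy', h⟩
            rwa [← Subtype.ext h]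
        · rw [Subgroup.normalizer_eq_top]
          exact Subgroup.mem_top g
      · obtain ⟨g, hgT, hgO, hgc⟩ := hq L T hWn
        set V : Subgroup L := (Subgroup.center ↥(Cfsg.pCore p L)).map (Cfsg.pCore p L).subtype with hVdef
        have hOn : (Cfsg.pCore p L).Normal := Lib.Cores.pCore_normal p
        have hOp : IsPGroup p (Cfsg.pCore p L) := Lib.Cores.pCore_isPGroup p
        have hOT : Cfsg.pCore p L ≤ (T : Subgroup L) := Lib.Cores.pCore_le_sylow T
        have hVO : V ≤ Cfsg.pCore p L := Subgroup.map_subtype_le _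
        have hVcomm : ∀ v ∈ V, ∀ y ∈ Cfsg.pCore p L, y * v = v * y := by
          rintro _ ⟨v, hv, rfl⟩ y hy
          exact congrArg Subtype.val (Subgroup.mem_center_iff.1 hv ⟨y, hy⟩)
        have hVmem : ∀ v ∈ Cfsg.pCore p L, (∀ y ∈ Cfsg.pCore p L, y * v = v * y) → v ∈ V := by
          intro v hv h
          refine ⟨⟨v, hv⟩, Subgroup.mem_center_iff.2 fun y => Subtype.ext (h y y.2), rfl⟩
        have hVn : V.Normal := by
          refine ⟨fun v hv a => hVmem _ (hOn.conj_mem v (hVO hv) a) fun y hy => ?_⟩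
          have h1 := hVcomm v hv (a⁻¹ * y * a) (by
            have := hOn.conj_mem y hy a⁻¹
            rwa [inv_inv] at this)
          calc y * (a * v * a⁻¹) = a * (a⁻¹ * y * a * v) * a⁻¹ := by group
            _ = a * (v * (a⁻¹ * y * a)) * a⁻¹ := by rw [h1]
            _ = _ := by group
        have hVp : IsPGroup p V := hOp.to_le hVO
        have hVab : ∀ a ∈ V, ∀ b ∈ V, a * b = b * a := fun a ha b hb => hVcomm b hb a (hVO ha)
        have hgJ : g ∈ quadSub (T : Subgroup L) V := mem_quadSub_of_commutator hVn hVab hgT hgc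
        set J : Subgroup L := quadSub (T : Subgroup L) V with hJdef
        have hJT : J ≤ (T : Subgroup L) := quadSub_le _ _
        have hOJ : Cfsg.pCore p L ≤ J :=
          le_quadSub hOT (fun a ha v hv => hVcomm v hv a ha)
        have hQLO : (Q.subgroupOf (normalizerIn S Q)).map ι ≤ Cfsg.pCore p L := by
          apply le_sSup
          refine ⟨hQL, ?_⟩
          exact (hNp.to_subgroup (Q.subgroupOf (normalizerIn S Q))).map ι
        -- the preimage of `J`
        let A : Subgroup Ω := (J.comap ι).map (normalizerIn S Q).subtype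
        have hAmem : ∀ y : ↥(normalizerIn S Q), (y : Ω) ∈ A ↔ ι y ∈ J := by
          intro y
          constructor
          · rintro ⟨y', hy', h⟩
            rw [← Subtype.ext h]
            exact hy'
          · exact fun h => ⟨y, h, rfl⟩
        have hAN : A ≤ normalizerIn S Q := Subgroup.map_subtype_le _
        have hAS : A ≤ S := hAN.trans hNS
        have hfinA : Finite A := H802.finite_of_le hAS
        have hJι : ∀ y ∈ J, ∃ n, ι n = y := by
          intro y hy
          have h1 := hJT hy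
          rw [hT] at h1
          exact h1
        have hQA : Q ≤ A := by
          intro y hy
          rw [hAmem ⟨y, hQN hy⟩]
          exact hOJ (hQLO ⟨⟨y, hQN hy⟩, hy, rfl⟩)
        obtain ⟨g₀, hg₀⟩ := hJι g hgJ
        have hlt : Nat.card Q < Nat.card A := by
          refine lt_of_le_of_ne (Subgroup.card_le_of_le hQA) (fun h => hgO ?_)
          have heq : Q = A := Subgroup.eq_of_le_of_card_ge hQA h.ge
          have h1 : (g₀ : Ω) ∈ A := by
            rw [hAmem, hg₀]
            exact hgJ
          exact hQLO ⟨g₀, heq.ge h1, hg₀⟩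
        have hAnorm : normalizerIn S Q ≤ normalizerIn S A := by
          have key : ∀ a ∈ normalizerIn S Q, ∀ y ∈ A, a * y * a⁻¹ ∈ A := by
            intro a ha y hy
            have h1 : ι ⟨a, ha⟩ ∈ Subgroup.normalizer ((J : Subgroup L) : Set L) := by
              refine mem_normalizer_quadSub (P := (T : Subgroup L)) (V := V) (fun j hj => ?_)
              have h2 : ι ⟨a, ha⟩ ∈ (T : Subgroup L) := by rw [hT]; exact ⟨_, rfl⟩
              exact Subgroup.mul_mem _ (Subgroup.mul_mem _ (Subgroup.inv_mem _ h2) (hJT hj)) h2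
            have h3 := (Subgroup.mem_normalizer_iff.1 h1 _).1 ((hAmem ⟨y, hAN hy⟩).1 hy)
            have h4 : (((⟨a, ha⟩ : ↥(normalizerIn S Q)) * ⟨y, hAN hy⟩ * (⟨a, ha⟩ : ↥(normalizerIn S Q))⁻¹ :
              ↥(normalizerIn S Q)) : Ω) ∈ A := by
              rw [hAmem, map_mul, map_mul, map_inv]
              exact h3
            exact h4
          intro a ha
          refine ⟨ha.1, Subgroup.mem_normalizer_iff.2 fun y => ⟨key a ha y, fun hy => ?_⟩⟩
          have := key a⁻¹ (inv_mem ha) _ hy
          have h4 : a⁻¹ * (a * y * a⁻¹) * a⁻¹⁻¹ = y := by group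
          rwa [h4] at this
        have hcN : Nat.card (normalizerIn S Q) ≤ Nat.card (normalizerIn S A) := by
          have : Finite (normalizerIn S A) := H802.finite_of_le inf_le_left
          exact Subgroup.card_le_of_le hAnorm
        have hAg : Good F x A := by
          obtain ⟨R', hRR', hR'n⟩ := H802.exists_isFullyNormalized hS hF hAS
          have hcN' : Nat.card (normalizerIn S A) ≤ Nat.card (normalizerIn S R') :=
            hR'n.2 A (H802.isConj_symm hRR')
          exact good_of_conj hS hF _ hfix hRR' hR'n hcN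
            (hmax R' hR'n (Or.inr ⟨hcN.trans hcN', hlt.trans_eq (H802.isConj_card_eq hRR')⟩))
        have hxA : x ∈ A := hQA hxQ
        -- `z` lies in `V`
        have hzN : z ∈ normalizerIn S Q :=
          hQN (hQc.2 Q (H802.isConj_refl F hQS) ⟨hz.1, Subgroup.centralizer_le hQS hz.2⟩)
        have hzT : ∀ y ∈ (T : Subgroup L), y * ι ⟨z, hzN⟩ = ι ⟨z, hzN⟩ * y := by
          intro y hy
          rw [hT] at hy
          obtain ⟨n, rfl⟩ := hy
          rw [← map_mul, ← map_mul]
          congr 1
          exact Subtype.ext (Subgroup.mem_centralizer_iff.1 hz.2 n (hNS n.2))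
        have hzO : ι ⟨z, hzN⟩ ∈ Cfsg.pCore p L :=
          hm.2.2.2 (Subgroup.mem_centralizer_iff.2 fun y hy => hzT y (hOT hy))
        have hzV : ι ⟨z, hzN⟩ ∈ V := hVmem _ hzO fun y hy => hzT y (hOT hy)
        have hιx : ι ⟨x, hxN⟩ = ι ⟨z, hzN⟩ ^ p := by
          rw [← map_pow]
          rfl
        intro a
        rw [hιx]
        refine central_of_quadSub T V hVp hVab hzV hzT (fun b hb => ?_) a
        rw [← hιx]
        refine comm_of_good hE hreal hAN hxA hAg (B := J) ?_ hb
        ext y
        constructor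
        · intro hy
          obtain ⟨n, rfl⟩ := hJι y hy
          exact ⟨n, (hAmem n).2 hy, rfl⟩
        · rintro ⟨n, hn, rfl⟩
          exact (hAmem n).1 hn
    -- `f` is induced by an element of `L`
    have hfE : Mp E Q f := by
      rw [H753.mp_normalizerSystem_iff hE]
      have hfinQ : Finite Q := H802.finite_of_le hQS
      refine ⟨hf, hQN, fun y hy => hQN (hfQ y hy), f, ?_, fun _ _ => rfl, hfQ,
        fun y hy => hf.surj hfQ hy⟩
      rw [sup_idem]
      exact hf
    obtain ⟨g, hg⟩ := H753.exists_conj_of_mp hreal hfE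
    obtain ⟨h1, h2⟩ := hg x hxQ hxN
    rw [hcen g, mul_inv_cancel_right] at h2
    exact congrArg Subtype.val (hιi h2)
  refine mem_center_of_ext hxS fun P f hf => ?_
  exact ext_of_good hS hF hx 0 (fun R hRn _ => hall R hRn) hgS P f hf (Nat.zero_le _)

end Cfsg.Agent.H780
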