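import Cfsg.Agent.H780.Heis
import Cfsg.Agent.ClassicalGeometry.AutPSL.SylowU

/-!
# The Sylow subgroup of `SL₃(K)` is Heisenberg-like (helper780)
-/

set_option autoImplicit false

universe u

namespace Cfsg.Agent.H780

open Cfsg Cfsg.FusionSystem Cfsg.Agent.H802
open Cfsg.Agent.ClassicalGeometry.AutPSL.SylowU

/-- Heisenberg coordinates on a group. -/
structure HeisCoord (X : Type*) [Group X] (K : Type*) [Field K] where
  a : X → K
  b : X → K
  c : X → K
  a_mul : ∀ x y, a (x * y) = a x + a y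
  b_mul : ∀ x y, b (x * y) = b x + b y
  c_mul : ∀ x y, c (x * y) = c x + c y + a x * b y
  inj : ∀ x y, a x = a y → b x = b y → c x = c y → x = y
  surj : ∀ r s t : K, ∃ x, a x = r ∧ b x = s ∧ c x = t

namespace HeisCoord

variable {X : Type*} [Group X] {K : Type*} [Field K]

/-- Transport along an isomorphism. -/
def comap (H : HeisCoord X K) {Y : Type*} [Group Y] (e : Y ≃* X) : HeisCoord Y K where
  a y := H.a (e y)
  b y := H.b (e y)
  c y := H.c (e y)
  a_mul x y := by rw [map_mul, H.a_mul]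
  b_mul x y := by rw [map_mul, H.b_mul]
  c_mul x y := by rw [map_mul, H.c_mul]
  inj x y h1 h2 h3 := e.injective (H.inj _ _ h1 h2 h3)
  surj r s t := by
    obtain ⟨x, h1, h2, h3⟩ := H.surj r s t
    exact ⟨e.symm x, by rw [e.apply_symm_apply]; exact h1, by rw [e.apply_symm_apply]; exact h2,
      by rw [e.apply_symm_apply]; exact h3⟩

variable (H : HeisCoord X K)

include H in
theorem a_one : H.a 1 = 0 := by
  have := H.a_mul 1 1
  rw [mul_one] at this
  simpa using this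

include H in
theorem b_one : H.b 1 = 0 := by
  have := H.b_mul 1 1
  rw [mul_one] at this
  simpa using this

theorem a_inv (x : X) : H.a x⁻¹ = - H.a x := by
  have := H.a_mul x⁻¹ x
  rw [inv_mul_cancel, H.a_one] at this
  exact eq_neg_of_add_eq_zero_left this.symm

theorem b_inv (x : X) : H.b x⁻¹ = - H.b x := by
  have := H.b_mul x⁻¹ x
  rw [inv_mul_cancel, H.b_one] at this
  exact eq_neg_of_add_eq_zero_left this.symm

theorem comm_iff (x y : X) : x * y = y * x ↔ H.a x * H.b y = H.a y * H.b x := by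
  constructor
  · intro h
    have h1 := congrArg H.c h
    rw [H.c_mul, H.c_mul] at h1
    linear_combination h1
  · intro h
    apply H.inj
    · rw [H.a_mul, H.a_mul, add_comm]
    · rw [H.b_mul, H.b_mul, add_comm]
    · rw [H.c_mul, H.c_mul]
      linear_combination h

theorem central_iff (x : X) : (∀ y, y * x = x * y) ↔ H.a x = 0 ∧ H.b x = 0 := by
  constructor
  · intro h
    obtain ⟨y, h1, h2, -⟩ := H.surj 0 1 0
    obtain ⟨z, h3, h4, -⟩ := H.surj 1 0 0
    have h5 := (H.comm_iff _ _).1 (h y)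
    have h6 := (H.comm_iff _ _).1 (h z)
    rw [h1, h2] at h5
    rw [h3, h4] at h6
    constructor
    · simpa using h5.symm
    · simpa using h6
  · rintro ⟨h1, h2⟩ y
    rw [H.comm_iff, h1, h2]
    ring

end HeisCoord

variable {Ω : Type u} [Group Ω] {S : Subgroup Ω} {K : Type*} [Field K]

theorem isHeis_of_coord (H : HeisCoord S K) : IsHeis S := by
  have hcen : ∀ x : S, (x : Ω) ∈ centralizerIn S S ↔ H.a x = 0 ∧ H.b x = 0 := by
    intro x
    rw [← H.central_iff, mem_centralizerIn_self]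
    constructor
    · exact fun h y => Subtype.ext (h.2 y y.2)
    · exact fun h => ⟨x.2, fun y hy => congrArg Subtype.val (h ⟨y, hy⟩)⟩
  refine ⟨fun s hs t ht => ?_, fun x hx hxZ y hy z hz h1 h2 => ?_, fun x hx hxZ z hz => ?_⟩
  · have h1 := (hcen ((⟨t, ht⟩ : S)⁻¹ * (⟨s, hs⟩ * ⟨t, ht⟩ * (⟨s, hs⟩ : S)⁻¹))).2 ?_
    · exact h1
    · constructor
      · rw [H.a_mul, H.a_mul, H.a_mul, H.a_inv, H.a_inv]; ring
      · rw [H.b_mul, H.b_mul, H.b_mul, H.b_inv, H.b_inv]; ring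
  · have h3 : ¬ (H.a ⟨x, hx⟩ = 0 ∧ H.b ⟨x, hx⟩ = 0) := fun h => hxZ ((hcen ⟨x, hx⟩).2 h)
    have h4 := (H.comm_iff ⟨y, hy⟩ ⟨x, hx⟩).1 (Subtype.ext h1)
    have h5 := (H.comm_iff ⟨z, hz⟩ ⟨x, hx⟩).1 (Subtype.ext h2)
    have h6 : (⟨y, hy⟩ : S) * ⟨z, hz⟩ = ⟨z, hz⟩ * ⟨y, hy⟩ := by
      rw [H.comm_iff]
      by_cases h7 : H.a ⟨x, hx⟩ = 0
      · have h8 : H.b ⟨x, hx⟩ ≠ 0 := fun h => h3 ⟨h7, h⟩
        rw [h7, zero_mul, mul_eq_zero, or_iff_left h8] at h4 h5
        rw [h4, h5]; ring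
      · apply mul_left_cancel₀ h7
        linear_combination (-H.a ⟨z, hz⟩) * (-h4) + (H.a ⟨y, hy⟩) * (-h5)
    exact congrArg Subtype.val h6
  · have h3 : ¬ (H.a ⟨x, hx⟩ = 0 ∧ H.b ⟨x, hx⟩ = 0) := fun h => hxZ ((hcen ⟨x, hx⟩).2 h)
    have hz' := (hcen ⟨z, hz.1⟩).1 hz
    obtain ⟨r, s, hrs⟩ : ∃ r s : K, r * H.b ⟨x, hx⟩ - H.a ⟨x, hx⟩ * s = H.c ⟨z, hz.1⟩ := by
      by_cases h7 : H.b ⟨x, hx⟩ = 0
      · have h8 : H.a ⟨x, hx⟩ ≠ 0 := fun h => h3 ⟨h, h7⟩
        exact ⟨0, -(H.c ⟨z, hz.1⟩ / H.a ⟨x, hx⟩), by field_simp; ring⟩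
      · exact ⟨H.c ⟨z, hz.1⟩ / H.b ⟨x, hx⟩, 0, by field_simp; ring⟩
    obtain ⟨w, h4, h5, -⟩ := H.surj r s 0
    refine ⟨w, w.2, ?_⟩
    have h6 : w * ⟨x, hx⟩ = ⟨x, hx⟩ * ⟨z, hz.1⟩ * w := by
      apply H.inj
      · rw [H.a_mul, H.a_mul, H.a_mul, hz'.1]; ring
      · rw [H.b_mul, H.b_mul, H.b_mul, hz'.2]; ring
      · rw [H.c_mul, H.c_mul, H.c_mul, H.a_mul, hz'.1, hz'.2, h4, h5]
        linear_combination hrs
    have h7 : w * ⟨x, hx⟩ * w⁻¹ = ⟨x, hx⟩ * ⟨z, hz.1⟩ := by rw [h6]; group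
    exact congrArg Subtype.val h7

/-- Heisenberg coordinates on the unitriangular group of degree 3. -/
noncomputable def coordUpper (K : Type*) [Field K] [Finite K] : HeisCoord (upper 3 K) K where
  a g := (g : Matrix.SpecialLinearGroup (Fin 3) K).1 0 1
  b g := (g : Matrix.SpecialLinearGroup (Fin 3) K).1 1 2
  c g := (g : Matrix.SpecialLinearGroup (Fin 3) K).1 0 2
  a_mul g h := by
    show ((g : Matrix.SpecialLinearGroup (Fin 3) K).1 * (h : Matrix.SpecialLinearGroup (Fin 3) K).1) 0 1 = _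
    rw [Matrix.mul_apply, Fin.sum_univ_three, mem_upper.1 g.2 0 0 le_rfl, mem_upper.1 h.2 1 1 le_rfl,
      mem_upper.1 h.2 2 1 (by decide)]
    simp
    ring
  b_mul g h := by
    show ((g : Matrix.SpecialLinearGroup (Fin 3) K).1 * (h : Matrix.SpecialLinearGroup (Fin 3) K).1) 1 2 = _
    rw [Matrix.mul_apply, Fin.sum_univ_three, mem_upper.1 g.2 1 1 le_rfl, mem_upper.1 g.2 1 0 (by decide),
      mem_upper.1 h.2 2 2 le_rfl]
    simp
    ring
  c_mul g h := by
    show ((g : Matrix.SpecialLinearGroup (Fin 3) K).1 * (h : Matrix.SpecialLinearGroup (Fin 3) K).1) 0 2 = _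
    rw [Matrix.mul_apply, Fin.sum_univ_three, mem_upper.1 g.2 0 0 le_rfl,
      mem_upper.1 h.2 2 2 le_rfl]
    simp
    ring
  inj g h h1 h2 h3 := by
    apply Subtype.ext
    apply Subtype.ext
    ext i j
    rcases le_or_gt j i with hij | hij
    · rw [mem_upper.1 g.2 i j hij, mem_upper.1 h.2 i j hij]
    · fin_cases i <;> fin_cases j <;> first | exact h1 | exact h2 | exact h3 | (exact absurd hij (by decide))
  surj r s t := by
    refine ⟨(upperEquiv 3 K).symm (fun p => if p.1 = (0, 1) then r else if p.1 = (1, 2) then s else t),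
      ?_, ?_, ?_⟩
    · simp [upperEquiv]
    · simp [upperEquiv]
    · simp [upperEquiv]

/-- Every Sylow `p`-subgroup of `SL₃(K)` is isomorphic to the unitriangular group. -/
theorem exists_equiv_upper {K : Type*} [Field K] [Fintype K] (p : ℕ) [Fact p.Prime] [CharP K p]
    (n : ℕ) (T : Sylow p (Matrix.SpecialLinearGroup (Fin n) K)) :
    Nonempty (↥(T : Subgroup (Matrix.SpecialLinearGroup (Fin n) K)) ≃* upper n K) := by
  obtain ⟨k, hp, hk⟩ := FiniteField.card K p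
  have hpg : IsPGroup p (upper n K) := by
    apply IsPGroup.of_card (n := k * (n * (n - 1) / 2))
    rw [card_upper, hk, pow_mul]
  obtain ⟨T', hT'⟩ := hpg.exists_le_sylow
  have h1 : Nat.card T' ≤ Nat.card (upper n K) := by
    have h2 : IsPGroup p ((T' : Subgroup _).map (Matrix.SpecialLinearGroup.toGL (n := Fin n) (R := K))) :=
      T'.isPGroup'.map _
    obtain ⟨P, hP⟩ := h2.exists_le_sylow
    have h3 := S0263.result (F := K) rfl p n P
    rw [card_upper, ← h3]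
    have hinj : Function.Injective (Matrix.SpecialLinearGroup.toGL (n := Fin n) (R := K)) :=
      Matrix.SpecialLinearGroup.toGL_injective
    calc Nat.card T' = Nat.card ((T' : Subgroup _).map (Matrix.SpecialLinearGroup.toGL (n := Fin n) (R := K))) :=
          Nat.card_congr (Subgroup.equivMapOfInjective (T' : Subgroup (Matrix.SpecialLinearGroup (Fin n) K))
            (Matrix.SpecialLinearGroup.toGL (n := Fin n) (R := K)) hinj).toEquiv
      _ ≤ Nat.card (P : Subgroup _) := Subgroup.card_le_of_le hP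
  have h4 : upper n K = T' := Subgroup.eq_of_le_of_card_ge hT' h1
  rw [h4]
  exact ⟨Sylow.equiv T T'⟩

end Cfsg.Agent.H780
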