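import Cfsg.Prelude.Def_FusionSystem
import Mathlib

/-!
# A counting-free lemma on natural `SL₂(q)`-like actions (helper780)

`B` a finite group, `G ≤ Aut(B)`, `U` a Sylow `p`-subgroup of `G`, `Z ≤ B` a `p`-subgroup, centralised by `U`, with
`[B, U] ≤ Z`, such that for `b ∉ Z` the map `u ↦ b⁻¹ u(b)` is a bijection `U → Z`.
If a nontrivial subgroup `Q ≤ Z` is `G`-invariant then `U` is normal in `G`.
-/

set_option autoImplicit false

namespace Cfsg.Agent.H780

open Cfsg

/-- A subgroup of `Aut(B)` acting trivially on a `p`-subgroup `Z` and on the cosets of `Z` is a `p`-group. -/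
theorem isPGroup_of_stabilizes {B : Type*} [Group B] {p : ℕ} (Z : Subgroup B)
    (hZ : ∃ k : ℕ, ∀ z ∈ Z, z ^ p ^ k = 1) (K : Subgroup (MulAut B))
    (h1 : ∀ u ∈ K, ∀ z ∈ Z, u z = z) (h2 : ∀ u ∈ K, ∀ b, b⁻¹ * u b ∈ Z) : IsPGroup p K := by
  obtain ⟨k, hk⟩ := hZ
  rintro ⟨u, hu⟩
  refine ⟨k, Subtype.ext ?_⟩
  show u ^ p ^ k = 1
  apply MulEquiv.ext
  intro b
  have hpow : ∀ n : ℕ, (u ^ n) b = b * (b⁻¹ * u b) ^ n := by
    intro n
    induction n with
    | zero => simp
    | succ n ih =>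
      rw [pow_succ', MulAut.mul_apply, ih, map_mul]
      rw [h1 u hu _ (pow_mem (h2 u hu b) n), pow_succ', ← mul_assoc, mul_inv_cancel_left]
  rw [hpow, hk _ (h2 u hu b), mul_one]
  rfl

/-- **Lemma A.** -/
theorem normal_of_invariant {B : Type*} [Group B] [Finite B] {p : ℕ} [Fact p.Prime]
    (G U : Subgroup (MulAut B)) (hUG : U ≤ G)
    (hU : ∃ R : Sylow p G, (R : Subgroup G) = U.subgroupOf G)
    (Z Q : Subgroup B) (hZ : IsPGroup p Z) (hQZ : Q ≤ Z) (hQ : Q ≠ ⊥)
    (hQG : ∀ g ∈ G, ∀ x ∈ Q, g x ∈ Q)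
    (h1 : ∀ u ∈ U, ∀ z ∈ Z, u z = z)
    (h2 : ∀ u ∈ U, ∀ b, b⁻¹ * u b ∈ Z)
    (h3 : ∀ b, b ∉ Z → ∀ z ∈ Z, ∃ u ∈ U, u b = b * z)
    (h4 : ∀ u ∈ U, u ≠ 1 → ∀ b, u b = b → b ∈ Z) :
    ∀ g ∈ G, ∀ u ∈ U, g * u * g⁻¹ ∈ U := by
  have hfinMA : Finite (MulAut B) := inferInstance
  have hZk : ∃ k : ℕ, ∀ z ∈ Z, z ^ p ^ k = 1 := by
    obtain ⟨k, hk⟩ := (IsPGroup.iff_card).1 hZ
    refine ⟨k, fun z hz => ?_⟩
    have h := pow_card_eq_one' (x := (⟨z, hz⟩ : Z))
    rw [hk] at h
    exact congrArg Subtype.val h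
  obtain ⟨R, hR⟩ := hU
  have hUp : IsPGroup p U := by
    have h := R.isPGroup'
    rw [hR] at h
    exact h.of_equiv (Subgroup.subgroupOfEquivOfLe hUG)
  -- maximality of `U`
  have hmax : ∀ K : Subgroup (MulAut B), K ≤ G → IsPGroup p K → U ≤ K → K ≤ U := by
    intro K hKG hK hUK
    have h5 : IsPGroup p (K.subgroupOf G) := hK.of_equiv (Subgroup.subgroupOfEquivOfLe hKG).symm
    have h6 : (R : Subgroup G) ≤ K.subgroupOf G := by
      rw [hR]
      exact fun x hx => hUK hx
    have h7 := R.is_maximal' h5 h6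
    intro x hx
    have h8 : (⟨x, hKG hx⟩ : G) ∈ K.subgroupOf G := hx
    rw [h7, hR] at h8
    exact h8
  intro g hg
  by_cases hcase : ∀ z ∈ Z, g z ∈ Z
  · -- the group `K`
    have hcase' : ∀ z ∈ Z, g⁻¹ z ∈ Z := by
      intro z hz
      have hinj : Function.Injective (fun z : Z => (⟨g z, hcase z z.2⟩ : Z)) := by
        intro a b hab
        exact Subtype.ext (g.injective (congrArg Subtype.val hab))
      obtain ⟨w, hw⟩ := Finite.surjective_of_injective hinj ⟨z, hz⟩
      have hw' : g w = z := congrArg Subtype.val hw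
      have : g⁻¹ z = w := by
        rw [← hw']
        exact g.symm_apply_apply w
      rw [this]
      exact w.2
    let K : Subgroup (MulAut B) :=
      { carrier := {k | k ∈ G ∧ (∀ z ∈ Z, k z = z) ∧ ∀ b, b⁻¹ * k b ∈ Z}
        one_mem' := ⟨G.one_mem, fun z _ => rfl, fun b => by simp⟩
        mul_mem' := by
          rintro a b ⟨ha, ha1, ha2⟩ ⟨hb, hb1, hb2⟩
          refine ⟨G.mul_mem ha hb, fun z hz => ?_, fun x => ?_⟩
          · rw [MulAut.mul_apply, hb1 z hz, ha1 z hz]
          · rw [MulAut.mul_apply]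
            have h5 : x⁻¹ * a (b x) = (x⁻¹ * a x) * (a (x⁻¹ * b x)) := by
              rw [map_mul, map_inv]; group
            rw [h5, ha1 _ (hb2 x)]
            exact Z.mul_mem (ha2 x) (hb2 x)
        inv_mem' := by
          rintro a ⟨ha, ha1, ha2⟩
          have h5 : ∀ z ∈ Z, a⁻¹ z = z := by
            intro z hz
            have := ha1 z hz
            calc a⁻¹ z = a⁻¹ (a z) := by rw [this]
              _ = z := a.symm_apply_apply z
          refine ⟨G.inv_mem ha, h5, fun x => ?_⟩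
          have h6 : a (a⁻¹ x) = x := a.apply_symm_apply x
          have h7 := ha2 (a⁻¹ x)
          rw [h6] at h7
          have h8 : x⁻¹ * a⁻¹ x = ((a⁻¹ x)⁻¹ * x)⁻¹ := by group
          rw [h8]
          exact Z.inv_mem h7 }
    have hKp : IsPGroup p K := isPGroup_of_stabilizes Z hZk K (fun u hu => hu.2.1) (fun u hu => hu.2.2)
    have hKU : K ≤ U := hmax K (fun k hk => hk.1) hKp (fun u hu => ⟨hUG hu, h1 u hu, h2 u hu⟩)
    intro u hu
    apply hKU
    refine ⟨G.mul_mem (G.mul_mem hg (hUG hu)) (G.inv_mem hg), fun z hz => ?_, fun b => ?_⟩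
    · rw [MulAut.mul_apply, MulAut.mul_apply, h1 u hu _ (hcase' z hz)]
      exact g.apply_symm_apply z
    · have h5 := hcase _ (h2 u hu (g⁻¹ b))
      rw [map_mul, map_inv] at h5
      have h6 : g (g⁻¹ b) = b := g.apply_symm_apply b
      rw [h6] at h5
      exact h5
  · -- contradiction
    exfalso
    push Not at hcase
    obtain ⟨z, hz, hgz⟩ := hcase
    set c := g z with hc
    -- the stabiliser of the coset `c Q`
    let H : Subgroup (MulAut B) :=
      { carrier := {k | k ∈ G ∧ c⁻¹ * k c ∈ Q}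
        one_mem' := ⟨G.one_mem, by simp⟩
        mul_mem' := by
          rintro a b ⟨ha, ha1⟩ ⟨hb, hb1⟩
          refine ⟨G.mul_mem ha hb, ?_⟩
          rw [MulAut.mul_apply]
          have h5 : c⁻¹ * a (b c) = (c⁻¹ * a c) * a (c⁻¹ * b c) := by
            rw [map_mul, map_inv]; group
          rw [h5]
          exact Q.mul_mem ha1 (hQG a ha _ hb1)
        inv_mem' := by
          rintro a ⟨ha, ha1⟩
          refine ⟨G.inv_mem ha, ?_⟩
          have h6 := hQG a⁻¹ (G.inv_mem ha) _ ha1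
          rw [map_mul, map_inv] at h6
          have h7 : a⁻¹ (a c) = c := a.symm_apply_apply c
          rw [h7] at h6
          have h8 : c⁻¹ * a⁻¹ c = ((a⁻¹ c)⁻¹ * c)⁻¹ := by group
          rw [h8]
          exact Q.inv_mem h6 }
    have hHG : H ≤ G := fun k hk => hk.1
    -- the conjugate of `U` by `g`
    set U' := U.map (MulAut.conj g).toMonoidHom with hU'
    have hU'fix : ∀ u ∈ U', u c = c := by
      rintro _ ⟨u, hu, rfl⟩
      show (g * u * g⁻¹) c = c
      rw [MulAut.mul_apply, MulAut.mul_apply]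
      have : g⁻¹ c = z := g.symm_apply_apply z
      rw [this, h1 u hu z hz]
    have hU'H : U' ≤ H := by
      intro u hu
      refine ⟨?_, ?_⟩
      · obtain ⟨v, hv, rfl⟩ := hu
        exact G.mul_mem (G.mul_mem hg (hUG hv)) (G.inv_mem hg)
      · rw [hU'fix u hu]
        simp
    have hU'p : IsPGroup p U' := hUp.map _
    have hcardU' : Nat.card U' = Nat.card U :=
      (Nat.card_congr (U.equivMapOfInjective _ (MulAut.conj g).injective).toEquiv).symm
    -- an element of `U` moving `c` by an element of `Q`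
    obtain ⟨q, hq, hq1⟩ : ∃ q ∈ Q, q ≠ 1 := by
      by_contra hcon
      push Not at hcon
      exact hQ ((Subgroup.eq_bot_iff_forall Q).2 hcon)
    obtain ⟨u, hu, huc⟩ := h3 c hgz q (hQZ hq)
    have hu1 : u ≠ 1 := by
      rintro rfl
      apply hq1
      have : c = c * q := huc
      exact (mul_left_cancel (a := c) (by rw [mul_one]; exact this)).symm
    have huH : u ∈ H := ⟨hUG hu, by rw [huc]; simpa using hq⟩
    -- Sylow's theorem in `H`
    have hup : IsPGroup p (Subgroup.zpowers u) := by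
      refine hUp.to_le ?_
      rw [Subgroup.zpowers_le]
      exact hu
    have hzH : Subgroup.zpowers u ≤ H := by
      rw [Subgroup.zpowers_le]
      exact huH
    have h9 : IsPGroup p (U'.subgroupOf H) := hU'p.of_equiv (Subgroup.subgroupOfEquivOfLe hU'H).symm
    obtain ⟨R₁, hR₁⟩ := h9.exists_le_sylow
    have h10 : IsPGroup p ((Subgroup.zpowers u).subgroupOf H) :=
      hup.of_equiv (Subgroup.subgroupOfEquivOfLe hzH).symm
    obtain ⟨R₂, hR₂⟩ := h10.exists_le_sylow
    obtain ⟨h, hh⟩ := MulAction.exists_smul_eq H R₁ R₂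
    -- `R₁ = U'`
    have hR₁eq : ∀ x : H, x ∈ (R₁ : Subgroup H) → (x : MulAut B) ∈ U' := by
      have h11 : IsPGroup p ((R₁ : Subgroup H).map H.subtype) := R₁.isPGroup'.map _
      -- card comparison
      have h12 : Nat.card ((R₁ : Subgroup H).map H.subtype : Subgroup (MulAut B)) ≤ Nat.card U := by
        have h13 : ((R₁ : Subgroup H).map H.subtype) ≤ G := by
          rintro _ ⟨x, -, rfl⟩
          exact hHG x.2
        have h14 : IsPGroup p (((R₁ : Subgroup H).map H.subtype).subgroupOf G) :=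
          h11.of_equiv (Subgroup.subgroupOfEquivOfLe h13).symm
        obtain ⟨R₃, hR₃⟩ := h14.exists_le_sylow
        have h15 : Nat.card R₃ = Nat.card R := Nat.card_congr (Sylow.equiv R₃ R).toEquiv
        have h16 : Nat.card (R : Subgroup G) = Nat.card U := by
          rw [hR]
          exact Nat.card_congr (Subgroup.subgroupOfEquivOfLe hUG).toEquiv
        calc Nat.card ((R₁ : Subgroup H).map H.subtype : Subgroup (MulAut B))
            = Nat.card (((R₁ : Subgroup H).map H.subtype).subgroupOf G) :=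
              (Nat.card_congr (Subgroup.subgroupOfEquivOfLe h13).toEquiv).symm
          _ ≤ Nat.card (R₃ : Subgroup G) := Subgroup.card_le_of_le hR₃
          _ = Nat.card (R : Subgroup G) := h15
          _ = Nat.card U := h16
      have h17 : U' ≤ (R₁ : Subgroup H).map H.subtype := by
        intro x hx
        exact ⟨⟨x, hU'H hx⟩, hR₁ hx, rfl⟩
      have h18 : U' = (R₁ : Subgroup H).map H.subtype :=
        Subgroup.eq_of_le_of_card_ge h17 (by rw [hcardU']; exact h12)
      intro x hx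
      rw [h18]
      exact ⟨x, hx, rfl⟩
    have hu2 : (⟨u, huH⟩ : H) ∈ (R₂ : Subgroup H) := hR₂ (Subgroup.mem_zpowers u)
    rw [← hh] at hu2
    -- h⁻¹ u h ∈ R₁
    have hu3 : h⁻¹ * (⟨u, huH⟩ : H) * h ∈ (R₁ : Subgroup H) := by
      have h19 := (Subgroup.mem_pointwise_smul_iff_inv_smul_mem (a := MulAut.conj h)
        (S := (R₁ : Subgroup H)) (x := ⟨u, huH⟩)).1 hu2
      have h20 : (MulAut.conj h)⁻¹ • (⟨u, huH⟩ : H) = h⁻¹ * (⟨u, huH⟩ : H) * h := by
        rw [← map_inv]
        show h⁻¹ * (⟨u, huH⟩ : H) * h⁻¹⁻¹ = _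
        rw [inv_inv]
      rwa [h20] at h19
    have hu4 := hU'fix _ (hR₁eq _ hu3)
    have hu5 : ((h : MulAut B)⁻¹ * u * (h : MulAut B)) c = c := hu4
    rw [MulAut.mul_apply, MulAut.mul_apply] at hu5
    have hu6 : u ((h : MulAut B) c) = (h : MulAut B) c := by
      have := congrArg (h : MulAut B) hu5
      rwa [show (h : MulAut B) ((h : MulAut B)⁻¹ (u ((h : MulAut B) c))) = u ((h : MulAut B) c) from
        (h : MulAut B).apply_symm_apply _] at this
    have hu7 := h4 u hu hu1 _ hu6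
    -- `h c ∈ c Q`
    have hu8 := h.2.2
    apply hgz
    have : c = (h : MulAut B) c * (c⁻¹ * (h : MulAut B) c)⁻¹ := by group
    rw [this]
    exact Z.mul_mem hu7 (Z.inv_mem (hQZ hu8))

end Cfsg.Agent.H780
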