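import Cfsg.Agent.H784.Q.CaseA4

/-! # S5176 (A6): basic facts in case A (helper780; plan: tools/plans/S5176.md, section 4) -/
set_option autoImplicit false
set_option linter.unusedSectionVars false

namespace Cfsg.Agent.H784.Q
open Cfsg Cfsg.FusionSystem Cfsg.Agent.H752 Cfsg.Agent.H784.SF

universe u

variable {Ω : Type u} [Group Ω] {S : Subgroup Ω}

lemma mem_cen {R : Subgroup Ω} {x : Ω} : x ∈ centralizerIn S R ↔ x ∈ S ∧ ∀ y ∈ R, x * y = y * x := by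
  constructor
  · intro h
    exact ⟨h.1, fun y hy => (Subgroup.mem_centralizer_iff.1 h.2 y hy).symm⟩
  · rintro ⟨h1, h2⟩
    exact ⟨h1, Subgroup.mem_centralizer_iff.2 fun y hy => (h2 y hy).symm⟩

variable {F : FusionSystem S} {R : Subgroup Ω} {a b z r : Ω} {m : ℕ}

section
variable (q : QR R a b z r m)
include q

lemma QR.zpow_eq_one {i : ℤ} (h : a ^ i = 1) : Even i := by
  have h1 := orderOf_dvd_iff_zpow_eq_one.2 h
  rw [q.oa] at h1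
  obtain ⟨l, hl⟩ := h1
  have hm := q.m3
  obtain ⟨m', rfl⟩ : ∃ m', m = m' + 1 := ⟨m - 1, by omega⟩
  rw [hl]
  push_cast
  rw [pow_succ]
  exact ⟨2 ^ m' * l, by ring⟩

lemma QR.a4 : a * a * (a * a) ≠ 1 := by
  intro h
  have h1 : a ^ 4 = 1 := by rw [← h]; simp [pow_succ, mul_assoc]
  have h2 := orderOf_dvd_of_pow_eq_one h1
  rw [q.oa] at h2
  have h3 := Nat.le_of_dvd (by norm_num) h2
  have h4 : 2 ^ 3 ≤ 2 ^ m := Nat.pow_le_pow_right (by norm_num) q.m3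
  omega

lemma QR.a2 : a * a ≠ 1 := fun h => q.a4 (by rw [h, one_mul])

lemma QR.gen' : ∀ x ∈ R, ∃ i : ℤ, x = a ^ i ∨ x = b * a ^ i := by
  intro x hx
  obtain ⟨i, h | h⟩ := q.gen x hx
  · exact ⟨i, Or.inl (by rw [h, zpow_natCast])⟩
  · exact ⟨i, Or.inr (by rw [h, zpow_natCast])⟩

lemma QR.baz (i : ℤ) : b * a ^ i * b⁻¹ = a ^ (-i) := by
  rw [q.inv_b (Subgroup.zpow_mem _ (Subgroup.mem_zpowers a) i), zpow_neg]

lemma QR.a_inv_b : a⁻¹ * b * a = b * a ^ (2 : ℤ) := by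
  rw [← q.ba, mul_assoc, zpow_two]

end

section
variable (h : Sit F R a b z r m) [Finite S]
include h

lemma Sit.aS : a ∈ S := h.RS h.qr.aR
lemma Sit.bS : b ∈ S := h.RS h.qr.bR

lemma Sit.a_conj {s : Ω} (hs : s ∈ S) : ∃ i : ℤ, s * a * s⁻¹ = a ^ i := by
  have h1 := h.Rn s hs a h.qr.aR
  have h2 : s * a * s⁻¹ ∈ Subgroup.zpowers a := by
    apply h.qr.mem_A h1
    intro h3
    apply h.qr.a4
    have h4 : s * (a * a * (a * a)) * s⁻¹ = 1 := by rw [← h3]; group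
    rwa [mul_inv_eq_one, mul_eq_left] at h4
  obtain ⟨i, hi⟩ := h2
  exact ⟨i, hi.symm⟩

lemma Sit.a_conj_odd {s : Ω} (hs : s ∈ S) {i : ℤ} (hi : s * a * s⁻¹ = a ^ i) : Odd i := by
  by_contra hev
  rw [Int.not_odd_iff_even] at hev
  obtain ⟨l, hl⟩ := hev
  have hm := h.qr.m3
  have h1 : (s * a * s⁻¹) ^ 2 ^ (m - 1) = 1 := by
    rw [hi, hl, ← two_mul, zpow_mul, ← zpow_natCast, ← zpow_mul, ← zpow_mul]
    have h2 : (2 : ℤ) * (l * ((2 ^ (m - 1) : ℕ) : ℤ)) = ((2 ^ m : ℕ) : ℤ) * l := by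
      push_cast
      obtain ⟨m', rfl⟩ : ∃ m', m = m' + 1 := ⟨m - 1, by omega⟩
      simp only [Nat.add_sub_cancel, pow_succ]
      ring
    rw [h2, zpow_mul, zpow_natCast, ← h.qr.oa, pow_orderOf_eq_one, one_zpow]
  rw [conj_pow, ← h.qr.hz] at h1
  rw [mul_inv_eq_one, mul_eq_left] at h1
  exact h.qr.z1 h1

lemma Sit.b_conj {s : Ω} (hs : s ∈ S) : ∃ j : ℤ, s⁻¹ * b * s = b * a ^ j := by
  have h1 := h.Rn s⁻¹ (inv_mem hs) b h.qr.bR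
  rw [inv_inv] at h1
  obtain ⟨i, h2 | h2⟩ := h.qr.gen' _ h1
  · exfalso
    apply h.qr.bA
    obtain ⟨l, hl⟩ := h.a_conj hs
    have h3 : b = s * a ^ i * s⁻¹ := by rw [← h2]; group
    rw [h3, ← conj_zpow, hl]
    exact Subgroup.zpow_mem _ (Subgroup.zpow_mem _ (Subgroup.mem_zpowers a) _) _
  · exact ⟨i, h2⟩

/-- The parity of the action on `b`: a homomorphism `e : S → ZMod 2` with `e s = j` if `s⁻¹ b s = b a ^ j`. -/
lemma Sit.exists_e : ∃ e : Ω → ZMod 2, (∀ (s : Ω) (j : ℤ), s⁻¹ * b * s = b * a ^ j → e s = (j : ZMod 2)) ∧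
    ∀ s ∈ S, ∀ s' ∈ S, e (s * s') = e s + e s' := by
  classical
  refine ⟨fun s => if hs : ∃ j : ℤ, s⁻¹ * b * s = b * a ^ j then ((hs.choose : ℤ) : ZMod 2) else 0, ?_⟩
  have h1 : ∀ (s : Ω) (j : ℤ), s⁻¹ * b * s = b * a ^ j →
      (if hs : ∃ j : ℤ, s⁻¹ * b * s = b * a ^ j then ((hs.choose : ℤ) : ZMod 2) else 0) = (j : ZMod 2) := by
    intro s j hj
    have hs : ∃ j : ℤ, s⁻¹ * b * s = b * a ^ j := ⟨j, hj⟩
    rw [dif_pos hs]
    have h3 : a ^ j = a ^ hs.choose := mul_left_cancel (hj.symm.trans hs.choose_spec)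
    have h4 : a ^ (j - hs.choose) = 1 := by rw [zpow_sub, h3, mul_inv_cancel]
    have h5 := h.qr.zpow_eq_one h4
    have h6 : ((j - hs.choose : ℤ) : ZMod 2) = 0 := (ZMod.intCast_zmod_eq_zero_iff_dvd _ 2).2 (by exact_mod_cast h5.two_dvd)
    push_cast at h6
    exact (sub_eq_zero.1 h6).symm
  refine ⟨h1, ?_⟩
  intro s hs s' hs'
  obtain ⟨j, hj⟩ := h.b_conj hs
  obtain ⟨j', hj'⟩ := h.b_conj hs'
  obtain ⟨i, hi⟩ := h.a_conj (inv_mem hs')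
  have hio := h.a_conj_odd (inv_mem hs') hi
  rw [inv_inv] at hi
  have h2 : (s * s')⁻¹ * b * (s * s') = b * a ^ (j' + i * j) := by
    calc (s * s')⁻¹ * b * (s * s') = s'⁻¹ * (s⁻¹ * b * s) * s' := by group
      _ = (s'⁻¹ * b * s') * (s'⁻¹ * a ^ j * s') := by rw [hj]; group
      _ = (b * a ^ j') * (a ^ i) ^ j := by
        rw [hj', ← hi]
        have : (s'⁻¹ * a * s') ^ j = s'⁻¹ * a ^ j * s' := by
          have := conj_zpow (i := j) (a := s'⁻¹) (b := a)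
          rwa [inv_inv] at this
        rw [this]
      _ = b * a ^ (j' + i * j) := by rw [mul_assoc, ← zpow_mul, ← zpow_add]
  show (if hs : ∃ j : ℤ, (s * s')⁻¹ * b * (s * s') = b * a ^ j then ((hs.choose : ℤ) : ZMod 2) else 0) =
    (if hs : ∃ j : ℤ, s⁻¹ * b * s = b * a ^ j then ((hs.choose : ℤ) : ZMod 2) else 0) +
    (if hs : ∃ j : ℤ, s'⁻¹ * b * s' = b * a ^ j then ((hs.choose : ℤ) : ZMod 2) else 0)
  rw [h1 _ _ h2, h1 _ _ hj, h1 _ _ hj']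
  obtain ⟨l, rfl⟩ := hio
  push_cast
  have h3 : (2 : ZMod 2) = 0 := by decide
  rw [h3]
  ring

/-- the commutators of elements of `S` centralize `a` -/
lemma Sit.comm_a {x y : Ω} (hx : x ∈ S) (hy : y ∈ S) : (x * y * x⁻¹ * y⁻¹) * a = a * (x * y * x⁻¹ * y⁻¹) := by
  have key : ∀ x ∈ S, ∀ y ∈ S, x * y * a * (x * y)⁻¹ = y * x * a * (y * x)⁻¹ := by
    intro x hx y hy
    obtain ⟨i, hi⟩ := h.a_conj hx
    obtain ⟨j, hj⟩ := h.a_conj hy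
    calc x * y * a * (x * y)⁻¹ = x * (y * a * y⁻¹) * x⁻¹ := by group
      _ = (x * a * x⁻¹) ^ j := by rw [hj, conj_zpow]
      _ = (y * a * y⁻¹) ^ i := by rw [hi, hj, ← zpow_mul, ← zpow_mul, mul_comm]
      _ = y * (x * a * x⁻¹) * y⁻¹ := by rw [hi, conj_zpow]
      _ = y * x * a * (y * x)⁻¹ := by group
  have h1 := key x⁻¹ (inv_mem hx) y⁻¹ (inv_mem hy)
  have h2 : y⁻¹ * x⁻¹ * a * (y⁻¹ * x⁻¹)⁻¹ = x⁻¹ * y⁻¹ * a * (x⁻¹ * y⁻¹)⁻¹ := h1.symm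
  calc (x * y * x⁻¹ * y⁻¹) * a = x * y * (x⁻¹ * y⁻¹ * a * (x⁻¹ * y⁻¹)⁻¹) * (x⁻¹ * y⁻¹) := by group
    _ = x * y * (y⁻¹ * x⁻¹ * a * (y⁻¹ * x⁻¹)⁻¹) * (x⁻¹ * y⁻¹) := by rw [h2]
    _ = a * (x * y * x⁻¹ * y⁻¹) := by group

end

end Cfsg.Agent.H784.Q
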