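import Cfsg.Agent.H780.QSD

/-! # S5176 (A6): moving a conjugate of type SD into `RK` (helper780; plan: tools/plans/S5176.md, section 4) -/
set_option autoImplicit false
set_option linter.unusedSectionVars false

namespace Cfsg.Agent.H784.Q
open Cfsg Cfsg.FusionSystem Cfsg.Agent.H752 Cfsg.Agent.H784.SF

universe u

variable {Ω : Type u} [Group Ω] {S : Subgroup Ω}
variable {F : FusionSystem S} {R : Subgroup Ω} {a b z r : Ω} {m : ℕ}

section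
variable {t c d k : Ω} {β : Ω → Ω} (h : CaseA F R a b z r m t c d k β) [Finite S]
include h

lemma CaseA.pow_half {x : Ω} (hx : x ∈ Subgroup.zpowers a ⊔ Subgroup.zpowers d) :
    x ^ 2 ^ (m - 1) = 1 ∨ x ^ 2 ^ (m - 1) = z ∨ x ^ 2 ^ (m - 1) = t ∨ x ^ 2 ^ (m - 1) = t * z := by
  refine h.omega (Subgroup.pow_mem _ hx _) ?_
  have hm := h.sit.qr.m3
  obtain ⟨i, j, rfl⟩ := h.mem_M.1 hx
  have hc : Commute d a := h.da
  rw [← pow_add, ← two_mul, mul_comm, ← pow_succ, Nat.sub_add_cancel (by omega), (hc.symm.zpow_zpow i j).mul_pow,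
    ← zpow_natCast, ← zpow_natCast, ← zpow_mul, ← zpow_mul, mul_comm i, mul_comm j, zpow_mul, zpow_mul, zpow_natCast,
    zpow_natCast]
  nth_rw 1 [← h.sit.qr.oa]
  nth_rw 1 [← h.od]
  rw [pow_orderOf_eq_one, pow_orderOf_eq_one, one_zpow, one_zpow, one_mul]

lemma CaseA.C_conj {s x : Ω} (hs : s ∈ S) (hx : x ∈ CS S t) : s * x * s⁻¹ ∈ CS S t := by
  obtain ⟨hxS, hxt⟩ := mem_CS.1 hx
  refine mem_CS.2 ⟨mul_mem (mul_mem hs hxS) (Subgroup.inv_mem _ hs), ?_⟩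
  have h1 : x * (s⁻¹ * t * s) = (s⁻¹ * t * s) * x := by
    have h2 := h.Vn s⁻¹ (Subgroup.inv_mem _ hs)
    rw [inv_inv] at h2
    rcases h2 with h2 | h2
    · rw [h2, hxt]
    · rw [h2]
      have h3 := h.sit.z_centr x hxS
      calc x * (t * z) = (x * t) * z := by group
        _ = t * (x * z) := by rw [hxt]; group
        _ = t * z * x := by rw [h3]; group
  calc s * x * s⁻¹ * t = s * (x * (s⁻¹ * t * s)) * s⁻¹ := by group
    _ = t * (s * x * s⁻¹) := by rw [h1]; group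

variable {e : Ω → ZMod 2} (he : ∀ (s : Ω) (j : ℤ), s⁻¹ * b * s = b * a ^ j → e s = (j : ZMod 2))
    (hmul : ∀ s ∈ S, ∀ s' ∈ S, e (s * s') = e s + e s')
include he hmul

lemma CaseA.e_eq_of_pow {x y : Ω} (hx : x ∈ Subgroup.zpowers a ⊔ Subgroup.zpowers d)
    (hy : y ∈ Subgroup.zpowers a ⊔ Subgroup.zpowers d) (hxy : x ^ 2 ^ (m - 1) = y ^ 2 ^ (m - 1)) : e x = e y := by
  have h1 := h.e_M he hmul hx
  have h2 := h.e_M he hmul hy
  rw [hxy, ← h2] at h1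
  revert h1
  generalize e x = u
  generalize e y = v
  revert u v
  decide

/-- `β` or `β²` moves an element of `C_S(t)` acting as `b ↦ b a^odd` to an element acting as `b ↦ b a^even`. -/
theorem CaseA.good {t₁ : Ω} (ht₁ : t₁ ∈ CS S t) {j : ℤ} (hodd : Odd j) (hj : t₁⁻¹ * b * t₁ = b * a ^ j) :
    e (β t₁) = 0 ∨ e (β (β t₁)) = 0 := by
  have ht₁S := (mem_CS.1 ht₁).1
  have het₁ : e t₁ = 1 := by
    rw [he _ _ hj]
    obtain ⟨l, rfl⟩ := hodd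
    push_cast
    have h3 : (2 : ZMod 2) = 0 := by decide
    rw [h3, zero_mul, zero_add]
  by_contra hcon
  rw [not_or] at hcon
  have hβm := h.v.mp
  have hne : ∀ u : ZMod 2, u ≠ 0 → u = 1 := by decide
  have hβ1 : e (β t₁) = 1 := hne _ hcon.1
  have hβ2 : e (β (β t₁)) = 1 := hne _ hcon.2
  have hβt₁ := h.v.maps _ ht₁
  -- `m₁ = t₁⁻¹ β(t₁)`
  obtain ⟨m₁, hm₁⟩ : ∃ m₁, m₁ = t₁⁻¹ * β t₁ := ⟨_, rfl⟩
  have hm₁M : m₁ ∈ Subgroup.zpowers a ⊔ Subgroup.zpowers d := hm₁ ▸ h.β_M ht₁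
  have hβt₁' : β t₁ = t₁ * m₁ := by rw [hm₁]; group
  have hem₁ : e m₁ = 0 := by
    have h1 := hmul t₁ ht₁S m₁ (h.MS hm₁M)
    rw [← hβt₁', hβ1, het₁] at h1
    have : ∀ u : ZMod 2, 1 = 1 + u → u = 0 := by decide
    exact this _ h1
  have heβm₁ : e (β m₁) = 0 := by
    have h1 : β (β t₁) = β t₁ * β m₁ := by rw [← hβm.mul ht₁ (h.MC hm₁M), ← hβt₁']
    have h2 := hmul (β t₁) (mem_CS.1 hβt₁).1 (β m₁) (h.MS (h.Mβ _ hm₁M))
    rw [← h1, hβ1, hβ2] at h2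
    have : ∀ u : ZMod 2, 1 = 1 + u → u = 0 := by decide
    exact this _ h2
  have hpow : m₁ ^ 2 ^ (m - 1) = 1 := by
    have h1 := (h.e_M he hmul hm₁M).1 hem₁
    have h2 := (h.e_M he hmul (h.Mβ _ hm₁M)).1 heβm₁
    rcases h1 with h1 | h1
    · exact h1
    exfalso
    rw [← hβm.pow (h.MC hm₁M), h1, h.v.βz] at h2
    rcases h2 with h2 | h2
    · exact h.t1 h2
    · exact h.v.ne h2
  -- the automorphisms
  have hCS : CS S t ≤ S := inf_le_left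
  have hfinC : Finite (CS S t) := H802.finite_of_le hCS
  obtain ⟨B, hB, hBβ⟩ := h.v.mp.exists_aut h.v.maps
  obtain ⟨Sg, hSg, hSgb⟩ := (mp_conj F hCS h.sit.bS).exists_aut (fun x hx => h.C_conj h.sit.bS hx)
  have hSgi : ∀ (x : Ω) (hx : x ∈ CS S t), ((Sg⁻¹ ⟨x, hx⟩ : CS S t) : Ω) = b⁻¹ * x * b := by
    intro x hx
    have h1 : b⁻¹ * x * b ∈ CS S t := by
      have := h.C_conj (Subgroup.inv_mem _ h.sit.bS) hx
      rwa [inv_inv] at this
    have h2 : Sg ⟨b⁻¹ * x * b, h1⟩ = ⟨x, hx⟩ := Subtype.ext (by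
      rw [← hSgb _ h1]
      group)
    rw [← h2, MulAut.inv_apply_self]
  have hzC : z ∈ CS S t := h.MC h.zM
  have htC : t ∈ CS S t := h.MC h.tM
  have haC : a ∈ CS S t := h.MC h.aM
  let zc : CS S t := ⟨z, hzC⟩
  let tc : CS S t := ⟨t, htC⟩
  have hBz : B zc = tc := Subtype.ext (by rw [← hBβ, h.v.βz])
  have hBt : B tc = tc * zc := Subtype.ext (by rw [← hBβ, h.v.βt]; rfl)
  have hSz : Sg zc = zc := Subtype.ext (by
    rw [← hSgb, h.sit.z_centr b h.sit.bS, mul_inv_cancel_right])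
  have hSt : Sg tc = tc * zc := Subtype.ext (by rw [← hSgb, h.bt]; rfl)
  have hzz : zc * zc = 1 := Subtype.ext h.sit.qr.zz
  have htt : tc * tc = 1 := Subtype.ext h.tt
  have htzc : tc * zc = zc * tc := Subtype.ext h.tzt
  have hSit : Sg⁻¹ tc = tc * zc := by
    have h1 : Sg (tc * zc) = tc := by rw [map_mul, hSt, hSz, mul_assoc, hzz, mul_one]
    rw [← h1, MulAut.inv_apply_self, h1]
  have hSiz : Sg⁻¹ zc = zc := by
    nth_rw 1 [← hSz]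
    rw [MulAut.inv_apply_self]
  obtain ⟨τ, hτ⟩ : ∃ τ : MulAut (CS S t), τ = Sg * B * Sg⁻¹ * B := ⟨_, rfl⟩
  have hτF : τ ∈ F.autGroup (CS S t) := by
    rw [hτ]
    exact mul_mem (mul_mem (mul_mem hSg hB) (Subgroup.inv_mem _ hSg)) hB
  have hτa : ∀ x, τ x = Sg (B (Sg⁻¹ (B x))) := fun x => by rw [hτ]; rfl
  have hτz : τ zc = zc := by
    rw [hτa, hBz, hSit, map_mul, hBt, hBz, map_mul, map_mul, hSt, hSz, mul_assoc tc zc zc, hzz, mul_one, ← mul_assoc,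
      htt, one_mul]
  have hτt : τ tc = tc := by
    rw [hτa, hBt, map_mul, hSit, hSiz, mul_assoc, hzz, mul_one, hBt, map_mul, hSt, hSz, mul_assoc, hzz, mul_one]
  -- `V`
  let V : Set Ω := {x | x = 1 ∨ x = z ∨ x = t ∨ x = t * z}
  have hVC : ∀ v ∈ V, v ∈ CS S t := by
    rintro v (rfl | rfl | rfl | rfl)
    · exact one_mem _
    · exact hzC
    · exact htC
    · exact mul_mem htC hzC
  have hVfix : ∀ v : CS S t, (v : Ω) ∈ V → τ v = v := by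
    rintro v hv
    have hv' : v = 1 ∨ v = zc ∨ v = tc ∨ v = tc * zc := by
      rcases hv with hv | hv | hv | hv
      · exact Or.inl (Subtype.ext hv)
      · exact Or.inr (Or.inl (Subtype.ext hv))
      · exact Or.inr (Or.inr (Or.inl (Subtype.ext hv)))
      · exact Or.inr (Or.inr (Or.inr (Subtype.ext hv)))
    rcases hv' with rfl | rfl | rfl | rfl
    · exact map_one τ
    · exact hτz
    · exact hτt
    · rw [map_mul, hτt, hτz]
  have hVcen : ∀ v : CS S t, (v : Ω) ∈ V → v * v = 1 ∧ ∀ y : CS S t, v * y = y * v := by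
    intro v hv
    have hv' : v = 1 ∨ v = zc ∨ v = tc ∨ v = tc * zc := by
      rcases hv with hv | hv | hv | hv
      · exact Or.inl (Subtype.ext hv)
      · exact Or.inr (Or.inl (Subtype.ext hv))
      · exact Or.inr (Or.inr (Or.inl (Subtype.ext hv)))
      · exact Or.inr (Or.inr (Or.inr (Subtype.ext hv)))
    have c1 : ∀ y : CS S t, zc * y = y * zc := fun y => Subtype.ext (h.sit.z_centr y (hCS y.2)).symm
    have c2 : ∀ y : CS S t, tc * y = y * tc := fun y => Subtype.ext (mem_CS.1 y.2).2.symm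
    rcases hv' with rfl | rfl | rfl | rfl
    · exact ⟨one_mul 1, fun y => by rw [one_mul, mul_one]⟩
    · exact ⟨hzz, c1⟩
    · exact ⟨htt, c2⟩
    · refine ⟨?_, fun y => ?_⟩
      · rw [mul_assoc, ← mul_assoc zc tc zc, ← htzc, mul_assoc tc zc zc, hzz, mul_one, htt]
      · rw [mul_assoc, c1, ← mul_assoc, c2, mul_assoc]
  have hVinv : ∀ α ∈ F.autGroup (CS S t), ∀ v : CS S t, (v : Ω) ∈ V → ((α v : CS S t) : Ω) ∈ V := by
    intro α _ v hv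
    obtain ⟨h1, h2⟩ := hVcen v hv
    have h3 : α v * α v = 1 := by rw [← map_mul, h1, map_one]
    have h4 : α v * ⟨a, haC⟩ = ⟨a, haC⟩ * α v := by
      obtain ⟨y, hy⟩ := α.surjective ⟨a, haC⟩
      rw [← hy, ← map_mul, ← map_mul, h2]
    have h5 : ((α v : CS S t) : Ω) ∈ Subgroup.zpowers a ⊔ Subgroup.zpowers d :=
      h.cM _ (α v).2 (congrArg Subtype.val h4)
    exact h.omega h5 (congrArg Subtype.val h3)
  obtain ⟨n, hn, s, hs, hτn⟩ := Cfsg.Agent.H780.inner_of_fix h.sit.hS h.sit.sat hCS (fun s hs x hx => h.C_conj hs hx) V hVinv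
    (fun s hs hv => mem_CS.2 ⟨hs, mul_inv_eq_iff_eq_mul.1 (hv t (Or.inr (Or.inr (Or.inl rfl))))⟩) hVC hτF hVfix
  -- `τ` on `M`
  have hBM : ∀ x : CS S t, (x : Ω) ∈ Subgroup.zpowers a ⊔ Subgroup.zpowers d →
      ((B x : CS S t) : Ω) ∈ Subgroup.zpowers a ⊔ Subgroup.zpowers d := fun x hx => by
    rw [← hBβ x x.2]; exact h.Mβ _ hx
  have hSM : ∀ x : CS S t, (x : Ω) ∈ Subgroup.zpowers a ⊔ Subgroup.zpowers d →
      ((Sg x : CS S t) : Ω) ∈ Subgroup.zpowers a ⊔ Subgroup.zpowers d := fun x hx => by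
    rw [← hSgb x x.2]; exact h.M_conj h.sit.bS hx
  have hSiM : ∀ x : CS S t, (x : Ω) ∈ Subgroup.zpowers a ⊔ Subgroup.zpowers d →
      ((Sg⁻¹ x : CS S t) : Ω) ∈ Subgroup.zpowers a ⊔ Subgroup.zpowers d := fun x hx => by
    have h1 := h.M_conj (Subgroup.inv_mem _ h.sit.bS) hx
    rw [inv_inv] at h1
    rw [hSgi x x.2]; exact h1
  have hτM : ∀ x : CS S t, (x : Ω) ∈ Subgroup.zpowers a ⊔ Subgroup.zpowers d →
      ((τ x : CS S t) : Ω) ∈ Subgroup.zpowers a ⊔ Subgroup.zpowers d := fun x hx => by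
    rw [hτa]; exact hSM _ (hBM _ (hSiM _ (hBM _ hx)))
  have hτe : ∀ x : CS S t, (x : Ω) ∈ Subgroup.zpowers a ⊔ Subgroup.zpowers d → e (τ x : CS S t) = e x := by
    intro x hx
    refine h.e_eq_of_pow he hmul (hτM x hx) hx ?_
    have h1 : (τ x) ^ 2 ^ (m - 1) = x ^ 2 ^ (m - 1) := by
      rw [← map_pow]
      exact hVfix _ (h.pow_half hx)
    exact congrArg Subtype.val h1
  -- displacement
  have hDB : ∀ x : CS S t, (x : Ω)⁻¹ * (B x : CS S t) ∈ Subgroup.zpowers a ⊔ Subgroup.zpowers d := fun x => by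
    rw [← hBβ x x.2]; exact h.β_M x.2
  have hDS : ∀ x : CS S t, (x : Ω)⁻¹ * (Sg x : CS S t) ∈ Subgroup.zpowers a ⊔ Subgroup.zpowers d := fun x => by
    rw [← hSgb x x.2]
    have h1 := h.comm_M (Subgroup.inv_mem _ (hCS x.2)) h.sit.bS
    rw [inv_inv] at h1
    convert h1 using 1
    group
  have hDSi : ∀ x : CS S t, (x : Ω)⁻¹ * (Sg⁻¹ x : CS S t) ∈ Subgroup.zpowers a ⊔ Subgroup.zpowers d := fun x => by
    rw [hSgi x x.2]
    have h1 := h.comm_M (Subgroup.inv_mem _ (hCS x.2)) (Subgroup.inv_mem _ h.sit.bS)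
    rw [inv_inv, inv_inv] at h1
    convert h1 using 1
    group
  have hDτ : ∀ x : CS S t, (x : Ω)⁻¹ * (τ x : CS S t) ∈ Subgroup.zpowers a ⊔ Subgroup.zpowers d := fun x => by
    rw [hτa]
    have h1 := mul_mem (mul_mem (mul_mem (hDB x) (hDSi (B x))) (hDB (Sg⁻¹ (B x)))) (hDS (B (Sg⁻¹ (B x))))
    convert h1 using 1
    group
  -- `τ(t₁)`
  have heτ : e (τ ⟨t₁, ht₁⟩ : CS S t) = 0 := by
    have hm₁C := h.MC hm₁M
    have e1 : B ⟨t₁, ht₁⟩ = ⟨t₁, ht₁⟩ * ⟨m₁, hm₁C⟩ := Subtype.ext (by rw [← hBβ, hβt₁']; rfl)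
    rw [hτa, e1, map_mul, map_mul, map_mul]
    have hSS : ∀ x : CS S t, e (Sg x : CS S t) = e x := fun x => by
      rw [← hSgb x x.2]; exact h.e_conj he hmul (hCS x.2) h.sit.bS
    have f1 : e (Sg (B (Sg⁻¹ ⟨m₁, hm₁C⟩)) : CS S t) = 0 := by
      rw [hSS]
      have hM1 := hBM _ (hSiM ⟨m₁, hm₁C⟩ hm₁M)
      rw [h.e_M he hmul hM1]
      left
      have h1 : (B (Sg⁻¹ ⟨m₁, hm₁C⟩)) ^ 2 ^ (m - 1) = 1 := by
        rw [← map_pow, ← map_pow]
        have h2 : (⟨m₁, hm₁C⟩ : CS S t) ^ 2 ^ (m - 1) = 1 := Subtype.ext hpow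
        rw [h2, map_one, map_one]
      exact congrArg Subtype.val h1
    have f2 : e (Sg (B (Sg⁻¹ ⟨t₁, ht₁⟩)) : CS S t) = 0 := by
      rw [hSS]
      have h1 : Sg⁻¹ ⟨t₁, ht₁⟩ = ⟨t₁, ht₁⟩ * (⟨a, haC⟩ : CS S t) ^ (-j) := Subtype.ext (by
        rw [hSgi]
        show b⁻¹ * t₁ * b = t₁ * a ^ (-j)
        have h2 : t₁⁻¹ * b⁻¹ * t₁ = (b * a ^ j)⁻¹ := by rw [← hj]; group
        calc b⁻¹ * t₁ * b = t₁ * (t₁⁻¹ * b⁻¹ * t₁) * b := by group
          _ = t₁ * a ^ (-j) := by rw [h2]; group)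
      rw [h1, map_mul, map_zpow]
      show e ((B ⟨t₁, ht₁⟩ : CS S t) * ((B ⟨a, haC⟩ ^ (-j) : CS S t) : Ω)) = 0
      rw [Subgroup.coe_zpow, ← hBβ, ← hBβ]
      obtain ⟨i, hi, hβa⟩ := h.βa
      rw [hmul _ (hCS hβt₁) _ (zpow_mem (hβm.mem haC) _), h.e_zpow he hmul (hβm.mem haC), hβa, ← zpow_natCast,
        h.e_zpow he hmul h.dS, h.e_d he, hβ1]
      obtain ⟨l, rfl⟩ := hodd
      obtain ⟨l', rfl⟩ := hi
      push_cast
      have h3 : (2 : ZMod 2) = 0 := by decide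
      rw [h3]
      ring_nf
    show e ((Sg (B (Sg⁻¹ ⟨t₁, ht₁⟩)) : CS S t) * (Sg (B (Sg⁻¹ ⟨m₁, hm₁C⟩)) : CS S t)) = 0
    rw [hmul _ (hCS (Subtype.mem _)) _ (hCS (Subtype.mem _)), f1, f2, add_zero]
  -- powers of `τ`
  have hpowτ : ∀ n : ℕ, ∃ u : CS S t, (u : Ω) ∈ Subgroup.zpowers a ⊔ Subgroup.zpowers d ∧
      (τ ^ n) ⟨t₁, ht₁⟩ = ⟨t₁, ht₁⟩ * u ∧ e u = n := by
    intro n
    induction n with
    | zero => exact ⟨1, one_mem _, by simp, by simp [h.e_one he]⟩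
    | succ n ih =>
      obtain ⟨u, hu, h1, h2⟩ := ih
      refine ⟨⟨t₁, ht₁⟩⁻¹ * τ ⟨t₁, ht₁⟩ * τ u, mul_mem (hDτ ⟨t₁, ht₁⟩) (hτM u hu), ?_, ?_⟩
      · rw [pow_succ', MulAut.mul_apply, h1, map_mul]
        group
      · show e (t₁⁻¹ * (τ ⟨t₁, ht₁⟩ : CS S t) * (τ u : CS S t)) = _
        rw [hmul _ (h.MS (hDτ ⟨t₁, ht₁⟩)) _ (hCS (Subtype.mem _)), hτe u hu, h2, hmul _ (Subgroup.inv_mem _ ht₁S) _
          (hCS (Subtype.mem _)), h.e_inv he hmul ht₁S, heτ, het₁]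
        push_cast
        ring
  obtain ⟨u, hu, h1, h2⟩ := hpowτ n
  have h3 := hτn ⟨t₁, ht₁⟩
  rw [h1] at h3
  have h4 : t₁ * u = s * t₁ * s⁻¹ := h3
  have h5 := h.e_conj he hmul ht₁S (hCS hs)
  rw [← h4, hmul _ ht₁S _ (h.MS hu), h2, het₁] at h5
  obtain ⟨l, rfl⟩ := hn
  push_cast at h5
  have h6 : (2 : ZMod 2) = 0 := by decide
  rw [h6, zero_mul, zero_add] at h5
  revert h5
  decide

end

end Cfsg.Agent.H784.Q
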