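import Cfsg.Agent.H780.QBasB
import Cfsg.Agent.H780.QInner

/-! # S5176 (A6): the conjugates of `z` in case A (helper780; plan: tools/plans/S5176.md, section 4) -/
set_option autoImplicit false
set_option linter.unusedSectionVars false

namespace Cfsg.Agent.H784.Q
open Cfsg Cfsg.FusionSystem Cfsg.Agent.H752 Cfsg.Agent.H784.SF

universe u

variable {Ω : Type u} [Group Ω] {S : Subgroup Ω}
variable {F : FusionSystem S} {R : Subgroup Ω} {a b z r : Ω} {m : ℕ}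

section
variable {t c d k : Ω} {β : Ω → Ω} (h : CaseA F R a b z r m t c d k β) [Finite S]
include h

/-- `β` acts trivially on `C_S(t)/M`. -/
lemma CaseA.β_M {x : Ω} (hx : x ∈ CS S t) : x⁻¹ * β x ∈ Subgroup.zpowers a ⊔ Subgroup.zpowers d := by
  obtain ⟨i, hi⟩ := h.pow x hx
  have hfin : Finite ↥(Subgroup.zpowers a ⊔ Subgroup.zpowers d) := H802.finite_of_le h.MS
  have hm := h.v.mp
  obtain ⟨y, hy, hya⟩ := (hm.res h.MC).surj h.Mβ h.aM
  have hyC := h.MC hy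
  have hβx := h.v.maps x hx
  have h1 : β x * a * (β x)⁻¹ = a ^ i := by
    have h2 := congrArg β (hi y hy)
    rw [hm.mul (mul_mem hx hyC) (Subgroup.inv_mem _ hx), hm.mul hx hyC, hm.inv hx, hm.pow hyC, hya] at h2
    exact h2
  have h2 := hi a h.aM
  refine h.cM _ (mul_mem (Subgroup.inv_mem _ hx) hβx) ?_
  have h3 : β x * a * (β x)⁻¹ = x * a * x⁻¹ := h1.trans h2.symm
  calc x⁻¹ * β x * a = x⁻¹ * (β x * a * (β x)⁻¹) * β x := by group
    _ = a * (x⁻¹ * β x) := by rw [h3]; group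

lemma CaseA.k1 {i : ℤ} (hi : k ^ i = 1) : Even i := by
  have h1 := orderOf_dvd_iff_zpow_eq_one.2 hi
  rw [h.ok] at h1
  obtain ⟨l, hl⟩ := h1
  have hm := h.sit.qr.m3
  obtain ⟨m', rfl⟩ : ∃ m', m = m' + 1 := ⟨m - 1, by omega⟩
  rw [hl]
  push_cast
  rw [pow_succ]
  exact ⟨2 ^ m' * l, by ring⟩

lemma CaseA.k_half {i : ℤ} (hi : k ^ i * k ^ i = 1) : Even i := by
  have h0 : k ^ (i + i) = 1 := by rw [zpow_add, hi]
  have h1 := orderOf_dvd_iff_zpow_eq_one.2 h0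
  rw [h.ok] at h1
  obtain ⟨l, hl⟩ := h1
  have hm := h.sit.qr.m3
  obtain ⟨m', rfl⟩ : ∃ m', m = m' + 2 := ⟨m - 2, by omega⟩
  refine ⟨2 ^ m' * l, ?_⟩
  push_cast at hl
  rw [pow_add] at hl
  linarith

/-- elements of order at least eight of `K` are in `⟨k⟩`. -/
lemma CaseA.mem_k {x : Ω} (hx : x ∈ centralizerIn S R) (h4 : x * x ≠ z) : x ∈ Subgroup.zpowers k := by
  rcases h.K with hK | ⟨w, hw, hwk, hww, -, hK⟩
  · exact hK x hx
  · obtain ⟨i, rfl | rfl⟩ := hK x hx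
    · exact Subgroup.pow_mem _ (Subgroup.mem_zpowers k) i
    · exfalso
      apply h4
      have h5 : w * k * w⁻¹ = k⁻¹ := by rw [hwk, mul_inv_cancel_right]
      calc w * k ^ i * (w * k ^ i) = (w * k ^ i * w⁻¹) * (w * w) * k ^ i := by group
        _ = (k⁻¹) ^ i * z * k ^ i := by rw [← conj_pow, h5, hww]
        _ = (k⁻¹) ^ i * (z * k ^ i) := by rw [mul_assoc]
        _ = (k⁻¹) ^ i * (k ^ i * z) := by rw [← h.sit.z_centr _ (pow_mem (mem_cen.1 h.kK).1 i)]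
        _ = z := by rw [inv_pow, inv_mul_cancel_left]

/-- type A: `t₁ ∈ V`. -/
theorem CaseA.typeA {t₁ : Ω} {β₁ : Ω → Ω} (v : VD F z t₁ β₁) (hA : TyA S R a z r t₁) : t₁ = t ∨ t₁ = t * z := by
  obtain ⟨c₁, d₁, k₁, h₁⟩ := h.sit.caseA v hA
  have hm := h.sit.qr.m3
  have hk₁ : k₁ ∈ Subgroup.zpowers k := by
    refine h.mem_k h₁.kK fun h2 => ?_
    have h3 : k₁ ^ 4 = 1 := by
      have : k₁ ^ 4 = (k₁ * k₁) * (k₁ * k₁) := by simp [pow_succ, mul_assoc]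
      rw [this, h2, h.sit.qr.zz]
    have h4 := orderOf_dvd_of_pow_eq_one h3
    rw [h₁.ok] at h4
    have h5 := Nat.le_of_dvd (by norm_num) h4
    have h6 : 2 ^ 3 ≤ 2 ^ m := Nat.pow_le_pow_right (by norm_num) hm
    omega
  have hc₁ : c₁ ∈ Subgroup.zpowers k := by
    have : Subgroup.zpowers k₁ ≤ Subgroup.zpowers k := by rwa [Subgroup.zpowers_le]
    exact this h₁.ck
  obtain ⟨i, hi⟩ := hc₁
  obtain ⟨j, hj⟩ := h.ck
  simp only at hi hj
  have hz : z = k ^ 2 ^ (m - 1) := by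
    refine invol_unique (by omega) h.ok ?_ h.sit.qr.z1 h.sit.qr.zz
    rw [← h.cc]
    exact mul_mem h.ck h.ck
  have h5 : (c₁ * c⁻¹) * (c₁ * c⁻¹) = 1 := by
    have hcc : Commute c₁ c⁻¹ := by
      rw [← hi, ← hj]
      exact ((Commute.refl k).zpow_zpow i j).inv_right
    calc (c₁ * c⁻¹) * (c₁ * c⁻¹) = c₁ * (c⁻¹ * c₁) * c⁻¹ := by group
      _ = c₁ * (c₁ * c⁻¹) * c⁻¹ := by rw [hcc.eq]
      _ = (c₁ * c₁) * (c * c)⁻¹ := by group
      _ = 1 := by rw [h₁.cc, h.cc, mul_inv_cancel]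
  have h6 : c₁ * c⁻¹ ∈ Subgroup.zpowers k := by
    rw [← hi, ← hj]
    exact mul_mem (Subgroup.zpow_mem _ (Subgroup.mem_zpowers k) i)
      (Subgroup.inv_mem _ (Subgroup.zpow_mem _ (Subgroup.mem_zpowers k) j))
  by_cases h7 : c₁ * c⁻¹ = 1
  · left
    rw [h₁.tc, h.tc, mul_inv_eq_one.1 h7]
  · right
    have h8 := invol_unique (by omega) h.ok h6 h7 h5
    rw [← hz] at h8
    have h9 : c₁ = c * z := by
      rw [h.sit.z_centr c (mem_cen.1 h.cK).1]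
      exact mul_inv_eq_iff_eq_mul.1 h8
    rw [h₁.tc, h.tc, h9, mul_assoc]

lemma CaseA.bdj (j : ℤ) : b⁻¹ * d ^ j * b = d ^ j * a ^ (-j) := by
  have h1 : b * d * b⁻¹ = d * a⁻¹ := by rw [h.bd, mul_inv_cancel_right]
  have h2 : b * a * b⁻¹ = a⁻¹ := by rw [h.sit.qr.ba, mul_inv_cancel_right]
  have hc : Commute d a⁻¹ := (show Commute d a from h.da).inv_right
  have h3 : b⁻¹ * d * b = d * a⁻¹ := by
    have h4 : b * (d * a⁻¹) * b⁻¹ = d := by
      calc b * (d * a⁻¹) * b⁻¹ = (b * d * b⁻¹) * (b * a * b⁻¹)⁻¹ := by group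
        _ = d := by rw [h1, h2]; group
    calc b⁻¹ * d * b = b⁻¹ * (b * (d * a⁻¹) * b⁻¹) * b := by rw [h4]
      _ = d * a⁻¹ := by group
  have h5 : b⁻¹ * d ^ j * b = (b⁻¹ * d * b) ^ j := by
    have := conj_zpow (i := j) (a := b⁻¹) (b := d)
    rw [inv_inv] at this
    exact this.symm
  rw [h5, h3, hc.mul_zpow, inv_zpow, zpow_neg]

/-- the elements `b⁻¹ x' d^j` -/
lemma CaseA.form {t₁ : Ω} (hS₁ : t₁ ∈ S) (hta : t₁ * a = a⁻¹ * t₁) {j : ℤ} (hj : t₁⁻¹ * b * t₁ = b * a ^ j) :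
    ∃ x ∈ centralizerIn S R, b * t₁ = x * d ^ j := by
  have hc : Commute d a := h.da
  refine ⟨b * t₁ * d ^ (-j), mem_cen.2 ⟨mul_mem (mul_mem h.sit.bS hS₁) (zpow_mem h.dS _), h.sit.qr.cen_of ?_ ?_⟩, ?_⟩
  · have h1 : b * a⁻¹ = a * b := by
      have := h.sit.qr.baz (-1)
      rw [neg_neg, zpow_one, zpow_neg_one, mul_inv_eq_iff_eq_mul] at this
      exact this
    have h2 : d ^ (-j) * a = a * d ^ (-j) := (hc.zpow_left (-j)).eq
    calc b * t₁ * d ^ (-j) * a = b * (t₁ * a) * d ^ (-j) := by rw [mul_assoc _ _ a, h2]; group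
      _ = (b * a⁻¹) * t₁ * d ^ (-j) := by rw [hta]; group
      _ = a * (b * t₁ * d ^ (-j)) := by rw [h1]; group
  · have h3 : (b * t₁ * d ^ (-j))⁻¹ * b * (b * t₁ * d ^ (-j)) = b := by
      calc (b * t₁ * d ^ (-j))⁻¹ * b * (b * t₁ * d ^ (-j)) = (d ^ (-j))⁻¹ * (t₁⁻¹ * b * t₁) * d ^ (-j) := by group
        _ = d ^ j * b * (a ^ j * d ^ (-j)) := by rw [hj, zpow_neg]; group
        _ = b * (b⁻¹ * d ^ j * b) * (a ^ j * d ^ (-j)) := by group
        _ = b * (d ^ j * a ^ (-j)) * (a ^ j * d ^ (-j)) := by rw [h.bdj]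
        _ = b := by group
    calc b * t₁ * d ^ (-j) * b = b * t₁ * d ^ (-j) * ((b * t₁ * d ^ (-j))⁻¹ * b * (b * t₁ * d ^ (-j))) := by rw [h3]
      _ = b * (b * t₁ * d ^ (-j)) := by group
  · group

/-- a type SD conjugate of `z` commutes with `t`. -/
lemma CaseA.sd_t {t₁ : Ω} (hS₁ : t₁ ∈ S) (hta : t₁ * a = a⁻¹ * t₁) {j : ℤ} (hodd : Odd j)
    (hj : t₁⁻¹ * b * t₁ = b * a ^ j) (h2 : t₁ * t₁ = 1) : t₁ * t = t * t₁ := by
  obtain ⟨x, hx, hxt⟩ := h.form hS₁ hta hj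
  have hxb : x * b = b * x := (mem_cen.1 hx).2 b h.sit.qr.bR
  have hxr : x * r = r * x := (mem_cen.1 hx).2 r h.sit.qr.rR
  have hc : Commute d a := h.da
  have h1 : b * d * b⁻¹ = d * a⁻¹ := by rw [h.bd, mul_inv_cancel_right]
  have hbdj : b * d ^ j * b⁻¹ = d ^ j * a ^ (-j) := by
    rw [← conj_zpow, h1, hc.inv_right.mul_zpow, inv_zpow, zpow_neg]
  have hn : x ∉ Subgroup.zpowers k := by
    rintro ⟨l, hl⟩
    simp only at hl
    have h3 : x * (d ^ j * a ^ (-j)) * x * d ^ j = z := by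
      calc x * (d ^ j * a ^ (-j)) * x * d ^ j = x * (b * d ^ j * b⁻¹) * x * d ^ j := by rw [hbdj]
        _ = (x * b) * d ^ j * b⁻¹ * (x * d ^ j) := by group
        _ = b * (x * d ^ j) * b⁻¹ * (x * d ^ j) := by rw [hxb]; group
        _ = b * (b * t₁) * b⁻¹ * (b * t₁) := by rw [hxt]
        _ = b * b * (t₁ * t₁) := by group
        _ = z := by rw [h2, mul_one, h.sit.qr.bb]
    have h4 : x * (d ^ j * a ^ (-j)) * x * d ^ j = k ^ (l + l + j) := by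
      have hk : k ^ j = d ^ j * d ^ j * a ^ (-j) := by
        have h5 : Commute (d * d) a⁻¹ := (hc.mul_left hc).inv_right
        rw [h.hk, h5.mul_zpow, (Commute.refl d).mul_zpow, inv_zpow, zpow_neg]
      have h6 : k ^ l ∈ Subgroup.zpowers a ⊔ Subgroup.zpowers d := by
        rw [h.hk]
        exact Subgroup.zpow_mem _ (mul_mem (mul_mem h.dM h.dM) (Subgroup.inv_mem _ h.aM)) _
      have h7 : d ^ j ∈ Subgroup.zpowers a ⊔ Subgroup.zpowers d := Subgroup.zpow_mem _ h.dM _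
      have h8 : a ^ (-j) ∈ Subgroup.zpowers a ⊔ Subgroup.zpowers d := Subgroup.zpow_mem _ h.aM _
      have c1 := h.M_comm (mul_mem h7 h8) h6
      have c2 := h.M_comm h8 h7
      rw [← hl, zpow_add, zpow_add, hk]
      calc k ^ l * (d ^ j * a ^ (-j)) * k ^ l * d ^ j = k ^ l * ((d ^ j * a ^ (-j)) * k ^ l) * d ^ j := by group
        _ = k ^ l * (k ^ l * (d ^ j * a ^ (-j))) * d ^ j := by rw [c1]
        _ = k ^ l * k ^ l * (d ^ j * (a ^ (-j) * d ^ j)) := by simp only [mul_assoc]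
        _ = k ^ l * k ^ l * (d ^ j * d ^ j * a ^ (-j)) := by rw [c2]; simp only [mul_assoc]
    rw [h4] at h3
    have h9 : Even (l + l + j) := h.k_half (by rw [h3, h.sit.qr.zz])
    have h10 : Even j := by
      obtain ⟨u, hu⟩ := h9
      exact ⟨u - l, by linarith⟩
    exact (Int.not_even_iff_odd.2 hodd) h10
  rcases h.K with hK | ⟨w, hw, hwk, hww, -, hK⟩
  · exact absurd (hK x hx) hn
  obtain ⟨i, rfl | hxi⟩ := hK x hx
  · exact absurd (Subgroup.pow_mem _ (Subgroup.mem_zpowers k) i) hn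
  obtain ⟨l, hl⟩ := h.ck
  simp only at hl
  have e1 : x * k * x⁻¹ = k⁻¹ := by
    rw [hxi]
    calc w * k ^ i * k * (w * k ^ i)⁻¹ = w * (k ^ i * k * (k ^ i)⁻¹) * w⁻¹ := by group
      _ = w * k * w⁻¹ := by rw [← pow_succ, pow_succ', mul_inv_cancel_right]
      _ = k⁻¹ := by rw [hwk, mul_inv_cancel_right]
  have e2 : x * c * x⁻¹ = c * z := by
    have : c⁻¹ = c * z := by
      rw [inv_eq_iff_mul_eq_one, ← mul_assoc, h.cc, h.sit.qr.zz]
    rw [← this, ← hl, ← conj_zpow, e1, inv_zpow]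
  have e3 : x * t * x⁻¹ = t * z := by
    calc x * t * x⁻¹ = (x * r) * c * x⁻¹ := by rw [h.tc]; group
      _ = r * (x * c * x⁻¹) := by rw [hxr]; group
      _ = t * z := by rw [e2, h.tc]; group
  have e4 : d ^ j * t * (d ^ j)⁻¹ = t := by
    have h6 := h.M_comm (Subgroup.zpow_mem _ h.dM j) h.tM
    rw [h6, mul_inv_cancel_right]
  have e5 : t₁ = b⁻¹ * (x * d ^ j) := by rw [← hxt]; group
  have e6 : t₁ * t * t₁⁻¹ = t := by
    calc t₁ * t * t₁⁻¹ = b⁻¹ * (x * (d ^ j * t * (d ^ j)⁻¹) * x⁻¹) * b := by rw [e5]; group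
      _ = b⁻¹ * (b * t * b⁻¹) * b := by rw [e4, e3, h.bt]
      _ = t := by group
  exact mul_inv_eq_iff_eq_mul.1 e6

/-- For a type SD conjugate `t₁` of `z`, `C_S(t₁) ≤ C_S(t)`. -/
lemma CaseA.sd_C {t₁ : Ω} {β₁ : Ω → Ω} (v : VD F z t₁ β₁) (hta : t₁ * a = a⁻¹ * t₁)
    (htt : t₁ * t = t * t₁) : CS S t₁ ≤ CS S t := by
  intro s hs
  have hsS := (mem_CS.1 hs).1
  rcases h.Vn s hsS with h1 | h1
  · exact mem_CS.2 ⟨hsS, mul_inv_eq_iff_eq_mul.1 h1⟩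
  exfalso
  have htC : t ∈ CS S t₁ := mem_CS.2 ⟨h.tS, htt.symm⟩
  have h2 : s * t * s⁻¹ * t⁻¹ = z := by
    rw [h1, h.tzt, mul_inv_cancel_right]
  have hm := v.mp
  have h3 : t₁ = β₁ s * β₁ t * (β₁ s)⁻¹ * (β₁ t)⁻¹ := by
    rw [← v.βz, ← h2, hm.mul (mul_mem (mul_mem hs htC) (Subgroup.inv_mem _ hs)) (Subgroup.inv_mem _ htC),
      hm.mul (mul_mem hs htC) (Subgroup.inv_mem _ hs), hm.mul hs htC, hm.inv hs, hm.inv htC]
  have h4 : t₁ ∈ Subgroup.zpowers a ⊔ Subgroup.zpowers d := by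
    rw [h3]
    exact h.comm_M (hm.mem hs) (hm.mem htC)
  have h5 := h.M_comm h4 h.aM
  rw [hta] at h5
  have h6 : a⁻¹ = a := mul_right_cancel h5
  apply h.sit.qr.a2
  nth_rw 1 [← h6]
  rw [inv_mul_cancel]

end

end Cfsg.Agent.H784.Q
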