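import Cfsg.Agent.H812.SlLemma

/-!
# The `SL₂` lemma with the spread conclusion (helper780, after helper812's `SlLemma`)
-/

set_option autoImplicit false

namespace Cfsg.Agent.H780

open Cfsg.Agent.H812.SlTwo
open scoped Pointwise

theorem sl2_lemma' {K : Type*} [Field K] [Finite K] {p : ℕ} [Fact p.Prime] [CharP K p]
    {G : Type*} [Group G] [Finite G] (ρ : G →* Equiv.Perm (K × K))
    (hadd : ∀ g v w, ρ g (v + w) = ρ g v + ρ g w) (P : Sylow p G)
    (hP1 : ∀ g ∈ P, ∃ r : K, ρ g = theta r) (hP2 : ∀ r : K, ∃ g ∈ P, ρ g = theta r)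
    (hnn : ∃ g b, (ρ g (0, b)).1 ≠ 0) :
    ∃ f : K →+ K, (∀ c : K, c ≠ 0 → ∃ h : G, ∀ a b, ρ h (a, b) = (c⁻¹ * a, c * (b - f a) + f (c⁻¹ * a))) ∧
      (∀ r : K, r ≠ 0 → ∃ n : G, ∀ a b, ρ n (a, b) = ((b - f a) / r, f ((b - f a) / r) - r * a)) ∧
      (∀ g : G, (∀ b, (ρ g (0, b)).1 = 0) ∨
        ∃ r : K, ∀ b, (ρ g (0, b)).2 = f (ρ g (0, b)).1 + r * (ρ g (0, b)).1) := by
  -- pass to the image
  let G' : Subgroup (Equiv.Perm (K × K)) := ρ.range
  have hmem : ∀ x : G', ∃ g : G, ρ g = x := fun x => x.2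
  let _ : DistribMulAction G' (W K) :=
    { smul := fun g v => (g : Equiv.Perm (K × K)) v
      one_smul := fun v => rfl
      mul_smul := fun g h v => rfl
      smul_zero := fun x => by
        show (x : Equiv.Perm (K × K)) 0 = 0
        obtain ⟨g, hg⟩ := hmem x
        rw [← hg]
        have h := hadd g 0 0
        rw [add_zero] at h
        exact left_eq_add.1 h
      smul_add := fun x v w => by
        show (x : Equiv.Perm (K × K)) (v + w) = (x : Equiv.Perm (K × K)) v + (x : Equiv.Perm (K × K)) w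
        obtain ⟨g, hg⟩ := hmem x
        rw [← hg]
        exact hadd g v w }
  have hsm : ∀ (g : G') (v : W K), g • v = (g : Equiv.Perm (K × K)) v := fun _ _ => rfl
  choose T hTP hT using hP2
  let P' : Sylow p G' := P.mapSurjective ρ.rangeRestrict_surjective
  have hP' : ∀ x : G', x ∈ P' ↔ ∃ g ∈ P, ρ.rangeRestrict g = x := by
    intro x
    show x ∈ ((P.mapSurjective ρ.rangeRestrict_surjective : Sylow p G') : Subgroup G') ↔ _
    rw [Sylow.coe_mapSurjective]
    exact Subgroup.mem_map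
  let B : Base p K G' :=
    { T := fun t => ρ.rangeRestrict (T t)
      hT := fun t v => by
        rw [hsm]
        show ρ (T t) v = theta t v
        rw [hT]
      faith := fun x hx => Subtype.ext (Equiv.ext hx)
      P := P'
      memP := fun x => by
        rw [hP']
        constructor
        · rintro ⟨g, hg, rfl⟩
          obtain ⟨t, ht⟩ := hP1 g hg
          exact ⟨t, Subtype.ext (by show ρ g = ρ (T t); rw [ht, hT])⟩
        · rintro ⟨t, rfl⟩
          exact ⟨T t, hTP t, rfl⟩ }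
  obtain ⟨g, b, hgb⟩ := hnn
  have hg : ρ.rangeRestrict g • Vo K ≠ Vo K := by
    intro h
    apply hgb
    have h1 : ρ.rangeRestrict g • ((0, b) : W K) ∈ ρ.rangeRestrict g • Vo K :=
      AddSubgroup.smul_mem_pointwise_smul _ _ _ rfl
    rw [h] at h1
    exact h1
  obtain ⟨f, h1, h2⟩ := B.main hg
  refine ⟨f, fun c hc => ?_, fun r hr => ?_, fun x => ?_⟩
  · obtain ⟨x, hx⟩ := h1 c hc
    obtain ⟨y, hy⟩ := hmem x
    exact ⟨y, fun a b => by rw [hy]; exact hx a b⟩
  · obtain ⟨x, hx⟩ := h2 r hr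
    obtain ⟨y, hy⟩ := hmem x
    exact ⟨y, fun a b => by rw [hy]; exact hx a b⟩
  · by_cases hx : ∀ b, (ρ x (0, b)).1 = 0
    · exact Or.inl hx
    · right
      push Not at hx
      obtain ⟨b₀, hb₀⟩ := hx
      set y := ρ.rangeRestrict x with hy
      set v : W K := ρ x (0, b₀) with hv
      obtain ⟨n, hn⟩ := h2 1 one_ne_zero
      refine ⟨(v.2 - f v.1) / v.1, ?_⟩
      set r := (v.2 - f v.1) / v.1 with hr
      -- `v ∈ θ_r n V₁`
      have hgraph : ∀ w : W K, w ∈ (B.T r * n) • Vo K ↔ w.2 = f w.1 + r * w.1 := by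
        intro w
        constructor
        · intro hw
          obtain ⟨u, hu, rfl⟩ := (AddSubgroup.mem_smul_pointwise_iff_exists _ _ _).1 hw
          obtain ⟨u1, u2⟩ := u
          have hu1 : u1 = 0 := hu
          rw [hu1, mul_smul, hn, B.T_apply]
          simp
        · intro hw
          rw [AddSubgroup.mem_smul_pointwise_iff_exists]
          refine ⟨(0, w.1), rfl, ?_⟩
          rw [mul_smul, hn, B.T_apply]
          ext
          · simp
          · simp [hw]
      have hv1 : v ∈ y • Vo K :=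
        (AddSubgroup.mem_smul_pointwise_iff_exists _ _ _).2 ⟨(0, b₀), rfl, rfl⟩
      have hv2 : v ∈ (B.T r * n) • Vo K := by
        rw [hgraph, hr]
        field_simp
        ring
      have hv0 : v ≠ 0 := fun h => hb₀ (by rw [h]; rfl)
      have h3 := B.inter' hv1 hv2 hv0
      intro b
      have h4 : (ρ x (0, b) : W K) ∈ y • Vo K :=
        (AddSubgroup.mem_smul_pointwise_iff_exists _ _ _).2 ⟨(0, b), rfl, rfl⟩
      rw [h3, hgraph] at h4
      exact h4

end Cfsg.Agent.H780
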