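import Mathlib

/-!
# Coordinates for the Sylow subgroups of `Sp₄(K)` and the actions on its abelian subgroups (helper780)
-/

set_option autoImplicit false

namespace Cfsg.Agent.H780

/-- Coordinates `(t,s,u,z)` on a group which looks like a Sylow `p`-subgroup of `Sp₄(K)`. -/
structure SpCoord (X : Type*) [Group X] (K : Type*) [Field K] where
  t : X → K
  s : X → K
  u : X → K
  z : X → K
  t_mul : ∀ x y, t (x * y) = t x + t y
  s_mul : ∀ x y, s (x * y) = s x + s y
  u_mul : ∀ x y, u (x * y) = u x + u y + t x * s y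
  z_mul : ∀ x y, z (x * y) = z x + z y + 2 * t x * u y + t x ^ 2 * s y
  inj : ∀ x y, t x = t y → s x = s y → u x = u y → z x = z y → x = y
  surj : ∀ a b c d : K, ∃ x, t x = a ∧ s x = b ∧ u x = c ∧ z x = d

/-- `θ_r : (a,b) ↦ (a, b + r a)` on `K × K`. -/
def theta {K : Type*} [Field K] (r : K) : Equiv.Perm (K × K) :=
  { toFun := fun v => (v.1, v.2 + r * v.1)
    invFun := fun v => (v.1, v.2 - r * v.1)
    left_inv := fun v => by ext <;> simp
    right_inv := fun v => by ext <;> simp }

/-- `φ_t : (s,u,z) ↦ (s, u + t s, z + 2 t u + t² s)` on `K × K × K`. -/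
def phi {K : Type*} [Field K] (t : K) : Equiv.Perm (K × K × K) :=
  { toFun := fun v => (v.1, v.2.1 + t * v.1, v.2.2 + 2 * t * v.2.1 + t ^ 2 * v.1)
    invFun := fun v => (v.1, v.2.1 - t * v.1, v.2.2 - 2 * t * v.2.1 + t ^ 2 * v.1)
    left_inv := fun v => by ext <;> simp; ring
    right_inv := fun v => by ext <;> simp; ring }

@[simp] theorem theta_apply {K : Type*} [Field K] (r a b : K) : theta r (a, b) = (a, b + r * a) := rfl

@[simp] theorem phi_apply {K : Type*} [Field K] (t s u z : K) :
    phi t (s, u, z) = (s, u + t * s, z + 2 * t * u + t ^ 2 * s) := rfl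

theorem theta_add {K : Type*} [Field K] (r r' : K) : theta (r + r') = theta r * theta r' := by
  apply Equiv.ext
  rintro ⟨a, b⟩
  rw [Equiv.Perm.mul_apply, theta_apply, theta_apply, theta_apply]
  ext
  · rfl
  · show b + (r + r') * a = b + r' * a + r * a
    ring

theorem phi_add {K : Type*} [Field K] (t t' : K) : phi (t + t') = phi t * phi t' := by
  apply Equiv.ext
  rintro ⟨s, u, z⟩
  rw [Equiv.Perm.mul_apply, phi_apply, phi_apply, phi_apply]
  ext
  · rfl
  · show u + (t + t') * s = u + t' * s + t * s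
    ring
  · show z + 2 * (t + t') * u + (t + t') ^ 2 * s =
      z + 2 * t' * u + t' ^ 2 * s + 2 * t * (u + t' * s) + t ^ 2 * s
    ring

end Cfsg.Agent.H780
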