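import Cfsg.Agent.H780.EssChain
import Cfsg.Agent.H780.SpDefs

/-!
# Natural `SL₂(q)`-situations in fusion systems (helper780)
-/

set_option autoImplicit false

universe u v

namespace Cfsg.Agent.H780

open Cfsg Cfsg.FusionSystem Cfsg.Agent.H802

/-- The statement of the `SL₂` lemma. -/
def SL2Prop (K : Type v) [Field K] (p : ℕ) : Prop :=
  ∀ (G : Type u) [Group G] [Finite G] (ρ : G →* Equiv.Perm (K × K))
    (_hadd : ∀ g v w, ρ g (v + w) = ρ g v + ρ g w) (P : Sylow p G)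
    (_hP1 : ∀ g ∈ P, ∃ r : K, ρ g = theta r) (_hP2 : ∀ r : K, ∃ g ∈ P, ρ g = theta r)
    (_hnn : ∃ g b, (ρ g (0, b)).1 ≠ 0),
  ∃ f : K →+ K, (∀ c : K, c ≠ 0 → ∃ h : G, ∀ a b, ρ h (a, b) = (c⁻¹ * a, c * (b - f a) + f (c⁻¹ * a))) ∧
    (∀ r : K, r ≠ 0 → ∃ n : G, ∀ a b, ρ n (a, b) = ((b - f a) / r, f ((b - f a) / r) - r * a)) ∧
    (∀ g : G, (∀ b, (ρ g (0, b)).1 = 0) ∨
      ∃ r : K, ∀ b, (ρ g (0, b)).2 = f (ρ g (0, b)).1 + r * (ρ g (0, b)).1)

/-- The action on the values of an additive surjection. -/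
theorem exists_rho {P : Type*} [Group P] {V : Type*} [AddGroup V] (π : P → V)
    (hπ : ∀ x y, π (x * y) = π x + π y) (hs : Function.Surjective π) (G : Subgroup (MulAut P))
    (hG : ∀ α ∈ G, ∀ x, π x = 0 → π (α x) = 0) :
    ∃ ρ : G →* Equiv.Perm V, (∀ (α : G) x, ρ α (π x) = π (α.1 x)) ∧
      (∀ α v w, ρ α (v + w) = ρ α v + ρ α w) := by
  have h1 : π 1 = 0 := by
    have := hπ 1 1
    rw [mul_one] at this
    simpa using this
  have hinv : ∀ x, π x⁻¹ = - π x := by
    intro x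
    have := hπ x⁻¹ x
    rw [inv_mul_cancel, h1] at this
    exact eq_neg_of_add_eq_zero_left this.symm
  have key : ∀ α ∈ G, ∀ x y, π x = π y → π (α x) = π (α y) := by
    intro α hα x y hxy
    have h2 : π (x⁻¹ * y) = 0 := by rw [hπ, hinv, hxy, neg_add_cancel]
    have h3 := hG α hα _ h2
    rw [map_mul, map_inv, hπ, hinv] at h3
    exact neg_add_eq_zero.1 h3
  let σ := Function.surjInv hs
  have hσ : ∀ v, π (σ v) = v := Function.surjInv_eq hs
  let act : G → V → V := fun α v => π (α.1 (σ v))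
  have hact : ∀ (α : G) x, act α (π x) = π (α.1 x) := fun α x => key α α.2 _ _ (hσ _)
  have hmul : ∀ (α β : G) v, act (α * β) v = act α (act β v) := by
    intro α β v
    show π ((α.1 * β.1) (σ v)) = act α (π (β.1 (σ v)))
    rw [hact]
    rfl
  have hone : ∀ v, act 1 v = v := by
    intro v
    show π ((1 : MulAut P) (σ v)) = v
    rw [MulAut.one_apply]
    exact hσ v
  refine ⟨{ toFun := fun α =>
              { toFun := act α
                invFun := act α⁻¹
                left_inv := fun v => by rw [← hmul, inv_mul_cancel, hone]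
                right_inv := fun v => by rw [← hmul, mul_inv_cancel, hone] }
            map_one' := Equiv.ext hone
            map_mul' := fun α β => Equiv.ext (hmul α β) }, hact, ?_⟩
  intro α v w
  show act α (v + w) = act α v + act α w
  obtain ⟨x, rfl⟩ := hs v
  obtain ⟨y, rfl⟩ := hs w
  rw [← hπ, hact, hact, hact, map_mul, hπ]

variable {Ω : Type u} [Group Ω] {S : Subgroup Ω} {K : Type v} [Field K]

/-- A natural `SL₂`-situation. -/
theorem sl2_situation [Finite S] {p : ℕ} [Fact p.Prime] (hsl : SL2Prop.{u} K p) (hS : IsPGroup p S)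
    {F : FusionSystem S} {P : Subgroup Ω} (hPa : F.IsFullyAutomized p P)
    {G : Subgroup (MulAut P)} (hG : G ≤ F.autGroup P) (hTG : autInducedBy S P ≤ G)
    (π : P → K × K) (hπ : ∀ x y, π (x * y) = π x + π y) (hs : Function.Surjective π)
    (hker : ∀ α ∈ G, ∀ x, π x = 0 → α x = x)
    (hT1 : ∀ τ ∈ autInducedBy S P, ∃ r, ∀ x, π (τ x) = theta r (π x))
    (hT2 : ∀ r, ∃ τ ∈ autInducedBy S P, ∀ x, π (τ x) = theta r (π x))
    (hnn : ¬ ∀ g ∈ G, ∀ u ∈ autInducedBy S P, g * u * g⁻¹ ∈ autInducedBy S P) :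
    ∃ f : K →+ K,
      (∀ c : K, c ≠ 0 → ∃ h ∈ G, (∀ x, π (h x) =
        (c⁻¹ * (π x).1, c * ((π x).2 - f (π x).1) + f (c⁻¹ * (π x).1))) ∧
        ∀ u ∈ autInducedBy S P, h * u * h⁻¹ ∈ autInducedBy S P) ∧
      (∀ r : K, r ≠ 0 → ∃ n ∈ G, ∀ x, π (n x) =
        (((π x).2 - f (π x).1) / r, f (((π x).2 - f (π x).1) / r) - r * (π x).1)) ∧
      (∀ g ∈ G, (∀ x, (π x).1 = 0 → (π (g x)).1 = 0) ∨
        ∃ r : K, ∀ x, (π x).1 = 0 → (π (g x)).2 = f (π (g x)).1 + r * (π (g x)).1) := by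
  have hPS := hPa.1
  have hfP : Finite P := finite_of_le hPS
  obtain ⟨ρ, hρ, hρadd⟩ := exists_rho π hπ hs G (fun α hα x hx => by rw [hker α hα x hx, hx])
  have h1 : π 1 = 0 := by
    have := hπ 1 1
    rw [mul_one] at this
    simpa using this
  have hinv : ∀ x, π x⁻¹ = - π x := by
    intro x
    have := hπ x⁻¹ x
    rw [inv_mul_cancel, h1] at this
    exact eq_neg_of_add_eq_zero_left this.symm
  -- the chain
  let A : Subgroup P :=
    { carrier := {x | (π x).1 = 0}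
      one_mem' := by show (π 1).1 = 0; rw [h1]; rfl
      mul_mem' := fun {x y} hx hy => by
        show (π (x * y)).1 = 0
        rw [hπ, Prod.fst_add, show (π x).1 = 0 from hx, show (π y).1 = 0 from hy, add_zero]
      inv_mem' := fun {x} hx => by
        show (π x⁻¹).1 = 0
        rw [hinv, Prod.fst_neg, show (π x).1 = 0 from hx, neg_zero] }
  let B : Subgroup P :=
    { carrier := {x | π x = 0}
      one_mem' := h1
      mul_mem' := fun {x y} hx hy => by
        show π (x * y) = 0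
        rw [hπ, show π x = 0 from hx, show π y = 0 from hy, add_zero]
      inv_mem' := fun {x} hx => by
        show π x⁻¹ = 0
        rw [hinv, show π x = 0 from hx, neg_zero] }
  let c : ℕ → Subgroup P := fun i => match i with
    | 0 => ⊤
    | 1 => A
    | 2 => B
    | _ => ⊥
  have hanti : ∀ i, c (i + 1) ≤ c i := by
    rintro (_ | _ | _ | i)
    · exact le_top
    · intro x hx
      show (π x).1 = 0
      rw [show π x = 0 from hx]
      rfl
    · exact bot_le
    · exact le_rfl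
  set N := chainStab G 3 c hanti rfl with hN
  have hNp : IsPGroup p N := chainStab_isPGroup (hS.to_le hPS) G 3 c hanti rfl rfl
  have hNmem : ∀ α, α ∈ N ↔ α ∈ G ∧ (∀ x, (π (α x)).1 = (π x).1) ∧ ∀ x, (π x).1 = 0 → π (α x) = π x := by
    intro α
    rw [hN, mem_chainStab]
    constructor
    · rintro ⟨hα, h⟩
      refine ⟨hα, fun x => ?_, fun x hx => ?_⟩
      · have h3 : (π (x⁻¹ * α x)).1 = 0 := h 0 (by norm_num) x (Subgroup.mem_top x)
        rw [hπ, hinv, Prod.fst_add, Prod.fst_neg] at h3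
        exact (neg_add_eq_zero.1 h3).symm
      · have h3 : π (x⁻¹ * α x) = 0 := h 1 (by norm_num) x hx
        rw [hπ, hinv] at h3
        exact (neg_add_eq_zero.1 h3).symm
    · rintro ⟨hα, h, h'⟩
      refine ⟨hα, ?_⟩
      rintro (_ | _ | _ | i) hi x hx
      · show (π (x⁻¹ * α x)).1 = 0
        rw [hπ, hinv, Prod.fst_add, Prod.fst_neg, h x, neg_add_cancel]
      · show π (x⁻¹ * α x) = 0
        rw [hπ, hinv, h' x hx, neg_add_cancel]
      · rw [hker α hα x hx, inv_mul_cancel]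
        exact Subgroup.one_mem _
      · omega
  have hTN : autInducedBy S P ≤ N := by
    intro τ hτ
    rw [hNmem]
    obtain ⟨r, hr⟩ := hT1 τ hτ
    refine ⟨hTG hτ, fun x => by rw [hr]; rfl, fun x hx => ?_⟩
    rw [hr]
    have h9 : π x = (0, (π x).2) := by rw [← hx]
    rw [h9, theta_apply]
    simp
  have hNT : N ≤ autInducedBy S P := le_autInducedBy_of_le hPa
    (fun α hα => hG ((hNmem α).1 hα).1) hNp hTN
  obtain ⟨R, hR⟩ := exists_sylow_of_le hS hPa hG hTG
  have hmemR : ∀ g : G, g ∈ R ↔ (g : MulAut P) ∈ autInducedBy S P := by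
    intro g
    have : g ∈ (R : Subgroup G) ↔ g ∈ (autInducedBy S P).subgroupOf G := by rw [hR]
    exact this
  have hρeq : ∀ (g : G) (r : K), ρ g = theta r ↔ ∀ x, π (g.1 x) = theta r (π x) := by
    intro g r
    constructor
    · intro h x
      rw [← hρ, h]
    · intro h
      apply Equiv.ext
      intro v
      obtain ⟨x, rfl⟩ := hs v
      rw [hρ]
      exact h x
  have hnn' : ∃ g b, (ρ g (0, b)).1 ≠ 0 := by
    by_contra hcon
    push Not at hcon
    apply hnn
    intro g hg u hu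
    apply hNT
    have hu' := (hNmem u).1 (hTN hu)
    -- `g` preserves `A`
    have hgA : ∀ g ∈ G, ∀ x, (π x).1 = 0 → (π (g x)).1 = 0 := by
      intro g hg x hx
      have h3 := hcon ⟨g, hg⟩ (π x).2
      have h4 : (0, (π x).2) = π x := by rw [← hx]
      rw [h4, hρ] at h3
      exact h3
    rw [hNmem]
    refine ⟨G.mul_mem (G.mul_mem hg (hTG hu)) (G.inv_mem hg), fun x => ?_, fun x hx => ?_⟩
    · have h3 : (π ((g⁻¹ x)⁻¹ * u (g⁻¹ x))).1 = 0 := by
        rw [hπ, hinv, Prod.fst_add, Prod.fst_neg, hu'.2.1, neg_add_cancel]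
      have h4 := hgA g hg _ h3
      rw [map_mul, map_inv] at h4
      have h5 : g (g⁻¹ x) = x := g.apply_symm_apply x
      rw [h5, hπ, hinv, Prod.fst_add, Prod.fst_neg] at h4
      exact (neg_add_eq_zero.1 h4).symm
    · have h6 := hgA g⁻¹ (G.inv_mem hg) x hx
      have h3 : π ((g⁻¹ x)⁻¹ * u (g⁻¹ x)) = 0 := by
        rw [hπ, hinv, hu'.2.2 _ h6, neg_add_cancel]
      have h4 : π (g ((g⁻¹ x)⁻¹ * u (g⁻¹ x))) = 0 := by rw [hker g hg _ h3, h3]
      rw [map_mul, map_inv] at h4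
      have h5 : g (g⁻¹ x) = x := g.apply_symm_apply x
      rw [h5, hπ, hinv] at h4
      exact (neg_add_eq_zero.1 h4).symm
  obtain ⟨f, hf1, hf2, hf3⟩ := hsl G ρ hρadd R
    (fun g hg => by
      obtain ⟨r, hr⟩ := hT1 g ((hmemR g).1 hg)
      exact ⟨r, (hρeq g r).2 hr⟩)
    (fun r => by
      obtain ⟨τ, hτ, hr⟩ := hT2 r
      exact ⟨⟨τ, hTG hτ⟩, (hmemR _).2 hτ, (hρeq _ r).2 hr⟩) hnn'
  refine ⟨f, fun c hc => ?_, fun r hr => ?_, fun g hg => ?_⟩
  · obtain ⟨h, hh⟩ := hf1 c hc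
    have hh' : ∀ x, π (h.1 x) = (c⁻¹ * (π x).1, c * ((π x).2 - f (π x).1) + f (c⁻¹ * (π x).1)) := by
      intro x
      rw [← hρ, ← hh]
    refine ⟨h, h.2, hh', fun u hu => ?_⟩
    apply hNT
    rw [hNmem]
    obtain ⟨r, hr⟩ := hT1 u hu
    have hhinv : ∀ x, π (h.1⁻¹ x) = (c * (π x).1, c⁻¹ * ((π x).2 - f (π x).1) + f (c * (π x).1)) := by
      intro x
      have h3 := hh' (h.1⁻¹ x)
      have h5 : h.1 (h.1⁻¹ x) = x := h.1.apply_symm_apply x
      rw [h5] at h3
      rw [h3]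
      have h6 : c * (c⁻¹ * (π (h.1⁻¹ x)).1) = (π (h.1⁻¹ x)).1 := by field_simp
      ext
      · exact h6.symm
      · show (π (h.1⁻¹ x)).2 = c⁻¹ * ((c * ((π (h.1⁻¹ x)).2 - f (π (h.1⁻¹ x)).1) +
          f (c⁻¹ * (π (h.1⁻¹ x)).1)) - f (c⁻¹ * (π (h.1⁻¹ x)).1)) + f (c * (c⁻¹ * (π (h.1⁻¹ x)).1))
        rw [h6]
        field_simp
        ring
    have hcomp : ∀ x, π ((h.1 * u * h.1⁻¹) x) = ((π x).1, (π x).2 + c ^ 2 * r * (π x).1) := by
      intro x
      rw [MulAut.mul_apply, MulAut.mul_apply, hh', hr, hhinv]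
      have h6 : c⁻¹ * (c * (π x).1) = (π x).1 := by field_simp
      simp only [theta_apply]
      ext
      · exact h6
      · show c * (c⁻¹ * ((π x).2 - f (π x).1) + f (c * (π x).1) + r * (c * (π x).1) - f (c * (π x).1)) +
          f (c⁻¹ * (c * (π x).1)) = (π x).2 + c ^ 2 * r * (π x).1
        rw [h6]
        field_simp
        ring
    refine ⟨G.mul_mem (G.mul_mem h.2 (hTG hu)) (G.inv_mem h.2), fun x => by rw [hcomp], fun x hx => ?_⟩
    rw [hcomp, hx]
    ext
    · exact hx.symm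
    · simp
  · obtain ⟨n, hn⟩ := hf2 r hr
    refine ⟨n, n.2, fun x => ?_⟩
    rw [← hρ, ← hn]
  · have hx0 : ∀ x, (π x).1 = 0 → π (g x) = ρ ⟨g, hg⟩ (0, (π x).2) := by
      intro x hx
      have h4 : ((0 : K), (π x).2) = π x := by rw [← hx]
      rw [h4, hρ]
    rcases hf3 ⟨g, hg⟩ with h | ⟨r, hr⟩
    · left
      intro x hx
      rw [hx0 x hx]
      exact h _
    · right
      refine ⟨r, fun x hx => ?_⟩
      rw [hx0 x hx]
      exact hr _

end Cfsg.Agent.H780
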