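import Cfsg.Agent.H780.SpDefs
import Cfsg.Agent.H780.Heis

/-!
# Coordinates on a Sylow subgroup of `Sp₄(K)`: elementary facts (helper780)
-/

set_option autoImplicit false

universe u

namespace Cfsg.Agent.H780

open Cfsg Cfsg.FusionSystem

/-- Coordinates as total functions on the ambient group. -/
structure SpC {Ω : Type*} [Group Ω] (S : Subgroup Ω) (K : Type*) [Field K] where
  t : Ω → K
  s : Ω → K
  u : Ω → K
  z : Ω → K
  t_mul : ∀ {x y}, x ∈ S → y ∈ S → t (x * y) = t x + t y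
  s_mul : ∀ {x y}, x ∈ S → y ∈ S → s (x * y) = s x + s y
  u_mul : ∀ {x y}, x ∈ S → y ∈ S → u (x * y) = u x + u y + t x * s y
  z_mul : ∀ {x y}, x ∈ S → y ∈ S → z (x * y) = z x + z y + 2 * t x * u y + t x ^ 2 * s y
  inj : ∀ {x y}, x ∈ S → y ∈ S → t x = t y → s x = s y → u x = u y → z x = z y → x = y
  surj : ∀ a b c d : K, ∃ x ∈ S, t x = a ∧ s x = b ∧ u x = c ∧ z x = d

/-- Total coordinates from coordinates on the subgroup. -/
noncomputable def SpCoord.toSpC {Ω : Type*} [Group Ω] {S : Subgroup Ω} {K : Type*} [Field K]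
    (C : SpCoord ↥S K) : SpC S K := by
  classical
  exact
  { t := fun x => if h : x ∈ S then C.t ⟨x, h⟩ else 0
    s := fun x => if h : x ∈ S then C.s ⟨x, h⟩ else 0
    u := fun x => if h : x ∈ S then C.u ⟨x, h⟩ else 0
    z := fun x => if h : x ∈ S then C.z ⟨x, h⟩ else 0
    t_mul := fun {x y} hx hy => by
      simp only [dif_pos hx, dif_pos hy, dif_pos (S.mul_mem hx hy)]
      exact C.t_mul ⟨x, hx⟩ ⟨y, hy⟩
    s_mul := fun {x y} hx hy => by
      simp only [dif_pos hx, dif_pos hy, dif_pos (S.mul_mem hx hy)]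
      exact C.s_mul ⟨x, hx⟩ ⟨y, hy⟩
    u_mul := fun {x y} hx hy => by
      simp only [dif_pos hx, dif_pos hy, dif_pos (S.mul_mem hx hy)]
      exact C.u_mul ⟨x, hx⟩ ⟨y, hy⟩
    z_mul := fun {x y} hx hy => by
      simp only [dif_pos hx, dif_pos hy, dif_pos (S.mul_mem hx hy)]
      exact C.z_mul ⟨x, hx⟩ ⟨y, hy⟩
    inj := fun {x y} hx hy h1 h2 h3 h4 => by
      simp only [dif_pos hx, dif_pos hy] at h1 h2 h3 h4
      exact congrArg Subtype.val (C.inj ⟨x, hx⟩ ⟨y, hy⟩ h1 h2 h3 h4)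
    surj := fun a b c d => by
      obtain ⟨x, h1, h2, h3, h4⟩ := C.surj a b c d
      refine ⟨x, x.2, ?_, ?_, ?_, ?_⟩ <;> simp only [dif_pos x.2] <;> assumption }

/-- Transport of coordinates along an isomorphism. -/
def SpCoord.comap {X Y : Type*} [Group X] [Group Y] {K : Type*} [Field K] (C : SpCoord X K)
    (e : Y ≃* X) : SpCoord Y K where
  t y := C.t (e y)
  s y := C.s (e y)
  u y := C.u (e y)
  z y := C.z (e y)
  t_mul x y := by rw [map_mul, C.t_mul]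
  s_mul x y := by rw [map_mul, C.s_mul]
  u_mul x y := by rw [map_mul, C.u_mul]
  z_mul x y := by rw [map_mul, C.z_mul]
  inj x y h1 h2 h3 h4 := e.injective (C.inj _ _ h1 h2 h3 h4)
  surj a b c d := by
    obtain ⟨x, h1, h2, h3, h4⟩ := C.surj a b c d
    exact ⟨e.symm x, by rw [e.apply_symm_apply]; exact h1, by rw [e.apply_symm_apply]; exact h2,
      by rw [e.apply_symm_apply]; exact h3, by rw [e.apply_symm_apply]; exact h4⟩

namespace SpC

variable {Ω : Type u} [Group Ω] {S : Subgroup Ω} {K : Type*} [Field K] (C : SpC S K)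

theorem t_one : C.t 1 = 0 := by
  have := C.t_mul S.one_mem S.one_mem
  rw [mul_one] at this
  simpa using this

theorem s_one : C.s 1 = 0 := by
  have := C.s_mul S.one_mem S.one_mem
  rw [mul_one] at this
  simpa using this

theorem u_one : C.u 1 = 0 := by
  have := C.u_mul S.one_mem S.one_mem
  rw [mul_one, C.t_one] at this
  simpa using this

theorem z_one : C.z 1 = 0 := by
  have := C.z_mul S.one_mem S.one_mem
  rw [mul_one, C.t_one] at this
  simpa using this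

variable {x y g : Ω}

theorem t_inv (hx : x ∈ S) : C.t x⁻¹ = - C.t x := by
  have := C.t_mul (S.inv_mem hx) hx
  rw [inv_mul_cancel, C.t_one] at this
  linear_combination -this

theorem s_inv (hx : x ∈ S) : C.s x⁻¹ = - C.s x := by
  have := C.s_mul (S.inv_mem hx) hx
  rw [inv_mul_cancel, C.s_one] at this
  linear_combination -this

theorem u_inv (hx : x ∈ S) : C.u x⁻¹ = - C.u x + C.t x * C.s x := by
  have := C.u_mul (S.inv_mem hx) hx
  rw [inv_mul_cancel, C.u_one, C.t_inv hx] at this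
  linear_combination -this

theorem z_inv (hx : x ∈ S) : C.z x⁻¹ = - C.z x + 2 * C.t x * C.u x - C.t x ^ 2 * C.s x := by
  have := C.z_mul (S.inv_mem hx) hx
  rw [inv_mul_cancel, C.z_one, C.t_inv hx] at this
  linear_combination -this

theorem t_conj (hg : g ∈ S) (hx : x ∈ S) : C.t (g * x * g⁻¹) = C.t x := by
  rw [C.t_mul (S.mul_mem hg hx) (S.inv_mem hg), C.t_mul hg hx, C.t_inv hg]; ring

theorem s_conj (hg : g ∈ S) (hx : x ∈ S) : C.s (g * x * g⁻¹) = C.s x := by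
  rw [C.s_mul (S.mul_mem hg hx) (S.inv_mem hg), C.s_mul hg hx, C.s_inv hg]; ring

theorem u_conj (hg : g ∈ S) (hx : x ∈ S) :
    C.u (g * x * g⁻¹) = C.u x + C.t g * C.s x - C.t x * C.s g := by
  rw [C.u_mul (S.mul_mem hg hx) (S.inv_mem hg), C.u_mul hg hx, C.t_mul hg hx, C.u_inv hg, C.s_inv hg]
  ring

theorem z_conj (hg : g ∈ S) (hx : x ∈ S) :
    C.z (g * x * g⁻¹) = C.z x + 2 * C.t g * C.u x + C.t g ^ 2 * C.s x - 2 * C.t x * C.u g
      - C.t x ^ 2 * C.s g := by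
  rw [C.z_mul (S.mul_mem hg hx) (S.inv_mem hg), C.z_mul hg hx, C.t_mul hg hx, C.u_inv hg, C.s_inv hg,
    C.z_inv hg]
  ring

theorem comm_iff (hx : x ∈ S) (hy : y ∈ S) : x * y = y * x ↔
    C.t x * C.s y = C.t y * C.s x ∧
      2 * C.t x * C.u y + C.t x ^ 2 * C.s y = 2 * C.t y * C.u x + C.t y ^ 2 * C.s x := by
  constructor
  · intro h
    have h1 := congrArg C.u h
    have h2 := congrArg C.z h
    rw [C.u_mul hx hy, C.u_mul hy hx] at h1
    rw [C.z_mul hx hy, C.z_mul hy hx] at h2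
    exact ⟨by linear_combination h1, by linear_combination h2⟩
  · rintro ⟨h1, h2⟩
    apply C.inj (S.mul_mem hx hy) (S.mul_mem hy hx)
    · rw [C.t_mul hx hy, C.t_mul hy hx, add_comm]
    · rw [C.s_mul hx hy, C.s_mul hy hx, add_comm]
    · rw [C.u_mul hx hy, C.u_mul hy hx]; linear_combination h1
    · rw [C.z_mul hx hy, C.z_mul hy hx]; linear_combination h2

/-- `M = {t = 0}`. -/
def M : Subgroup Ω where
  carrier := {x | x ∈ S ∧ C.t x = 0}
  one_mem' := ⟨S.one_mem, C.t_one⟩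
  mul_mem' := fun {x y} hx hy => ⟨S.mul_mem hx.1 hy.1, by rw [C.t_mul hx.1 hy.1, hx.2, hy.2, add_zero]⟩
  inv_mem' := fun {x} hx => ⟨S.inv_mem hx.1, by rw [C.t_inv hx.1, hx.2, neg_zero]⟩

theorem mem_M : x ∈ C.M ↔ x ∈ S ∧ C.t x = 0 := Iff.rfl

theorem M_le : C.M ≤ S := fun _ hx => hx.1

/-- `L_m = {s = m t}`. -/
def L (m : K) : Subgroup Ω where
  carrier := {x | x ∈ S ∧ C.s x = m * C.t x}
  one_mem' := ⟨S.one_mem, by rw [C.s_one, C.t_one, mul_zero]⟩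
  mul_mem' := fun {x y} hx hy => ⟨S.mul_mem hx.1 hy.1, by
    rw [C.t_mul hx.1 hy.1, C.s_mul hx.1 hy.1, hx.2, hy.2, mul_add]⟩
  inv_mem' := fun {x} hx => ⟨S.inv_mem hx.1, by rw [C.t_inv hx.1, C.s_inv hx.1, hx.2, mul_neg]⟩

theorem mem_L {m : K} : x ∈ C.L m ↔ x ∈ S ∧ C.s x = m * C.t x := Iff.rfl

theorem L_le (m : K) : C.L m ≤ S := fun _ hx => hx.1

/-- `Z₂ = {t = s = 0}`. -/
def Z2 : Subgroup Ω where
  carrier := {x | x ∈ S ∧ C.t x = 0 ∧ C.s x = 0}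
  one_mem' := ⟨S.one_mem, C.t_one, C.s_one⟩
  mul_mem' := fun {x y} hx hy => ⟨S.mul_mem hx.1 hy.1,
    by rw [C.t_mul hx.1 hy.1, hx.2.1, hy.2.1, add_zero],
    by rw [C.s_mul hx.1 hy.1, hx.2.2, hy.2.2, add_zero]⟩
  inv_mem' := fun {x} hx => ⟨S.inv_mem hx.1, by rw [C.t_inv hx.1, hx.2.1, neg_zero],
    by rw [C.s_inv hx.1, hx.2.2, neg_zero]⟩

theorem mem_Z2 : x ∈ C.Z2 ↔ x ∈ S ∧ C.t x = 0 ∧ C.s x = 0 := Iff.rfl

theorem Z2_le : C.Z2 ≤ S := fun _ hx => hx.1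

/-- `Z₁ = {t = s = u = 0}`, the centre for `p` odd. -/
def Z1 : Subgroup Ω where
  carrier := {x | x ∈ S ∧ C.t x = 0 ∧ C.s x = 0 ∧ C.u x = 0}
  one_mem' := ⟨S.one_mem, C.t_one, C.s_one, C.u_one⟩
  mul_mem' := fun {x y} hx hy => ⟨S.mul_mem hx.1 hy.1,
    by rw [C.t_mul hx.1 hy.1, hx.2.1, hy.2.1, add_zero],
    by rw [C.s_mul hx.1 hy.1, hx.2.2.1, hy.2.2.1, add_zero],
    by rw [C.u_mul hx.1 hy.1, hx.2.2.2, hy.2.2.2, hx.2.1]; ring⟩
  inv_mem' := fun {x} hx => ⟨S.inv_mem hx.1, by rw [C.t_inv hx.1, hx.2.1, neg_zero],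
    by rw [C.s_inv hx.1, hx.2.2.1, neg_zero], by rw [C.u_inv hx.1, hx.2.2.2, hx.2.1]; ring⟩

theorem mem_Z1 : x ∈ C.Z1 ↔ x ∈ S ∧ C.t x = 0 ∧ C.s x = 0 ∧ C.u x = 0 := Iff.rfl

theorem Z1_le : C.Z1 ≤ S := fun _ hx => hx.1

theorem Z1_le_Z2 : C.Z1 ≤ C.Z2 := fun _ hx => ⟨hx.1, hx.2.1, hx.2.2.1⟩

theorem Z2_le_M : C.Z2 ≤ C.M := fun _ hx => ⟨hx.1, hx.2.1⟩

theorem Z2_le_L (m : K) : C.Z2 ≤ C.L m := fun _ hx => ⟨hx.1, by rw [hx.2.1, hx.2.2, mul_zero]⟩

theorem comm_mem_Z2 (hg : g ∈ S) (hx : x ∈ S) : x⁻¹ * (g * x * g⁻¹) ∈ C.Z2 := by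
  have h1 := S.mul_mem (S.mul_mem hg hx) (S.inv_mem hg)
  refine ⟨S.mul_mem (S.inv_mem hx) h1, ?_, ?_⟩
  · rw [C.t_mul (S.inv_mem hx) h1, C.t_conj hg hx, C.t_inv hx]; ring
  · rw [C.s_mul (S.inv_mem hx) h1, C.s_conj hg hx, C.s_inv hx]; ring

theorem comm_mem_Z1_iff (hg : g ∈ S) (hx : x ∈ S) :
    x⁻¹ * (g * x * g⁻¹) ∈ C.Z1 ↔ C.t g * C.s x = C.t x * C.s g := by
  have h1 := S.mul_mem (S.mul_mem hg hx) (S.inv_mem hg)
  have h2 := C.comm_mem_Z2 hg hx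
  have h3 : C.u (x⁻¹ * (g * x * g⁻¹)) = C.t g * C.s x - C.t x * C.s g := by
    rw [C.u_mul (S.inv_mem hx) h1, C.u_conj hg hx, C.u_inv hx, C.s_conj hg hx, C.t_inv hx]; ring
  constructor
  · intro h
    have := h.2.2.2
    rw [h3] at this
    exact sub_eq_zero.1 this
  · intro h
    exact ⟨h2.1, h2.2.1, h2.2.2, by rw [h3]; exact sub_eq_zero.2 h⟩

theorem M_comm (hx : x ∈ C.M) (hy : y ∈ C.M) : x * y = y * x := by
  rw [C.comm_iff hx.1 hy.1, hx.2, hy.2]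
  constructor <;> ring

theorem Z1_comm (hx : x ∈ C.Z1) (hy : y ∈ S) : x * y = y * x := by
  rw [C.comm_iff hx.1 hy, hx.2.1, hx.2.2.1, hx.2.2.2]
  constructor <;> ring

/-- A subgroup of `S` containing `Z₂` is normalized by `S`. -/
theorem conj_mem_of_Z2_le {P : Subgroup Ω} (hP : P ≤ S) (hZ : C.Z2 ≤ P) (hg : g ∈ S) (hx : x ∈ P) :
    g * x * g⁻¹ ∈ P := by
  have h1 := C.comm_mem_Z2 hg (hP hx)
  have h2 : g * x * g⁻¹ = x * (x⁻¹ * (g * x * g⁻¹)) := by group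
  rw [h2]
  exact P.mul_mem hx (hZ h1)

section odd

variable (h2 : (2 : K) ≠ 0)

include h2 in
/-- (`p` odd) the centre. -/
theorem mem_Z1_of_comm (hx : x ∈ S) (h : ∀ y ∈ S, x * y = y * x) : x ∈ C.Z1 := by
  obtain ⟨y, hy, h3, h4, h5, -⟩ := C.surj 1 0 0 0
  obtain ⟨w, hw, h6, h7, h8, -⟩ := C.surj 0 1 0 0
  have h9 := (C.comm_iff hx hy).1 (h y hy)
  have h10 := (C.comm_iff hx hw).1 (h w hw)
  rw [h3, h4, h5] at h9
  rw [h6, h7, h8] at h10
  have h11 : C.s x = 0 := by linear_combination -h9.1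
  have h12 : C.t x = 0 := by linear_combination h10.1
  refine ⟨hx, h12, h11, ?_⟩
  have h13 := h9.2
  rw [h11, h12] at h13
  have h14 : 2 * C.u x = 0 := by linear_combination -h13
  exact (mul_eq_zero.1 h14).resolve_left h2

include h2 in
/-- (`p` odd) an element commuting with an element of `M ∖ Z₁` lies in `M`. -/
theorem t_eq_zero_of_comm (hx : x ∈ C.M) (hxZ : x ∉ C.Z1) (hy : y ∈ S) (h : x * y = y * x) :
    C.t y = 0 := by
  by_contra hty
  have h1 := (C.comm_iff hx.1 hy).1 h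
  rw [hx.2] at h1
  have h3 : C.s x = 0 := by
    have : C.t y * C.s x = 0 := by linear_combination -h1.1
    exact (mul_eq_zero.1 this).resolve_left hty
  have h4 : C.u x = 0 := by
    have h5 := h1.2
    rw [h3] at h5
    have : (2 * C.t y) * C.u x = 0 := by linear_combination -h5
    exact (mul_eq_zero.1 this).resolve_left (mul_ne_zero h2 hty)
  exact hxZ ⟨hx.1, hx.2, h3, h4⟩

omit h2 in
/-- The centralizer of an element outside `M` is abelian. -/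
theorem comm_of_comm {a b : Ω} (hx : x ∈ S) (htx : C.t x ≠ 0) (ha : a ∈ S) (hb : b ∈ S)
    (hax : x * a = a * x) (hbx : x * b = b * x) : a * b = b * a := by
  have h3 := (C.comm_iff hx ha).1 hax
  have h4 := (C.comm_iff hx hb).1 hbx
  rw [C.comm_iff ha hb]
  obtain ⟨h5, h6⟩ := h3
  obtain ⟨h7, h8⟩ := h4
  have h9 : C.t a * C.s b = C.t b * C.s a := by
    apply mul_left_cancel₀ htx
    linear_combination C.t a * h7 - C.t b * h5
  refine ⟨h9, ?_⟩
  apply mul_left_cancel₀ htx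
  linear_combination (C.t a) * h8 - (C.t b) * h6 + (C.t a ^ 2 - C.t a * C.t x) * h7
    - (C.t b ^ 2 - C.t b * C.t x) * h5

end odd

end SpC

end Cfsg.Agent.H780
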