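import Cfsg.Agent.H780.SpBasic
import Cfsg.Agent.H780.EssChain

/-!
# Essential subgroups of saturated systems over a Sylow subgroup of `Sp₄(K)`, `p` odd (helper780)
-/

set_option autoImplicit false

universe u

namespace Cfsg.Agent.H780

open Cfsg Cfsg.FusionSystem Cfsg.Agent.H802

variable {Ω : Type u} [Group Ω] {S : Subgroup Ω} {K : Type*} [Field K] (C : SpC S K)

/-- A chain of length two. -/
def chain2 (A B : Subgroup Ω) : ℕ → Subgroup Ω
  | 0 => A
  | 1 => B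
  | _ => ⊥

/-- A chain of length three. -/
def chain3 (A B D : Subgroup Ω) : ℕ → Subgroup Ω
  | 0 => A
  | 1 => B
  | 2 => D
  | _ => ⊥

theorem mem_of_chain2 [Finite S] {p : ℕ} [Fact p.Prime] (hS : IsPGroup p S)
    {F : FusionSystem S} {P : Subgroup Ω} (hP : F.IsEssential p P) (A : Subgroup Ω) (hA : A ≤ P)
    (hinv : ∀ α ∈ F.autGroup P, ∀ x : P, (x : Ω) ∈ A → ((α x : P) : Ω) ∈ A)
    {g : Ω} (hg : g ∈ S) (h1 : ∀ x ∈ P, x⁻¹ * (g * x * g⁻¹) ∈ A)
    (h2 : ∀ x ∈ A, g * x * g⁻¹ = x) : g ∈ P := by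
  refine mem_of_chain hS hP 2 (chain2 P A) le_rfl ?_ rfl ?_ hg ?_ ?_
  · rintro (_ | _ | i)
    · exact hA
    · exact bot_le
    · exact le_rfl
  · rintro α hα (_ | _ | i) x hx
    · exact (α x).2
    · exact hinv α hα x hx
    · have hx' : (x : Ω) ∈ (⊥ : Subgroup Ω) := hx
      rw [Subgroup.mem_bot] at hx'
      have hx2 : x = 1 := Subtype.ext hx'
      rw [hx2, map_one]
      exact Subgroup.one_mem _
  · intro x hx
    have h3 := P.mul_mem hx (hA (h1 x hx))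
    rwa [mul_inv_cancel_left] at h3
  · rintro (_ | _ | i) hi x hx hxc
    · exact h1 x hx
    · have h3 : x ∈ A := hxc
      rw [h2 x h3, inv_mul_cancel]
      exact Subgroup.one_mem _
    · omega

theorem mem_of_chain3 [Finite S] {p : ℕ} [Fact p.Prime] (hS : IsPGroup p S)
    {F : FusionSystem S} {P : Subgroup Ω} (hP : F.IsEssential p P) (A B : Subgroup Ω) (hA : A ≤ P)
    (hB : B ≤ A)
    (hinvA : ∀ α ∈ F.autGroup P, ∀ x : P, (x : Ω) ∈ A → ((α x : P) : Ω) ∈ A)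
    (hinvB : ∀ α ∈ F.autGroup P, ∀ x : P, (x : Ω) ∈ B → ((α x : P) : Ω) ∈ B)
    {g : Ω} (hg : g ∈ S) (h1 : ∀ x ∈ P, x⁻¹ * (g * x * g⁻¹) ∈ A)
    (h2 : ∀ x ∈ A, x⁻¹ * (g * x * g⁻¹) ∈ B)
    (h3 : ∀ x ∈ B, g * x * g⁻¹ = x) : g ∈ P := by
  refine mem_of_chain hS hP 3 (chain3 P A B) le_rfl ?_ rfl ?_ hg ?_ ?_
  · rintro (_ | _ | _ | i)
    · exact hA
    · exact hB
    · exact bot_le
    · exact le_rfl
  · rintro α hα (_ | _ | _ | i) x hx
    · exact (α x).2
    · exact hinvA α hα x hx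
    · exact hinvB α hα x hx
    · have hx' : (x : Ω) ∈ (⊥ : Subgroup Ω) := hx
      rw [Subgroup.mem_bot] at hx'
      have hx2 : x = 1 := Subtype.ext hx'
      rw [hx2, map_one]
      exact Subgroup.one_mem _
  · intro x hx
    have h4 := P.mul_mem hx (hA (h1 x hx))
    rwa [mul_inv_cancel_left] at h4
  · rintro (_ | _ | _ | i) hi x hx hxc
    · exact h1 x hx
    · exact h2 x hxc
    · have h4 : x ∈ B := hxc
      rw [h3 x h4, inv_mul_cancel]
      exact Subgroup.one_mem _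
    · omega

/-- A subgroup of `P` characterised by commutation conditions is invariant. -/
theorem center_invariant {P A : Subgroup Ω} (hA : ∀ x ∈ P, x ∈ A ↔ ∀ y ∈ P, x * y = y * x)
    (α : MulAut P) (x : P) (hx : (x : Ω) ∈ A) : ((α x : P) : Ω) ∈ A := by
  rw [hA _ (α x).2]
  rw [hA _ x.2] at hx
  intro y hy
  have h1 : x * α.symm ⟨y, hy⟩ = α.symm ⟨y, hy⟩ * x := Subtype.ext (hx _ (α.symm ⟨y, hy⟩).2)
  have h2 := congrArg α h1
  rw [map_mul, map_mul, MulEquiv.apply_symm_apply] at h2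
  exact congrArg Subtype.val h2

/-- The second centre relative to an invariant subgroup is invariant. -/
theorem second_invariant {P A B : Subgroup Ω} (hPA : ∀ x ∈ P, x ∈ A ↔ ∀ y ∈ P, y⁻¹ * (x * y * x⁻¹) ∈ B)
    (α : MulAut P) (hB : ∀ x : P, (x : Ω) ∈ B → ((α x : P) : Ω) ∈ B) (x : P) (hx : (x : Ω) ∈ A) :
    ((α x : P) : Ω) ∈ A := by
  rw [hPA _ (α x).2]
  rw [hPA _ x.2] at hx
  intro y hy
  have h1 := hx _ (α.symm ⟨y, hy⟩).2
  have h2 := hB ((α.symm ⟨y, hy⟩)⁻¹ * (x * (α.symm ⟨y, hy⟩) * x⁻¹)) h1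
  rw [map_mul, map_mul, map_mul, map_inv, map_inv, MulEquiv.apply_symm_apply] at h2
  exact h2

section odd

variable (h2 : (2 : K) ≠ 0)

include h2 in
/-- A nonabelian subgroup of `S` has centralizer in `Z₁`. -/
theorem SpC.centralizer_le_Z1 {P : Subgroup Ω} (hP : P ≤ S) {a b : Ω} (ha : a ∈ P) (hb : b ∈ P)
    (hab : a * b ≠ b * a) {y : Ω} (hy : y ∈ S) (hyP : ∀ x ∈ P, y * x = x * y) : y ∈ C.Z1 := by
  by_contra hyZ
  by_cases hty : C.t y = 0
  · have h3 : ∀ x ∈ P, C.t x = 0 := fun x hx =>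
      C.t_eq_zero_of_comm h2 ⟨hy, hty⟩ hyZ (hP hx) (hyP x hx)
    exact hab (C.M_comm ⟨hP ha, h3 a ha⟩ ⟨hP hb, h3 b hb⟩)
  · exact hab (C.comm_of_comm hy hty (hP ha) (hP hb) (hyP a ha) (hyP b hb))

include h2 in
/-- Nonabelian essential subgroups are among the `L_m`. -/
theorem SpC.eq_L_of_nonabelian [Finite S] {p : ℕ} [Fact p.Prime] (hS : IsPGroup p S)
    {F : FusionSystem S} (hF : F.IsSaturated p) {P : Subgroup Ω} (hP : F.IsEssential p P)
    {a b : Ω} (ha : a ∈ P) (hb : b ∈ P) (hab : a * b ≠ b * a) : ∃ m : K, P = C.L m := by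
  have hPS := hP.1.1
  have hCP : centralizerIn S P ≤ P := hP.1.2 P (isConj_refl F hPS)
  have hZP : C.Z1 ≤ P := fun z hz => hCP (mem_centralizerIn.2 ⟨hz.1, fun y hy =>
    (C.Z1_comm hz (hPS hy)).symm⟩)
  have hcen : ∀ x ∈ P, x ∈ C.Z1 ↔ ∀ y ∈ P, x * y = y * x := by
    intro x hx
    refine ⟨fun h y hy => C.Z1_comm h (hPS hy), fun h => ?_⟩
    exact C.centralizer_le_Z1 h2 hPS ha hb hab (hPS hx) h
  have hinvZ : ∀ α ∈ F.autGroup P, ∀ x : P, (x : Ω) ∈ C.Z1 → ((α x : P) : Ω) ∈ C.Z1 :=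
    fun α _ x hx => center_invariant hcen α x hx
  have hZfix : ∀ g ∈ S, ∀ x ∈ C.Z1, g * x * g⁻¹ = x := by
    intro g hg x hx
    rw [← C.Z1_comm hx hg, mul_inv_cancel_right]
  -- `Z₂ ≤ P`
  have hZ2P : C.Z2 ≤ P := by
    intro g hg
    refine mem_of_chain2 hS hP C.Z1 hZP hinvZ hg.1 (fun x hx => ?_) (hZfix g hg.1)
    rw [C.comm_mem_Z1_iff hg.1 (hPS hx), hg.2.1, hg.2.2]
    ring
  by_cases hcase : ∀ x ∈ P, ∀ y ∈ P, C.t x * C.s y = C.t y * C.s x
  · -- proportional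
    obtain ⟨x, hx, htx⟩ : ∃ x ∈ P, C.t x ≠ 0 := by
      by_contra hcon
      push Not at hcon
      exact hab (C.M_comm ⟨hPS ha, hcon a ha⟩ ⟨hPS hb, hcon b hb⟩)
    have hsub : ∀ y ∈ P, C.s y = C.s x / C.t x * C.t y := by
      intro y hy
      have h3 := hcase x hx y hy
      rw [div_mul_eq_mul_div, eq_div_iff htx]
      linear_combination h3
    refine ⟨C.s x / C.t x, le_antisymm (fun y hy => ⟨hPS hy, hsub y hy⟩) ?_⟩
    intro g hg
    refine mem_of_chain2 hS hP C.Z1 hZP hinvZ hg.1 ?_ (hZfix g hg.1)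
    intro y hy
    rw [C.comm_mem_Z1_iff hg.1 (hPS hy), hsub y hy, hg.2]
    ring
  · -- `P = S`
    exfalso
    push Not at hcase
    obtain ⟨x, hx, y, hy, hxy⟩ := hcase
    have hsec : ∀ w ∈ P, w ∈ C.Z2 ↔ ∀ v ∈ P, v⁻¹ * (w * v * w⁻¹) ∈ C.Z1 := by
      intro w hw
      constructor
      · intro h v hv
        rw [C.comm_mem_Z1_iff (hPS hw) (hPS hv), h.2.1, h.2.2]
        ring
      · intro h
        have h3 := (C.comm_mem_Z1_iff (hPS hw) (hPS hx)).1 (h x hx)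
        have h4 := (C.comm_mem_Z1_iff (hPS hw) (hPS hy)).1 (h y hy)
        have h5 : C.t x * C.s y - C.t y * C.s x ≠ 0 := sub_ne_zero.2 hxy
        refine ⟨hPS hw, ?_, ?_⟩
        · apply (mul_eq_zero.1 (?_ : (C.t x * C.s y - C.t y * C.s x) * C.t w = 0)).resolve_left h5
          linear_combination (C.t x) * h4 - (C.t y) * h3
        · apply (mul_eq_zero.1 (?_ : (C.t x * C.s y - C.t y * C.s x) * C.s w = 0)).resolve_left h5
          linear_combination (C.s x) * h4 - (C.s y) * h3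
    have hinv2 : ∀ α ∈ F.autGroup P, ∀ x : P, (x : Ω) ∈ C.Z2 → ((α x : P) : Ω) ∈ C.Z2 :=
      fun α hα x hx => second_invariant hsec α (hinvZ α hα) x hx
    apply ne_of_isEssential hS hF hP
    apply le_antisymm hPS
    intro g hg
    refine mem_of_chain3 hS hP C.Z2 C.Z1 hZ2P C.Z1_le_Z2 hinv2 hinvZ hg
      (fun v hv => C.comm_mem_Z2 hg (hPS hv)) (fun v hv => ?_) (hZfix g hg)
    rw [C.comm_mem_Z1_iff hg hv.1, hv.2.1, hv.2.2]
    ring

include h2 in
/-- Abelian essential subgroups are equal to `M`, if a nontrivial subgroup of `Z₁` is strongly closed. -/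
theorem SpC.eq_M_of_abelian [Finite S] {p : ℕ} [Fact p.Prime] (hS : IsPGroup p S)
    {F : FusionSystem S} (hF : F.IsSaturated p) {Q : Subgroup Ω} (hQ : F.StronglyClosed Q)
    (hQ1 : Q ≠ ⊥) (hQZ : Q ≤ C.Z1) {P : Subgroup Ω} (hP : F.IsEssential p P)
    (hab : ∀ a ∈ P, ∀ b ∈ P, a * b = b * a) : P = C.M := by
  have hPS := hP.1.1
  have hfP : Finite P := finite_of_le hPS
  have hCP : centralizerIn S P ≤ P := hP.1.2 P (isConj_refl F hPS)
  have hZP : C.Z1 ≤ P := fun z hz => hCP (mem_centralizerIn.2 ⟨hz.1, fun y hy =>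
    (C.Z1_comm hz (hPS hy)).symm⟩)
  by_cases ht : ∀ x ∈ P, C.t x = 0
  · apply le_antisymm (fun x hx => ⟨hPS hx, ht x hx⟩)
    intro x hx
    exact hCP (mem_centralizerIn.2 ⟨hx.1, fun y hy => C.M_comm ⟨hPS hy, ht y hy⟩ hx⟩)
  · exfalso
    push Not at ht
    obtain ⟨x, hx, htx⟩ := ht
    have hcentx : ∀ y ∈ S, x * y = y * x → y ∈ P := by
      intro y hy hxy
      exact hCP (mem_centralizerIn.2 ⟨hy, fun w hw =>
        C.comm_of_comm (hPS hx) htx (hPS hw) hy (hab x hx w hw) hxy⟩)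
    -- `P ∩ M = Z₁`
    have hPM : ∀ y ∈ P, C.t y = 0 → y ∈ C.Z1 := by
      intro y hy hty
      by_contra hyZ
      exact htx (C.t_eq_zero_of_comm h2 ⟨hPS hy, hty⟩ hyZ (hPS hx) (hab y hy x hx))
    have hcent : ∀ y ∈ P, y ∉ C.Z1 → ∀ w ∈ S, w * y = y * w → w ∈ P := by
      intro y hy hyZ w hw hwy
      have hty : C.t y ≠ 0 := fun h => hyZ (hPM y hy h)
      exact hCP (mem_centralizerIn.2 ⟨hw, fun v hv =>
        C.comm_of_comm (hPS hy) hty (hPS hv) hw (hab y hy v hv) hwy.symm⟩)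
    have hZfix : ∀ g ∈ S, ∀ x ∈ C.Z1, g * x * g⁻¹ = x := by
      intro g hg x hx
      rw [← C.Z1_comm hx hg, mul_inv_cancel_right]
    have hUG : autInducedBy S P ≤ F.autGroup P := autInducedBy_le_autGroup F hPS
    obtain ⟨-, R, hR⟩ := isFullyAutomized_of_isFullyNormalized hS hF hP.2.1
    apply not_normal_of_isEssential hS hF hP
    refine normal_of_invariant (p := p) (F.autGroup P) (autInducedBy S P) hUG ⟨R, hR⟩
      (C.Z1.subgroupOf P) (Q.subgroupOf P) ?_ ?_ ?_ ?_ ?_ ?_ ?_ ?_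
    · exact (hS.to_le hPS).to_subgroup _
    · exact fun y hy => hQZ hy
    · intro hb
      apply hQ1
      rw [Subgroup.eq_bot_iff_forall]
      intro y hy
      have h5 : (⟨y, hZP (hQZ hy)⟩ : P) ∈ Q.subgroupOf P := hy
      rw [hb, Subgroup.mem_bot] at h5
      exact congrArg Subtype.val h5
    · intro g hg y hy
      have h5 := hQ.2 Q le_rfl ((P.subtype.comp g.toMonoidHom).comp
        (Subgroup.inclusion (hQZ.trans hZP))) (restrict_mem ((mem_autGroup_iff F hPS g).1 hg) _)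
        ⟨y, hy⟩
      exact h5
    · intro u hu y hy
      obtain ⟨g, hg, hgu⟩ := (mem_autInducedBy_iff S P u).1 hu
      apply Subtype.ext
      have hy' : (y : Ω) ∈ C.Z1 := hy
      rw [hgu, hZfix g hg _ hy']
    · intro u hu b
      obtain ⟨g, hg, hgu⟩ := (mem_autInducedBy_iff S P u).1 hu
      show (b : Ω)⁻¹ * (u b : P) ∈ C.Z1
      apply hPM
      · exact P.mul_mem (P.inv_mem b.2) (u b).2
      · rw [hgu]
        exact (C.comm_mem_Z2 hg (hPS b.2)).2.1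
    · intro b hb y hy
      have htb : C.t b ≠ 0 := fun h => hb (hPM b b.2 h)
      have hy' : (y : Ω) ∈ C.Z1 := hy
      obtain ⟨g, hg, h3, h4, h5, -⟩ := C.surj 0 0 (-(C.z y / (2 * C.t b))) 0
      have hgZ2 : g ∈ C.Z2 := ⟨hg, h3, h4⟩
      have hgb : g * b * g⁻¹ = b * y := by
        apply C.inj (S.mul_mem (S.mul_mem hg (hPS b.2)) (S.inv_mem hg))
          (S.mul_mem (hPS b.2) (hPS y.2))
        · rw [C.t_conj hg (hPS b.2), C.t_mul (hPS b.2) (hPS y.2), hy'.2.1, add_zero]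
        · rw [C.s_conj hg (hPS b.2), C.s_mul (hPS b.2) (hPS y.2), hy'.2.2.1, add_zero]
        · rw [C.u_conj hg (hPS b.2), C.u_mul (hPS b.2) (hPS y.2), hy'.2.2.1,
            hy'.2.2.2, h3, h4]
          ring
        · rw [C.z_conj hg (hPS b.2), C.z_mul (hPS b.2) (hPS y.2), hy'.2.2.1,
            hy'.2.2.2, h3, h4, h5]
          field_simp
          ring
      have hgN : g ∈ Subgroup.normalizer (P : Set Ω) := by
        have h6 : ∀ g : Ω, g ∈ C.Z2 → ∀ w ∈ P, g * w * g⁻¹ ∈ P := by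
          intro g hgZ w hw
          have h7 : g * w * g⁻¹ = w * (w⁻¹ * (g * w * g⁻¹)) := by group
          rw [h7]
          apply P.mul_mem hw (hZP ?_)
          rw [C.comm_mem_Z1_iff hgZ.1 (hPS hw), hgZ.2.1, hgZ.2.2]
          ring
        rw [Subgroup.mem_normalizer_iff]
        intro w
        refine ⟨fun hw => h6 g hgZ2 w hw, fun hw => ?_⟩
        have h7 := h6 g⁻¹ (C.Z2.inv_mem hgZ2) _ hw
        have h8 : g⁻¹ * (g * w * g⁻¹) * g⁻¹⁻¹ = w := by group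
        rwa [h8] at h7
      obtain ⟨α, hα⟩ := exists_conjAut hgN
      refine ⟨α, (mem_autInducedBy_iff S P α).2 ⟨g, hg, hα⟩, Subtype.ext ?_⟩
      rw [hα]
      exact hgb
    · intro u hu hu1 b hb
      by_contra hbZ
      obtain ⟨g, hg, hgu⟩ := (mem_autInducedBy_iff S P u).1 hu
      have h5 : g * (b : Ω) = b * g := by
        have h6 := hgu b
        rw [hb] at h6
        calc g * (b : Ω) = (g * (b : Ω) * g⁻¹) * g := by group
          _ = b * g := by rw [← h6]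
      have h7 := hcent b b.2 hbZ g hg h5
      apply hu1
      apply MulEquiv.ext
      intro w
      apply Subtype.ext
      rw [hgu, hab g h7 w w.2]
      simp

include h2 in
/-- **Classification of the essential subgroups**, `p` odd. -/
theorem SpC.essential_cases [Finite S] {p : ℕ} [Fact p.Prime] (hS : IsPGroup p S)
    {F : FusionSystem S} (hF : F.IsSaturated p) {Q : Subgroup Ω} (hQ : F.StronglyClosed Q)
    (hQ1 : Q ≠ ⊥) (hQZ : Q ≤ C.Z1) {P : Subgroup Ω} (hP : F.IsEssential p P) :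
    P = C.M ∨ ∃ m : K, P = C.L m := by
  by_cases hab : ∃ a ∈ P, ∃ b ∈ P, a * b ≠ b * a
  · obtain ⟨a, ha, b, hb, hab⟩ := hab
    exact Or.inr (C.eq_L_of_nonabelian h2 hS hF hP ha hb hab)
  · push Not at hab
    exact Or.inl (C.eq_M_of_abelian h2 hS hF hQ hQ1 hQZ hP hab)

end odd

end Cfsg.Agent.H780
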