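import Cfsg.Agent.H780.SpTwoData
import Cfsg.Agent.H131.TwoDataExt
import Cfsg.Agent.H18.Kappa
import Cfsg.Agent.H781.Transport
import Cfsg.Agent.S5082

/-!
# `p = 2`: the system is realizable (helper780)
-/

set_option autoImplicit false
set_option linter.unusedSectionVars false

universe u v w

namespace Cfsg.Agent.H780

open Cfsg Cfsg.FusionSystem Cfsg.Agent.H802 Cfsg.Agent.H781 Cfsg.Agent.H454.AlperinGL3

variable {Ω : Type u} [Group Ω] {S : Subgroup Ω}

/-- Restriction of an automorphism to an invariant subgroup. -/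
theorem exists_restrict_aut [Finite S] {P : Subgroup Ω} (hP : P ≤ S) (κ : MulAut S)
    (h : ∀ x : S, (x : Ω) ∈ P → ((κ x : S) : Ω) ∈ P) :
    ∃ k : MulAut P, ∀ x : P, ((k x : P) : Ω) = (κ ⟨x, hP x.2⟩ : S) := by
  have hfP : Finite P := finite_of_le hP
  let f : P →* P :=
    { toFun := fun x => ⟨(κ ⟨x, hP x.2⟩ : S), h ⟨x, hP x.2⟩ x.2⟩
      map_one' := by
        have h1 := congrArg Subtype.val (map_one κ)
        exact Subtype.ext h1
      map_mul' := fun x y => by
        have h1 := congrArg Subtype.val (map_mul κ (⟨x, hP x.2⟩ : S) ⟨y, hP y.2⟩)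
        exact Subtype.ext h1 }
  have hf : Function.Injective f := by
    intro x y hxy
    have h0 := congrArg Subtype.val hxy
    have h1 : ((κ ⟨x, hP x.2⟩ : S) : Ω) = (κ ⟨y, hP y.2⟩ : S) := h0
    have h2 := κ.injective (Subtype.ext h1)
    have h3 := congrArg Subtype.val h2
    exact Subtype.ext h3
  exact ⟨MulEquiv.ofBijective f ⟨hf, Finite.surjective_of_injective hf⟩, fun x => rfl⟩

variable {K : Type v} [Field K]

/-- **A system with data for which the extension exists is realizable.** -/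
theorem isRealizable_of_extData [Finite K] [CharP K 2] [Finite S] (hS : IsPGroup 2 S)
    {F : FusionSystem S} (hF : F.IsSaturated 2) {C : SpC S K} {Δ : Subgroup Kˣ}
    (hK : ∀ c : K, c ≠ 0 → c ^ 3 = 1) (D : TwoData F C Δ) {E : Type w} [Group E] [Finite E]
    {ι : S →* E} {ρ : E →* GD Δ} (h : ExtData C Δ ι ρ) : F.IsRealizable 2 := by
  have h20 : (2 : K) = 0 := two_eq_zero
  obtain ⟨F₁, hreal, hF₁, ⟨T, hT⟩, D₁⟩ := H131.TwoDataExt.twoData_of_extData hS hK h
  obtain ⟨κ, hκ1, hκ2, hκS, hκM, hκL⟩ := H18.Kappa.exists_kappa hS hF hF₁ hK D D₁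
  let ι' : S →* E := ι.comp κ.toMonoidHom
  have hι' : Function.Injective ι' := h.inj.comp κ.injective
  have hrange : ι'.range = ι.range := by
    ext y
    constructor
    · rintro ⟨x, rfl⟩
      exact ⟨κ x, rfl⟩
    · rintro ⟨x, rfl⟩
      refine ⟨κ.symm x, ?_⟩
      show ι (κ (κ.symm x)) = ι x
      rw [MulEquiv.apply_symm_apply]
  set F' := pullback ι' hι' with hF'def
  have hreal' : F'.IsRealizedBy ι' := pullback_isRealizedBy ι' hι'
  have hT' : (T : Subgroup E) = ι'.range := hT.trans hrange.symm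
  have hF' : F'.IsSaturated 2 := isSaturated_of_isRealizedBy hreal' T hT'
  have key : ∀ (P : Subgroup Ω) (hP : P ≤ S) (k : MulAut P)
      (_ : ∀ x : P, ((k x : P) : Ω) = (κ ⟨x, hP x.2⟩ : S)) (α : MulAut P),
      α ∈ F'.autGroup P ↔ k * α * k⁻¹ ∈ F₁.autGroup P := by
    intro P hP k hk α
    have hk' : ∀ x : P, κ ⟨x, hP x.2⟩ = ⟨(k x : P), hP (k x).2⟩ := fun x => Subtype.ext (hk x).symm
    rw [mem_autGroup_iff F' hP, mem_autGroup_iff F₁ hP,
      hreal'.2 P hP _ (fun x => hP (α x).2), hreal.2 P hP _ (fun x => hP ((k * α * k⁻¹) x).2)]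
    constructor
    · rintro ⟨g, hg⟩
      refine ⟨g, fun y => ?_⟩
      have h1 := hg (k⁻¹ y)
      have h2 : k (k⁻¹ y) = y := k.apply_symm_apply y
      have h3 : ι' ⟨(k⁻¹ y : P), hP (k⁻¹ y).2⟩ = ι ⟨y, hP y.2⟩ := by
        show ι (κ ⟨(k⁻¹ y : P), hP (k⁻¹ y).2⟩) = _
        rw [hk', h2]
      rw [h3] at h1
      rw [← h1]
      show ι ⟨((k * α * k⁻¹) y : P), _⟩ = ι (κ ⟨(α (k⁻¹ y) : P), hP (α (k⁻¹ y)).2⟩)
      rw [hk']
      rfl
    · rintro ⟨g, hg⟩
      refine ⟨g, fun x => ?_⟩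
      have h1 := hg (k x)
      have h2 : (k * α * k⁻¹) (k x) = k (α x) := by
        rw [MulAut.mul_apply, MulAut.mul_apply]
        have h3 : k⁻¹ (k x) = x := k.symm_apply_apply x
        rw [h3]
      have h4 : ι ⟨(k (α x) : P), hP (k (α x)).2⟩ = g * ι ⟨(k x : P), hP (k x).2⟩ * g⁻¹ := by
        have h6 := congrArg Subtype.val h2
        have h5 : (⟨((k * α * k⁻¹) (k x) : P), hP ((k * α * k⁻¹) (k x)).2⟩ : S) =
          ⟨(k (α x) : P), hP (k (α x)).2⟩ := Subtype.ext h6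
        rw [← h5]
        exact h1
      rw [← hk', ← hk'] at h4
      exact h4
  have hZM : C.Z1 ≤ C.M := C.Z1_le_Z2.trans C.Z2_le_M
  have hZL : C.Z1 ≤ C.L 0 := C.Z1_le_Z2.trans (C.Z2_le_L 0)
  have hinv : ∀ P : Subgroup Ω, C.Z1 ≤ P → ∀ x : S, (x : Ω) ∈ P → ((κ x : S) : Ω) ∈ P := by
    intro P hP x hx
    have h1 : ((κ x : S) : Ω) = (x : Ω) * ((x⁻¹ * κ x : S) : Ω) := by
      show _ = (x : Ω) * ((x : Ω)⁻¹ * (κ x : S))
      group
    rw [h1]
    exact P.mul_mem hx (hP (hκ2 x))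
  obtain ⟨kM, hkM⟩ := exists_restrict_aut C.M_le κ (hinv C.M hZM)
  obtain ⟨kL, hkL⟩ := exists_restrict_aut (C.L_le 0) κ (hinv (C.L 0) hZL)
  have eM : F.autGroup C.M = F'.autGroup C.M := by
    ext α
    rw [hκM kM hkM α, key C.M C.M_le kM hkM α]
  have eL : F.autGroup (C.L 0) = F'.autGroup (C.L 0) := by
    ext α
    rw [hκL kL hkL α, key (C.L 0) (C.L_le 0) kL hkL α]
  have eS : F.autGroup S = F'.autGroup S := by
    ext α
    rw [hκS α, key S le_rfl κ (fun x => rfl) α]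
  have h1 : F ≤ F' := S5082.result 2 hS F hF F' (by
    rintro P (rfl | hP)
    · exact eS.le
    · rcases C.essential_cases_two h20 hS hF hP with rfl | rfl
      · exact eM.le
      · exact eL.le)
  have h2 : F' ≤ F := S5082.result 2 hS F' hF' F (by
    rintro P (rfl | hP)
    · exact eS.ge
    · rcases C.essential_cases_two h20 hS hF' hP with rfl | rfl
      · exact eM.ge
      · exact eL.ge)
  have h3 : F.IsRealizedBy ι' := by
    refine ⟨hι', fun P hP φ hφ => ?_⟩
    rw [← hreal'.2 P hP φ hφ]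
    exact ⟨fun h => h1 P h, fun h => h2 P h⟩
  exact isRealizable_of_isRealizedBy h3 T hT'

end Cfsg.Agent.H780
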