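import Cfsg.Agent.H780.SpTorus
import Cfsg.Agent.S5087

/-!
# Saturated systems over a Sylow subgroup of `Sp₄(K)`, `p` odd (helper780)
-/

set_option autoImplicit false

universe u v

namespace Cfsg.Agent.H780

open Cfsg Cfsg.FusionSystem Cfsg.Agent.H802

/-- The statement of the main lemma for `p` odd. -/
def SymProp (K : Type v) [Field K] (p : ℕ) : Prop :=
  ∀ (G : Type u) [Group G] [Finite G] (ρ : G →* Equiv.Perm (K × K × K)) (_hρ : Function.Injective ρ)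
    (_hadd : ∀ g v w, ρ g (v + w) = ρ g v + ρ g w) (P : Sylow p G)
    (_hP1 : ∀ g ∈ P, ∃ t : K, ρ g = phi t) (_hP2 : ∀ t : K, ∃ g ∈ P, ρ g = phi t)
    (_hN : ∀ g, (∀ z, ∃ z', ρ g (0,0,z) = (0,0,z')) → ∀ x ∈ P, g * x * g⁻¹ ∈ P)
    (_hH : ∀ c : K, c ≠ 0 → ∃ h : G, (∀ z, ρ h (0,0,z) = (0,0,z)) ∧
      (∀ u, ∃ z', ρ h (0,u,0) = (0,c*u,z')) ∧ (∀ s, ∃ u' z', ρ h (s,0,0) = (c^2*s,u',z')))
    (z₀ : K) (_hz₀ : z₀ ≠ 0) (_hfix : ∀ g, ρ g (0,0,z₀) = (0,0,z₀)),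
  ∀ g z, ∃ z', ρ g (0,0,z) = (0,0,z')

variable {Ω : Type u} [Group Ω] {S : Subgroup Ω}

theorem isFullyNormalized_top [Finite S] (F : FusionSystem S) : F.IsFullyNormalized S := by
  refine ⟨le_rfl, fun Q hQ => ?_⟩
  have h1 : normalizerIn S Q ≤ S := inf_le_left
  have h2 : normalizerIn S S = S := by
    apply le_antisymm inf_le_left
    exact le_inf le_rfl Subgroup.le_normalizer
  rw [h2]
  exact Subgroup.card_le_of_le h1

/-- The normality criterion in convenient form. -/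
theorem isNormal_of_essential [Finite S] {p : ℕ} [Fact p.Prime] (hS : IsPGroup p S)
    {F : FusionSystem S} (hF : F.IsSaturated p) {Q : Subgroup Ω}
    (h : ∀ P : Subgroup Ω, (P = S ∨ F.IsEssential p P) → Q ≤ P ∧
      ∀ α ∈ F.autGroup P, ∀ x : P, (x : Ω) ∈ Q → ((α x : P) : Ω) ∈ Q) : F.IsNormal Q := by
  rw [S5087.result p hS F hF Q]
  intro P hP
  refine ⟨(h P hP).1, fun α hα => le_antisymm ?_ ?_⟩
  · rintro _ ⟨x, hx, rfl⟩
    exact (h P hP).2 α hα x hx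
  · intro x hx
    refine ⟨α.symm x, (h P hP).2 α⁻¹ (Subgroup.inv_mem _ hα) x hx, ?_⟩
    exact α.apply_symm_apply x

/-- Restriction of an element of `Aut_F(S)` to an invariant subgroup. -/
theorem exists_restrict [Finite S] {F : FusionSystem S} {P : Subgroup Ω} (hPS : P ≤ S)
    {β : MulAut S} (hβ : β ∈ F.autGroup S) (hP : ∀ x : S, (x : Ω) ∈ P → ((β x : S) : Ω) ∈ P) :
    ∃ α ∈ F.autGroup P, ∀ x : P, ((α x : P) : Ω) = (β ⟨x, hPS x.2⟩ : S) := by
  have hfP : Finite P := finite_of_le hPS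
  have h1 := (mem_autGroup_iff F le_rfl β).1 hβ
  have h2 : ((S.subtype.comp β.toMonoidHom).comp (Subgroup.inclusion hPS)) ∈ F.Hom P :=
    restrict_mem h1 hPS
  have h3 := range_eq_of_mapsTo h2 (fun x => hP ⟨x, hPS x.2⟩ x.2)
  obtain ⟨α, hα, hαe⟩ := exists_aut h2 h3
  exact ⟨α, hα, fun x => hαe x⟩

variable {K : Type v} [Field K] (C : SpC S K)

/-- A chain of length four. -/
def chain4 {X : Type*} [Group X] (A B D : Subgroup X) : ℕ → Subgroup X
  | 0 => ⊤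
  | 1 => A
  | 2 => B
  | 3 => D
  | _ => ⊥

section odd

variable (h2 : (2 : K) ≠ 0)

/-- An automorphism in `F` of `S` acting trivially on the factors of `S > M > Z₂ > Z₁ > 1` is inner. -/
theorem SpC.s_eq_of_chain [Finite S] {p : ℕ} [Fact p.Prime]
    (hS : IsPGroup p S) {F : FusionSystem S} (hF : F.IsSaturated p) {κ : MulAut S}
    (hκ : κ ∈ F.autGroup S) (h1 : ∀ x : S, C.t (κ x : S) = C.t x)
    (h3 : ∀ x : S, (x : Ω) ∈ C.M → C.s (κ x : S) = C.s x)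
    (h4 : ∀ x : S, (x : Ω) ∈ C.Z2 → C.u (κ x : S) = C.u x)
    (h5 : ∀ x : S, (x : Ω) ∈ C.Z1 → κ x = x) (x : S) : C.s (κ x : S) = C.s x := by
  have hSa := isFullyAutomized_of_isFullyNormalized hS hF (isFullyNormalized_top F)
  set c : ℕ → Subgroup S := chain4 (C.M.subgroupOf S) (C.Z2.subgroupOf S) (C.Z1.subgroupOf S) with hc
  have hanti : ∀ i, c (i + 1) ≤ c i := by
    rintro (_ | _ | _ | _ | i)
    · exact le_top
    · exact fun x hx => C.Z2_le_M hx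
    · exact fun x hx => C.Z1_le_Z2 hx
    · exact bot_le
    · exact le_rfl
  set N := chainStab (F.autGroup S) 4 c hanti rfl with hN
  have hNp : IsPGroup p N := chainStab_isPGroup hS _ 4 c hanti rfl rfl
  -- factor conditions in coordinates
  have hmul : ∀ (κ : MulAut S) (x : S), ((x⁻¹ * κ x : S) : Ω) = (x : Ω)⁻¹ * (κ x : S) := fun _ _ => rfl
  have hNmem : ∀ κ : MulAut S, κ ∈ F.autGroup S → (∀ x : S, C.t (κ x : S) = C.t x) →
      (∀ x : S, (x : Ω) ∈ C.M → C.s (κ x : S) = C.s x) →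
      (∀ x : S, (x : Ω) ∈ C.Z2 → C.u (κ x : S) = C.u x) →
      (∀ x : S, (x : Ω) ∈ C.Z1 → κ x = x) → κ ∈ N := by
    intro κ hκ h1 h3 h4 h5
    refine mem_chainStab.2 ⟨hκ, ?_⟩
    have ht : ∀ x : S, C.t ((x : Ω)⁻¹ * (κ x : S)) = 0 := by
      intro x
      rw [C.t_mul (S.inv_mem x.2) (κ x).2, C.t_inv x.2, h1, neg_add_cancel]
    have hs : ∀ x : S, (x : Ω) ∈ C.M → C.s ((x : Ω)⁻¹ * (κ x : S)) = 0 := by
      intro x hx
      rw [C.s_mul (S.inv_mem x.2) (κ x).2, C.s_inv x.2, h3 x hx, neg_add_cancel]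
    rintro (_ | _ | _ | _ | i) hi x hx
    · exact ⟨(x⁻¹ * κ x).2, ht x⟩
    · exact ⟨(x⁻¹ * κ x).2, ht x, hs x hx⟩
    · have hx' : (x : Ω) ∈ C.Z2 := hx
      refine ⟨(x⁻¹ * κ x).2, ht x, hs x (C.Z2_le_M hx'), ?_⟩
      show C.u ((x : Ω)⁻¹ * (κ x : S)) = 0
      rw [C.u_mul (S.inv_mem x.2) (κ x).2, C.u_inv x.2, h4 x hx', h3 x (C.Z2_le_M hx'), hx'.2.1,
        hx'.2.2]
      ring
    · rw [h5 x hx, inv_mul_cancel]
      exact Subgroup.one_mem _
    · omega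
  have hTN : autInducedBy S S ≤ N := by
    intro τ hτ
    obtain ⟨g, hg, hgτ⟩ := (mem_autInducedBy_iff S S τ).1 hτ
    refine hNmem τ (autInducedBy_le_autGroup F le_rfl hτ) (fun x => ?_) (fun x _ => ?_)
      (fun x hx => ?_) (fun x hx => ?_)
    · rw [hgτ, C.t_conj hg x.2]
    · rw [hgτ, C.s_conj hg x.2]
    · rw [hgτ, C.u_conj hg x.2, hx.2.1, hx.2.2]; ring
    · apply Subtype.ext
      rw [hgτ, ← C.Z1_comm hx hg, mul_inv_cancel_right]
  have hNT := le_autInducedBy_of_le hSa (fun α hα => (mem_chainStab.1 hα).1) hNp hTN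
  obtain ⟨g, hg, hgκ⟩ := (mem_autInducedBy_iff S S κ).1 (hNT (hNmem κ hκ h1 h3 h4 h5))
  rw [hgκ, C.s_conj hg x.2]

include h2

/-- At most one `L_m` is essential. -/
theorem SpC.L_unique [Finite S] {p : ℕ} [Fact p.Prime] (hsl : SL2Prop.{u} K p)
    (hS : IsPGroup p S) {F : FusionSystem S} (hF : F.IsSaturated p) {m m' : K}
    (hP : F.IsEssential p (C.L m)) (hP' : F.IsEssential p (C.L m')) : m = m' := by
  obtain ⟨β, hβ, h3, h4, h5, h6⟩ := C.exists_torus h2 hsl hS hF hP (c := -1) (by simp)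
  obtain ⟨β', hβ', h3', h4', h5', h6'⟩ := C.exists_torus h2 hsl hS hF hP' (c := -1) (by simp)
  simp only [even_two, Even.neg_pow, one_pow, one_mul, inv_neg, inv_one, neg_mul] at h5 h5' h6 h6' h4 h4'
  have hs : ∀ x : S, C.s ((β * β') x : S) = C.s x + 2 * (m - m') * C.t x := by
    intro x
    rw [MulAut.mul_apply]
    have h7 := h6 (β' x)
    have h8 := h6' x
    rw [h5, h5'] at h7
    rw [h5'] at h8
    linear_combination h7 + h8
  have key := fun x => C.s_eq_of_chain hS hF (κ := β * β') (Subgroup.mul_mem _ hβ hβ')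
    (fun x => by rw [MulAut.mul_apply, h5, h5', neg_neg])
    (fun x hx => by rw [hs, hx.2, mul_zero, add_zero])
    (fun x hx => by rw [MulAut.mul_apply, h4 _ (C.Z2_inv h2 β' x hx), h4' x hx, neg_neg])
    (fun x hx => by rw [MulAut.mul_apply, h3' x hx, h3 x hx]) x
  obtain ⟨x, hx, h7, -, -, -⟩ := C.surj 1 0 0 0
  have h8 := key ⟨x, hx⟩
  rw [hs, show C.t ((⟨x, hx⟩ : S) : Ω) = 1 from h7] at h8
  have h9 : (2 : K) * (m - m') = 0 := by linear_combination h8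
  exact sub_eq_zero.1 ((mul_eq_zero.1 h9).resolve_left h2)

/-- An essential `L_m` is invariant under `Aut_F(S)`. -/
theorem SpC.L_inv [Finite S] {p : ℕ} [Fact p.Prime] (hsl : SL2Prop.{u} K p)
    (hS : IsPGroup p S) {F : FusionSystem S} (hF : F.IsSaturated p) {m : K}
    (hP : F.IsEssential p (C.L m)) {α : MulAut S} (hα : α ∈ F.autGroup S) (x : S)
    (hx : (x : Ω) ∈ C.L m) : ((α x : S) : Ω) ∈ C.L m := by
  obtain ⟨β, hβ, h3, h4, h5, h6⟩ := C.exists_torus h2 hsl hS hF hP (c := -1) (by simp)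
  simp only [even_two, Even.neg_pow, one_pow, one_mul, inv_neg, inv_one, neg_mul] at h5 h6 h4
  have hsβ : ∀ x : S, C.s (β x : S) = C.s x - 2 * m * C.t x := by
    intro x
    have := h6 x
    rw [h5] at this
    linear_combination this
  -- additivity helper: `t` of products and inverses in `S`
  have ht1 : ∀ a b : S, C.t ((a * b : S) : Ω) = C.t a + C.t b := fun a b => C.t_mul a.2 b.2
  have hs1 : ∀ a b : S, C.s ((a * b : S) : Ω) = C.s a + C.s b := fun a b => C.s_mul a.2 b.2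
  -- `x * β x ∈ M` for all `x`
  have hxM : ∀ x : S, ((x * β x : S) : Ω) ∈ C.M := fun x => ⟨(x * β x).2, by rw [ht1, h5, add_neg_cancel]⟩
  -- `κ = α β α⁻¹ β`
  set κ : MulAut S := α * β * α⁻¹ * β with hκ
  have hκF : κ ∈ F.autGroup S := Subgroup.mul_mem _ (Subgroup.mul_mem _ (Subgroup.mul_mem _ hα hβ)
    (Subgroup.inv_mem _ hα)) hβ
  have hκapp : ∀ x, κ x = α (β (α⁻¹ (β x))) := fun x => rfl
  have hαα : ∀ x, α (α⁻¹ x) = x := fun x => α.apply_symm_apply x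
  -- `t`
  have hκt : ∀ x : S, C.t (κ x : S) = C.t x := by
    intro x
    rw [hκapp]
    -- with `y = α⁻¹ (β x)`: `y * β y ∈ M`, apply `α`
    have h7 := C.M_inv h2 α _ (hxM (α⁻¹ (β x)))
    rw [map_mul, hαα] at h7
    have h8 := h7.2
    rw [ht1, h5] at h8
    linear_combination h8
  have hκs : ∀ x : S, (x : Ω) ∈ C.M → C.s (κ x : S) = C.s x := by
    intro x hx
    rw [hκapp]
    have h7 : ((β x : S) : Ω) ∈ C.M := C.M_inv h2 β x hx
    have h8 : ((α⁻¹ (β x) : S) : Ω) ∈ C.M := C.M_inv h2 α⁻¹ _ h7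
    -- `y⁻¹ * β y ∈ Z₂` for `y ∈ M`
    set y := α⁻¹ (β x) with hy
    have h9 : ((y⁻¹ * β y : S) : Ω) ∈ C.Z2 := by
      refine ⟨(y⁻¹ * β y).2, ?_, ?_⟩
      · rw [ht1, h5]
        have : C.t ((y⁻¹ : S) : Ω) = - C.t y := C.t_inv y.2
        rw [this, h8.2]; ring
      · rw [hs1, hsβ]
        have : C.s ((y⁻¹ : S) : Ω) = - C.s y := C.s_inv y.2
        rw [this, h8.2]; ring
    have h10 := C.Z2_inv h2 α _ h9
    rw [map_mul, map_inv, hy, hαα] at h10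
    have h11 := h10.2.2
    rw [hs1] at h11
    have h12 : C.s (((β x)⁻¹ : S) : Ω) = - C.s (β x : S) := C.s_inv (β x).2
    rw [h12, hsβ, hx.2] at h11
    linear_combination h11
  have hu1 : ∀ a b : S, (a : Ω) ∈ C.Z2 → C.u ((a * b : S) : Ω) = C.u a + C.u b := by
    intro a b ha
    have : C.u ((a * b : S) : Ω) = _ := C.u_mul a.2 b.2
    rw [this, ha.2.1]; ring
  have hκu : ∀ x : S, (x : Ω) ∈ C.Z2 → C.u (κ x : S) = C.u x := by
    intro x hx
    rw [hκapp]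
    have h7 : ((β x : S) : Ω) ∈ C.Z2 := C.Z2_inv h2 β x hx
    have h8 : ((α⁻¹ (β x) : S) : Ω) ∈ C.Z2 := C.Z2_inv h2 α⁻¹ _ h7
    set y := α⁻¹ (β x) with hy
    have h9 : ((y * β y : S) : Ω) ∈ C.Z1 := by
      refine ⟨(y * β y).2, ?_, ?_, ?_⟩
      · rw [ht1, h5, add_neg_cancel]
      · rw [hs1, hsβ, h8.2.1, h8.2.2]; ring
      · rw [hu1 _ _ h8, h4 y h8, add_neg_cancel]
    have h10 := C.Z1_inv h2 α _ h9
    rw [map_mul, hy, hαα] at h10
    have h11 := h10.2.2.2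
    rw [hu1 _ _ h7, h4 x hx] at h11
    linear_combination h11
  have hκ1 : ∀ x : S, (x : Ω) ∈ C.Z1 → κ x = x := by
    intro x hx
    rw [hκapp, h3 x hx, h3 _ (C.Z1_inv h2 α⁻¹ x hx), hαα]
  have key : ∀ x : S, C.s (κ x : S) = C.s x := C.s_eq_of_chain hS hF hκF hκt hκs hκu hκ1
  -- apply to `β⁻¹ (α x)`
  have h7 := key (β⁻¹ (α x))
  have hββ : β (β⁻¹ (α x)) = α x := β.apply_symm_apply _
  have hα'α : α⁻¹ (α x) = x := α.symm_apply_apply x
  rw [hκapp, hββ, hα'α] at h7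
  -- `s (α (β x)) = s (β⁻¹ (α x))`
  have h8 := hsβ (β⁻¹ (α x))
  have h9 := h5 (β⁻¹ (α x))
  rw [hββ] at h8 h9
  -- `x * β x ∈ Z₂`
  have h10 : ((x * β x : S) : Ω) ∈ C.Z2 := by
    refine ⟨(x * β x).2, ?_, ?_⟩
    · rw [ht1, h5, add_neg_cancel]
    · rw [hs1, hsβ, hx.2]; ring
  have h11 := C.Z2_inv h2 α _ h10
  rw [map_mul] at h11
  have h12 := h11.2.2
  rw [hs1] at h12
  refine ⟨(α x).2, ?_⟩
  apply mul_left_cancel₀ h2
  linear_combination h12 - h7 + h8 - 2 * m * h9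

end odd

end Cfsg.Agent.H780
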