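import Cfsg.Agent.H780.SpOdd

/-!
# Saturated systems over a Sylow subgroup of `Sp₄(K)`, `p` odd: main result (helper780)
-/

set_option autoImplicit false

universe u v

namespace Cfsg.Agent.H780

open Cfsg Cfsg.FusionSystem Cfsg.Agent.H802

variable {Ω : Type u} [Group Ω] {S : Subgroup Ω} {K : Type v} [Field K] (C : SpC S K)

/-- the coordinates on `M` -/
def SpC.c3 (x : C.M) : K × K × K := (C.s x, C.u x, C.z x)

theorem SpC.c3_mul (x y : C.M) : C.c3 (x * y) = C.c3 x + C.c3 y := by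
  have h1 : C.s ((x * y : C.M) : Ω) = C.s x + C.s y := C.s_mul x.2.1 y.2.1
  have h2 : C.u ((x * y : C.M) : Ω) = C.u x + C.u y + C.t x * C.s y := C.u_mul x.2.1 y.2.1
  have h3 : C.z ((x * y : C.M) : Ω) = _ := C.z_mul x.2.1 y.2.1
  rw [x.2.2] at h2 h3
  show (C.s ((x * y : C.M) : Ω), C.u ((x * y : C.M) : Ω), C.z ((x * y : C.M) : Ω)) = _
  rw [h1, h2, h3]
  ext
  · rfl
  · show C.u x + C.u y + 0 * C.s y = C.u x + C.u y
    ring
  · show C.z x + C.z y + 2 * 0 * C.u y + 0 ^ 2 * C.s y = C.z x + C.z y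
    ring

theorem SpC.c3_inj (x y : C.M) (h : C.c3 x = C.c3 y) : x = y := by
  have h1 : C.s x = C.s y := congrArg Prod.fst h
  have h2 : C.u x = C.u y := congrArg (fun v => v.2.1) h
  have h3 : C.z x = C.z y := congrArg (fun v => v.2.2) h
  exact Subtype.ext (C.inj x.2.1 y.2.1 (by rw [x.2.2, y.2.2]) h1 h2 h3)

theorem SpC.c3_surj : Function.Surjective C.c3 := by
  rintro ⟨a, b, c⟩
  obtain ⟨x, hx, h1, h2, h3, h4⟩ := C.surj 0 a b c
  refine ⟨⟨x, hx, h1⟩, ?_⟩
  show (C.s x, C.u x, C.z x) = _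
  rw [h2, h3, h4]

theorem SpC.c3_conj {g : Ω} (hg : g ∈ S) (x y : C.M) (hy : (y : Ω) = g * x * g⁻¹) :
    C.c3 y = phi (C.t g) (C.c3 x) := by
  show (C.s y, C.u y, C.z y) = phi (C.t g) (C.s x, C.u x, C.z x)
  rw [phi_apply, hy, C.s_conj hg x.2.1, C.u_conj hg x.2.1, C.z_conj hg x.2.1, x.2.2]
  ext
  · rfl
  · show C.u x + C.t g * C.s x - 0 * C.s g = C.u x + C.t g * C.s x
    ring
  · show C.z x + 2 * C.t g * C.u x + C.t g ^ 2 * C.s x - 2 * 0 * C.u g - 0 ^ 2 * C.s g =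
      C.z x + 2 * C.t g * C.u x + C.t g ^ 2 * C.s x
    ring

theorem SpC.M_conj_mem {g : Ω} (hg : g ∈ S) {x : Ω} (hx : x ∈ C.M) : g * x * g⁻¹ ∈ C.M :=
  C.conj_mem_of_Z2_le C.M_le C.Z2_le_M hg hx

theorem SpC.M_normalizer {g : Ω} (hg : g ∈ S) : g ∈ Subgroup.normalizer (C.M : Set Ω) := by
  rw [Subgroup.mem_normalizer_iff]
  intro x
  refine ⟨fun hx => C.M_conj_mem hg hx, fun hx => ?_⟩
  have h1 := C.M_conj_mem (S.inv_mem hg) hx
  have h2 : g⁻¹ * (g * x * g⁻¹) * g⁻¹⁻¹ = x := by group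
  rwa [h2] at h1

section odd

variable (h2 : (2 : K) ≠ 0)

include h2

/-- An element of `Aut_F(M)` normalizing `Z₁` normalizes `Aut_S(M)`. -/
theorem SpC.normalizes_of_Z1 [Finite S] {p : ℕ} [Fact p.Prime] (hsl : SL2Prop.{u} K p)
    (hS : IsPGroup p S) {F : FusionSystem S} (hMa : F.IsFullyAutomized p C.M)
    {α : MulAut C.M} (hα : α ∈ F.autGroup C.M) (hαZ : ∀ x : C.M, (x : Ω) ∈ C.Z1 → ((α x : C.M) : Ω) ∈ C.Z1) :
    ∀ u ∈ autInducedBy S C.M, α * u * α⁻¹ ∈ autInducedBy S C.M := by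
  have hPS : C.M ≤ S := C.M_le
  have hfM : Finite C.M := finite_of_le hPS
  -- the group `G`
  let G : Subgroup (MulAut C.M) :=
    { carrier := {α | α ∈ F.autGroup C.M ∧ ∀ x : C.M, (x : Ω) ∈ C.Z1 → α x = x}
      one_mem' := ⟨Subgroup.one_mem _, fun x _ => rfl⟩
      mul_mem' := by
        rintro a b ⟨ha, ha1⟩ ⟨hb, hb1⟩
        exact ⟨Subgroup.mul_mem _ ha hb, fun x hx => by rw [MulAut.mul_apply, hb1 x hx, ha1 x hx]⟩
      inv_mem' := by
        rintro a ⟨ha, ha1⟩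
        refine ⟨Subgroup.inv_mem _ ha, fun x hx => ?_⟩
        have h3 := ha1 x hx
        calc a⁻¹ x = a⁻¹ (a x) := by rw [h3]
          _ = x := a.symm_apply_apply x }
  have hG : G ≤ F.autGroup C.M := fun α hα => hα.1
  have hTG : autInducedBy S C.M ≤ G := by
    intro τ hτ
    refine ⟨autInducedBy_le_autGroup F hPS hτ, fun x hx => ?_⟩
    obtain ⟨g, hg, hgτ⟩ := (mem_autInducedBy_iff S C.M τ).1 hτ
    apply Subtype.ext
    rw [hgτ, ← C.Z1_comm hx hg, mul_inv_cancel_right]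
  by_cases hnn : ∀ g ∈ G, ∀ u ∈ autInducedBy S C.M, g * u * g⁻¹ ∈ autInducedBy S C.M
  · apply conj_mem_of_normal hS hMa hG hTG hnn
    intro u hu
    refine ⟨Subgroup.mul_mem _ (Subgroup.mul_mem _ hα (hG (hTG hu))) (Subgroup.inv_mem _ hα),
      fun x hx => ?_⟩
    -- `α⁻¹` preserves `Z₁`
    have h3 : ((α⁻¹ x : C.M) : Ω) ∈ C.Z1 := by
      have hfZ : Finite C.Z1 := finite_of_le C.Z1_le
      have hinj : Function.Injective (fun w : C.Z1 =>
          (⟨α ⟨w, C.Z2_le_M (C.Z1_le_Z2 w.2)⟩, hαZ _ w.2⟩ : C.Z1)) := by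
        intro a b hab
        have h4 : α ⟨a, C.Z2_le_M (C.Z1_le_Z2 a.2)⟩ = α ⟨b, C.Z2_le_M (C.Z1_le_Z2 b.2)⟩ := by
          have h6 := congrArg Subtype.val hab
          exact Subtype.ext h6
        have h5 := congrArg Subtype.val (α.injective h4)
        exact Subtype.ext h5
      obtain ⟨w, hw⟩ := Finite.surjective_of_injective hinj ⟨x, hx⟩
      have h4 : α ⟨w, C.Z2_le_M (C.Z1_le_Z2 w.2)⟩ = x := by
        have h6 := congrArg Subtype.val hw
        exact Subtype.ext h6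
      have h5 : α⁻¹ x = ⟨w, C.Z2_le_M (C.Z1_le_Z2 w.2)⟩ := by
        rw [← h4]; exact α.symm_apply_apply _
      rw [h5]
      exact w.2
    rw [MulAut.mul_apply, MulAut.mul_apply, (hTG hu).2 _ h3]
    exact α.apply_symm_apply x
  · exfalso
    let π : C.M → K × K := fun x => (C.s x, C.u x)
    have hπc : ∀ x, π x = ((C.c3 x).1, (C.c3 x).2.1) := fun _ => rfl
    have hπ : ∀ x y, π (x * y) = π x + π y := by
      intro x y
      rw [hπc, C.c3_mul]
      rfl
    have hπs : Function.Surjective π := by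
      rintro ⟨a, b⟩
      obtain ⟨x, hx⟩ := C.c3_surj (a, b, 0)
      exact ⟨x, by rw [hπc, hx]⟩
    have hπ0 : ∀ x : C.M, π x = 0 ↔ (x : Ω) ∈ C.Z1 := by
      intro x
      constructor
      · intro h
        exact ⟨x.2.1, x.2.2, congrArg Prod.fst h, congrArg Prod.snd h⟩
      · intro h
        ext
        · exact h.2.2.1
        · exact h.2.2.2
    have hconj : ∀ g ∈ S, ∀ (x y : C.M), (y : Ω) = g * x * g⁻¹ → π y = theta (C.t g) (π x) := by
      intro g hg x y hy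
      have h3 := C.c3_conj hg x y hy
      rw [hπc, h3]
      rfl
    obtain ⟨f, hf, -⟩ := sl2_situation hsl hS hMa hG hTG π hπ hπs
      (fun α hα x hx => hα.2 x ((hπ0 x).1 hx))
      (fun τ hτ => by
        obtain ⟨g, hg, hgτ⟩ := (mem_autInducedBy_iff S C.M τ).1 hτ
        exact ⟨_, fun x => hconj g hg x (τ x) (hgτ x)⟩)
      (fun r => by
        obtain ⟨g, hg, h3, -, -, -⟩ := C.surj r 0 0 0
        obtain ⟨τ, hτ⟩ := exists_conjAut (C.M_normalizer hg)
        refine ⟨τ, (mem_autInducedBy_iff S C.M τ).2 ⟨g, hg, hτ⟩, fun x => ?_⟩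
        rw [hconj g hg x (τ x) (hτ x), h3]) hnn
    obtain ⟨h, hh, hh1, hh2⟩ := hf (-1) (by simp)
    have hhπ : ∀ x, π (h x) = -π x := by
      intro x
      rw [hh1]
      ext
      · simp
      · show -1 * ((π x).2 - f (π x).1) + f ((-1)⁻¹ * (π x).1) = -(π x).2
        have h4 : (-1 : K)⁻¹ * (π x).1 = -(π x).1 := by rw [inv_neg, inv_one]; ring
        rw [h4, map_neg]
        ring
    have hhs : ∀ x : C.M, (C.c3 (h x)).1 = - (C.c3 x).1 := fun x => congrArg Prod.fst (hhπ x)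
    -- the automorphism `τ` induced by an element with `t = 1`
    obtain ⟨g, hg, h3, -, -, -⟩ := C.surj 1 0 0 0
    obtain ⟨τ, hτ⟩ := exists_conjAut (C.M_normalizer hg)
    have hτT : τ ∈ autInducedBy S C.M := (mem_autInducedBy_iff S C.M τ).2 ⟨g, hg, hτ⟩
    have hτc : ∀ x, C.c3 (τ x) = phi 1 (C.c3 x) := by
      intro x
      rw [C.c3_conj hg x (τ x) (hτ x), h3]
    obtain ⟨g', hg', hg'τ⟩ := (mem_autInducedBy_iff S C.M _).1 (hh2 τ hτT)
    -- `t g' = 1`
    have ht' : C.t g' = 1 := by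
      obtain ⟨x, hx⟩ := C.c3_surj (1, 0, 0)
      have h4 := hconj g' hg' (h x) _ (hg'τ (h x))
      rw [MulAut.mul_apply, MulAut.mul_apply, show h⁻¹ (h x) = x from h.symm_apply_apply x, hhπ, hhπ,
        hconj g hg x (τ x) (hτ x), h3] at h4
      have h5 : π x = (1, 0) := by rw [hπc, hx]
      rw [h5] at h4
      have h6 := congrArg Prod.snd h4
      simp [theta] at h6
      exact h6.symm
    -- `h` commutes with `τ`
    have hcomm : ∀ x, h (τ x) = τ (h x) := by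
      intro x
      apply C.c3_inj
      have h4 := C.c3_conj hg' (h x) _ (hg'τ (h x))
      rw [MulAut.mul_apply, MulAut.mul_apply, show h⁻¹ (h x) = x from h.symm_apply_apply x, ht'] at h4
      rw [h4, hτc]
    have hc1 : C.c3 1 = 0 := by
      have := C.c3_mul 1 1
      rw [mul_one] at this
      simpa using this
    have hcinv : ∀ x, C.c3 x⁻¹ = - C.c3 x := by
      intro x
      have := C.c3_mul x⁻¹ x
      rw [inv_mul_cancel, hc1] at this
      exact eq_neg_of_add_eq_zero_left this.symm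
    -- the second difference
    let D : C.M → C.M := fun x => τ (τ x) * (τ x)⁻¹ * (τ x)⁻¹ * x
    have hD : ∀ x, C.c3 (D x) = (0, 0, 2 * (C.c3 x).1) := by
      intro x
      show C.c3 (τ (τ x) * (τ x)⁻¹ * (τ x)⁻¹ * x) = _
      rw [C.c3_mul, C.c3_mul, C.c3_mul, hcinv, hτc, hτc]
      obtain ⟨a, b, c⟩ := C.c3 x
      rw [phi_apply, phi_apply]
      ext
      · show a + -a + -a + a = 0
        ring
      · show b + 1 * a + 1 * a + -(b + 1 * a) + -(b + 1 * a) + b = 0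
        ring
      · show c + 2 * 1 * b + 1 ^ 2 * a + 2 * 1 * (b + 1 * a) + 1 ^ 2 * a + -(c + 2 * 1 * b + 1 ^ 2 * a) +
          -(c + 2 * 1 * b + 1 ^ 2 * a) + c = 2 * a
        ring
    have hDh : ∀ x, h (D x) = D (h x) := by
      intro x
      show h (τ (τ x) * (τ x)⁻¹ * (τ x)⁻¹ * x) = τ (τ (h x)) * (τ (h x))⁻¹ * (τ (h x))⁻¹ * h x
      rw [map_mul, map_mul, map_mul, map_inv, hcomm, hcomm]
    obtain ⟨x, hx⟩ := C.c3_surj (1, 0, 0)
    have h4 : (D x : Ω) ∈ C.Z1 := by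
      rw [← hπ0, hπc, hD]
      rfl
    have h5 := hh.2 _ h4
    have h6 := congrArg C.c3 h5
    rw [hDh, hD, hD, hhs, hx] at h6
    have h7 := congrArg (fun v => v.2.2) h6
    have h8 : (2 : K) * -1 = 2 * 1 := h7
    apply mul_ne_zero h2 h2
    linear_combination -h8

/-- `M` and `L_m` cannot both be essential if a nontrivial subgroup of `Z₁` is strongly closed. -/
theorem SpC.not_both [Finite S] {p : ℕ} [Fact p.Prime] (hsl : SL2Prop.{u} K p)
    (hsym : SymProp.{u} K p)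
    (hS : IsPGroup p S) {F : FusionSystem S} (hF : F.IsSaturated p) {Q : Subgroup Ω}
    (hQ : F.StronglyClosed Q) (hQ1 : Q ≠ ⊥) (hQZ : Q ≤ C.Z1) (hM : F.IsEssential p C.M) {m : K}
    (hL : F.IsEssential p (C.L m)) : False := by
  have hPS : C.M ≤ S := C.M_le
  have hfM : Finite C.M := finite_of_le hPS
  have hMa := isFullyAutomized_of_isFullyNormalized hS hF hM.2.1
  obtain ⟨q, hq, hq1⟩ : ∃ q ∈ Q, q ≠ 1 := by
    by_contra hcon
    push Not at hcon
    exact hQ1 ((Subgroup.eq_bot_iff_forall Q).2 hcon)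
  have hqZ := hQZ hq
  set q' : C.M := ⟨q, C.Z2_le_M (C.Z1_le_Z2 hqZ)⟩ with hq'
  have hcq : C.c3 q' = (0, 0, C.z q) := by
    show (C.s q, C.u q, C.z q) = _
    rw [hqZ.2.2.1, hqZ.2.2.2]
  have hzq : C.z q ≠ 0 := by
    intro h
    apply hq1
    apply C.inj hqZ.1 S.one_mem
    · rw [hqZ.2.1, C.t_one]
    · rw [hqZ.2.2.1, C.s_one]
    · rw [hqZ.2.2.2, C.u_one]
    · rw [h, C.z_one]
  have hmemZ : ∀ x : C.M, (x : Ω) ∈ C.Z1 ↔ ∃ z, C.c3 x = (0, 0, z) := by
    intro x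
    constructor
    · intro h
      refine ⟨C.z x, ?_⟩
      show (C.s x, C.u x, C.z x) = _
      rw [h.2.2.1, h.2.2.2]
    · rintro ⟨z, hz⟩
      exact ⟨x.2.1, x.2.2, congrArg Prod.fst hz, congrArg (fun v => v.2.1) hz⟩
  let G : Subgroup (MulAut C.M) :=
    { carrier := {α | α ∈ F.autGroup C.M ∧ α q' = q'}
      one_mem' := ⟨Subgroup.one_mem _, rfl⟩
      mul_mem' := by
        rintro a b ⟨ha, ha1⟩ ⟨hb, hb1⟩
        exact ⟨Subgroup.mul_mem _ ha hb, by rw [MulAut.mul_apply, hb1, ha1]⟩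
      inv_mem' := by
        rintro a ⟨ha, ha1⟩
        refine ⟨Subgroup.inv_mem _ ha, ?_⟩
        calc a⁻¹ q' = a⁻¹ (a q') := by rw [ha1]
          _ = q' := a.symm_apply_apply q' }
  have hG : G ≤ F.autGroup C.M := fun α hα => hα.1
  have hTG : autInducedBy S C.M ≤ G := by
    intro τ hτ
    refine ⟨autInducedBy_le_autGroup F hPS hτ, ?_⟩
    obtain ⟨g, hg, hgτ⟩ := (mem_autInducedBy_iff S C.M τ).1 hτ
    apply Subtype.ext
    rw [hgτ, ← C.Z1_comm hqZ hg, mul_inv_cancel_right]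
  have hc1 : C.c3 1 = 0 := by
    have := C.c3_mul 1 1
    rw [mul_one] at this
    simpa using this
  have hker : ∀ x, C.c3 x = 0 → x = 1 := fun x hx => C.c3_inj x 1 (by rw [hx, hc1])
  obtain ⟨ρ, hρ, hρadd⟩ := exists_rho C.c3 C.c3_mul C.c3_surj G
    (fun α _ x hx => by rw [hker x hx, map_one, hc1])
  have hρinj : Function.Injective ρ := by
    intro α β hαβ
    apply Subtype.ext
    apply MulEquiv.ext
    intro x
    apply C.c3_inj
    rw [← hρ, ← hρ, hαβ]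
  obtain ⟨R, hR⟩ := exists_sylow_of_le hS hMa hG hTG
  have hmemR : ∀ g : G, g ∈ R ↔ (g : MulAut C.M) ∈ autInducedBy S C.M := by
    intro g
    have : g ∈ (R : Subgroup G) ↔ g ∈ (autInducedBy S C.M).subgroupOf G := by rw [hR]
    exact this
  have hρeq : ∀ (g : G) (t : K), (∀ x, C.c3 (g.1 x) = phi t (C.c3 x)) → ρ g = phi t := by
    intro g t h
    apply Equiv.ext
    intro v
    obtain ⟨x, rfl⟩ := C.c3_surj v
    rw [hρ]
    exact h x
  have hρZ : ∀ g : G, (∀ z, ∃ z', ρ g (0,0,z) = (0,0,z')) →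
      ∀ x : C.M, (x : Ω) ∈ C.Z1 → ((g.1 x : C.M) : Ω) ∈ C.Z1 := by
    intro g h x hx
    obtain ⟨z, hz⟩ := (hmemZ x).1 hx
    obtain ⟨z', hz'⟩ := h z
    rw [hmemZ]
    exact ⟨z', by rw [← hρ, hz, hz']⟩
  have hmain := hsym G ρ hρinj hρadd R
    (fun g hg => by
      obtain ⟨a, ha, haτ⟩ := (mem_autInducedBy_iff S C.M _).1 ((hmemR g).1 hg)
      exact ⟨C.t a, hρeq g _ (fun x => C.c3_conj ha x _ (haτ x))⟩)
    (fun t => by
      obtain ⟨a, ha, h3, -, -, -⟩ := C.surj t 0 0 0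
      obtain ⟨τ, hτ⟩ := exists_conjAut (C.M_normalizer ha)
      have hτT : τ ∈ autInducedBy S C.M := (mem_autInducedBy_iff S C.M τ).2 ⟨a, ha, hτ⟩
      refine ⟨⟨τ, hTG hτT⟩, (hmemR _).2 hτT, hρeq _ _ (fun x => ?_)⟩
      have h4 := C.c3_conj ha x _ (hτ x)
      rw [h3] at h4
      exact h4)
    (fun g hg x hx => (hmemR _).2 (C.normalizes_of_Z1 h2 hsl hS hMa (hG g.2) (hρZ g hg) _ ((hmemR x).1 hx)))
    (fun c hc => by
      obtain ⟨β, hβ, h3, h4, h5, h6⟩ := C.exists_torus h2 hsl hS hF hL hc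
      obtain ⟨α, hα, hαe⟩ := exists_restrict hPS hβ (C.M_inv h2 β)
      have hαZ : ∀ x : C.M, (x : Ω) ∈ C.Z1 → α x = x := by
        intro x hx
        apply Subtype.ext
        rw [hαe]
        exact congrArg Subtype.val (h3 ⟨x, hPS x.2⟩ hx)
      refine ⟨⟨α, hα, hαZ _ hqZ⟩, fun z => ?_, fun u => ?_, fun s => ?_⟩
      · obtain ⟨x, hx⟩ := C.c3_surj (0, 0, z)
        rw [← hx, hρ]
        show C.c3 (α x) = _
        rw [hαZ x ((hmemZ x).2 ⟨z, hx⟩)]
      · obtain ⟨x, hx⟩ := C.c3_surj (0, u, 0)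
        have hxs : C.s x = 0 := congrArg Prod.fst hx
        have hxu : C.u x = u := congrArg (fun v => v.2.1) hx
        have hxZ2 : (x : Ω) ∈ C.Z2 := ⟨x.2.1, x.2.2, hxs⟩
        refine ⟨C.z (α x : C.M), ?_⟩
        rw [← hx, hρ]
        show (C.s (α x : C.M), C.u (α x : C.M), C.z (α x : C.M)) = _
        rw [hαe]
        have h7 := h4 ⟨x, hPS x.2⟩ hxZ2
        have h8 := (C.Z2_inv h2 β ⟨x, hPS x.2⟩ hxZ2).2.2
        rw [h7, h8]
        show (0, c * C.u x, _) = _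
        rw [hxu]
      · obtain ⟨x, hx⟩ := C.c3_surj (s, 0, 0)
        have hxs : C.s x = s := congrArg Prod.fst hx
        refine ⟨C.u (α x : C.M), C.z (α x : C.M), ?_⟩
        rw [← hx, hρ]
        show (C.s (α x : C.M), C.u (α x : C.M), C.z (α x : C.M)) = _
        have h7 := h6 ⟨x, hPS x.2⟩
        have h8 := (C.M_inv h2 β ⟨x, hPS x.2⟩ x.2).2
        have h9 : C.t (x : Ω) = 0 := x.2.2
        rw [h8] at h7
        have h10 : C.s (α x : C.M) = c ^ 2 * s := by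
          rw [hαe]
          have h11 : C.s (((⟨x, hPS x.2⟩ : S) : S) : Ω) = s := hxs
          have h12 : C.t (((⟨x, hPS x.2⟩ : S) : S) : Ω) = 0 := h9
          rw [h11, h12] at h7
          linear_combination h7
        rw [h10])
    (C.z q) hzq
    (fun g => by
      rw [← hcq, hρ, g.2.2])
  -- `Aut_S(M)` is normal in `G`, hence in `Aut_F(M)`
  have hTn : ∀ g ∈ G, ∀ u ∈ autInducedBy S C.M, g * u * g⁻¹ ∈ autInducedBy S C.M := fun g hg =>
    C.normalizes_of_Z1 h2 hsl hS hMa (hG hg) (hρZ ⟨g, hg⟩ (hmain ⟨g, hg⟩))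
  apply not_normal_of_isEssential hS hF hM
  intro α hα
  apply conj_mem_of_normal hS hMa hG hTG hTn
  intro u hu
  refine ⟨Subgroup.mul_mem _ (Subgroup.mul_mem _ hα (hG (hTG hu))) (Subgroup.inv_mem _ hα), ?_⟩
  have hQM : Q ≤ C.M := fun x hx => C.Z2_le_M (C.Z1_le_Z2 (hQZ hx))
  have h3 : ((α⁻¹ q' : C.M) : Ω) ∈ Q := by
    have h5 := hQ.2 Q le_rfl ((C.M.subtype.comp (α⁻¹ : MulAut C.M).toMonoidHom).comp
      (Subgroup.inclusion hQM)) (restrict_mem ((mem_autGroup_iff F hPS _).1 (Subgroup.inv_mem _ hα)) _)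
      ⟨q, hq⟩
    exact h5
  rw [MulAut.mul_apply, MulAut.mul_apply]
  have h4 : u (α⁻¹ q') = α⁻¹ q' := by
    obtain ⟨g, hg, hgτ⟩ := (mem_autInducedBy_iff S C.M u).1 hu
    apply Subtype.ext
    rw [hgτ, ← C.Z1_comm (hQZ h3) hg, mul_inv_cancel_right]
  rw [h4]
  exact α.apply_symm_apply q'

include C in
/-- **`p` odd: a saturated system over `S` with nontrivial core has a normal centric subgroup.** -/
theorem SpC.odd_main [Finite S] {p : ℕ} [Fact p.Prime] (hsl : SL2Prop.{u} K p)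
    (hsym : SymProp.{u} K p) (hS : IsPGroup p S) {F : FusionSystem S} (hF : F.IsSaturated p)
    (hcore : F.core ≠ ⊥) : ∃ Q : Subgroup Ω, F.IsNormal Q ∧ F.IsCentric Q := by
  have hQn : F.IsNormal F.core := H759.isNormal_core
  have hQs := H759.IsNormal.stronglyClosed hQn
  set Q := F.core with hQdef
  have hQS : Q ≤ S := hQs.1
  by_cases hQZ : Q ≤ C.Z1
  · have hcases := fun P (hP : F.IsEssential p P) => C.essential_cases h2 hS hF hQs hcore hQZ hP
    by_cases hM : F.IsEssential p C.M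
    · refine ⟨C.M, isNormal_of_essential hS hF ?_, hM.1⟩
      rintro P (rfl | hP)
      · exact ⟨C.M_le, fun α _ x hx => C.M_inv h2 α x hx⟩
      · rcases hcases P hP with rfl | ⟨m, rfl⟩
        · exact ⟨le_rfl, fun α _ x _ => (α x).2⟩
        · exact (C.not_both h2 hsl hsym hS hF hQs hcore hQZ hM hP).elim
    · by_cases hL : ∃ m, F.IsEssential p (C.L m)
      · obtain ⟨m, hm⟩ := hL
        refine ⟨C.L m, isNormal_of_essential hS hF ?_, hm.1⟩
        rintro P (rfl | hP)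
        · exact ⟨C.L_le m, fun α hα x hx => C.L_inv h2 hsl hS hF hm hα x hx⟩
        · rcases hcases P hP with rfl | ⟨m', rfl⟩
          · exact (hM hP).elim
          · rw [C.L_unique h2 hsl hS hF hm hP]
            exact ⟨le_rfl, fun α _ x _ => (α x).2⟩
      · have h1 : F.IsNormal S := by
          refine isNormal_of_essential hS hF ?_
          rintro P (rfl | hP)
          · exact ⟨le_rfl, fun α _ x _ => (α x).2⟩
          · rcases hcases P hP with rfl | ⟨m', rfl⟩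
            · exact (hM hP).elim
            · exact (hL ⟨m', hP⟩).elim
        exact ⟨S, h1, isCentric_of_stronglyClosed (H759.IsNormal.stronglyClosed h1) inf_le_left⟩
  · obtain ⟨x, hxQ, hxZ⟩ := SetLike.not_le_iff_exists.1 hQZ
    have hconjQ : ∀ g ∈ S, ∀ y ∈ Q, g * y * g⁻¹ ∈ Q := by
      intro g hg y hy
      exact hQs.2 Q le_rfl (conjHom Q g) (F.conj_mem hQS hg) ⟨y, hy⟩
    by_cases ht : ∃ y ∈ Q, C.t y ≠ 0
    · obtain ⟨y, hyQ, hty⟩ := ht
      refine ⟨Q, hQn, isCentric_of_stronglyClosed hQs ?_⟩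
      have hyS := hQS hyQ
      -- an element of `Q ∩ Z₂ ∖ Z₁`
      obtain ⟨g, hg, h3, h4, -, -⟩ := C.surj 0 1 0 0
      have h5 : y⁻¹ * (g * y * g⁻¹) ∈ Q := Q.mul_mem (Q.inv_mem hyQ) (hconjQ g hg y hyQ)
      have h6 : y⁻¹ * (g * y * g⁻¹) ∉ C.Z1 := by
        rw [C.comm_mem_Z1_iff hg hyS, h3, h4]
        intro h7
        apply hty
        linear_combination -h7
      have h7 := C.Z2_le_M (C.comm_mem_Z2 hg hyS)
      intro w hw
      have hw' := mem_centralizerIn.1 hw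
      have htw : C.t w = 0 := C.t_eq_zero_of_comm h2 h7 h6 hw'.1 (hw'.2 _ h5)
      have hwZ : w ∈ C.Z1 := by
        by_contra hwZ
        exact hty (C.t_eq_zero_of_comm h2 ⟨hw'.1, htw⟩ hwZ hyS (hw'.2 y hyQ).symm)
      -- `Z₁ ≤ Q`
      obtain ⟨a, ha, h8, h9, h10, -⟩ := C.surj 0 0 (-(C.z w / (2 * C.t y))) 0
      have h11 : a * y * a⁻¹ = y * w := by
        apply C.inj (S.mul_mem (S.mul_mem ha hyS) (S.inv_mem ha)) (S.mul_mem hyS hwZ.1)
        · rw [C.t_conj ha hyS, C.t_mul hyS hwZ.1, hwZ.2.1, add_zero]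
        · rw [C.s_conj ha hyS, C.s_mul hyS hwZ.1, hwZ.2.2.1, add_zero]
        · rw [C.u_conj ha hyS, C.u_mul hyS hwZ.1, hwZ.2.2.1, hwZ.2.2.2, h8, h9]
          ring
        · rw [C.z_conj ha hyS, C.z_mul hyS hwZ.1, hwZ.2.2.1, hwZ.2.2.2, h8, h9, h10]
          field_simp
          ring
      have h12 := hconjQ a ha y hyQ
      rw [h11] at h12
      exact (Q.mul_mem_cancel_left hyQ).1 h12
    · push Not at ht
      have hQM : Q ≤ C.M := fun y hy => ⟨hQS hy, ht y hy⟩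
      have hCQ : centralizerIn S Q = C.M := by
        apply le_antisymm
        · intro w hw
          have hw' := mem_centralizerIn.1 hw
          exact ⟨hw'.1, C.t_eq_zero_of_comm h2 (hQM hxQ) hxZ hw'.1 (hw'.2 x hxQ)⟩
        · intro w hw
          exact mem_centralizerIn.2 ⟨hw.1, fun y hy => C.M_comm (hQM hy) hw⟩
      have hBs : F.StronglyClosed (Q ⊔ centralizerIn S Q) := S5255.result p hS F hF Q hQs
      rw [hCQ, sup_eq_right.2 hQM] at hBs
      refine ⟨C.M, H759.isNormal_of_abelian hS hF hBs ?_, isCentric_of_stronglyClosed hBs ?_⟩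
      · rw [Subgroup.commutator_eq_bot_iff_le_centralizer]
        intro a ha
        rw [Subgroup.mem_centralizer_iff]
        intro b hb
        exact C.M_comm hb ha
      · intro y hy
        have h1 := mem_centralizerIn.1 hy
        exact ⟨h1.1, C.t_eq_zero_of_comm h2 (hQM hxQ) hxZ h1.1 (h1.2 x (hQM hxQ))⟩

end odd

end Cfsg.Agent.H780
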