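import Cfsg.Agent.H780.SpOddMain
import Cfsg.Agent.H780.SL2Spread
import Cfsg.Agent.H812.SymLemma

/-!
# Instances of the two lemmas (helper780)
-/

set_option autoImplicit false

universe u v

namespace Cfsg.Agent.H780

theorem sl2Prop {K : Type v} [Field K] [Finite K] {p : ℕ} [Fact p.Prime] [CharP K p] :
    SL2Prop.{u} K p := by
  intro G _ _ ρ hadd P hP1 hP2 hnn
  exact sl2_lemma' ρ hadd P hP1 hP2 hnn

theorem symProp {K : Type v} [Field K] [Fintype K] {p : ℕ} [Fact p.Prime] (hp : p ≠ 2) [CharP K p] :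
    SymProp.{u} K p := by
  intro G _ _ ρ hρ hadd P hP1 hP2 hN hH z₀ hz₀ hfix
  exact Cfsg.Agent.H812.Sym.sym_lemma hp ρ hρ hadd P hP1 hP2 hN hH z₀ hz₀ hfix

end Cfsg.Agent.H780
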