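import Cfsg.Agent.H780.SpSide

/-!
# `p = 2`: normalized coordinates (helper780)
-/

set_option autoImplicit false
set_option linter.unusedSectionVars false

universe u v

namespace Cfsg.Agent.H780

open Cfsg Cfsg.FusionSystem Cfsg.Agent.H802

variable {Ω : Type u} [Group Ω] {S : Subgroup Ω} {K : Type v} [Field K]

/-- Change of the coordinate `u` by additive maps. -/
def SpC.shift [CharP K 2] (C : SpC S K) (f g : K →+ K) : SpC S K where
  t := C.t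
  s := C.s
  u x := C.u x + f (C.s x) + g (C.t x)
  z := C.z
  t_mul := C.t_mul
  s_mul := C.s_mul
  u_mul := fun {x y} hx hy => by
    rw [C.u_mul hx hy, C.s_mul hx hy, C.t_mul hx hy, map_add, map_add]
    ring
  z_mul := fun {x y} hx hy => by
    rw [C.z_mul hx hy, (two_eq_zero : (2 : K) = 0)]
    ring
  inj := fun {x y} hx hy h1 h2 h3 h4 => by
    rw [h1, h2] at h3
    exact C.inj hx hy h1 h2 (add_right_cancel (add_right_cancel h3)) h4
  surj := fun a b c d => by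
    obtain ⟨x, hx, h1, h2, h3, h4⟩ := C.surj a b (c - f b - g a) d
    exact ⟨x, hx, h1, h2, by rw [h1, h2, h3]; ring, h4⟩

theorem SpC.shift_Z1 [CharP K 2] (C : SpC S K) (f g : K →+ K) : (C.shift f g).Z1 = C.Z1 := by
  ext x
  show x ∈ S ∧ C.t x = 0 ∧ C.s x = 0 ∧ C.u x + f (C.s x) + g (C.t x) = 0 ↔
    x ∈ S ∧ C.t x = 0 ∧ C.s x = 0 ∧ C.u x = 0
  constructor
  · rintro ⟨h1, h2, h3, h4⟩
    rw [h2, h3, map_zero, map_zero, add_zero, add_zero] at h4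
    exact ⟨h1, h2, h3, h4⟩
  · rintro ⟨h1, h2, h3, h4⟩
    refine ⟨h1, h2, h3, ?_⟩
    rw [h2, h3, h4, map_zero, map_zero, add_zero, add_zero]

/-- **Normalized coordinates.** -/
theorem SpC.exists_sides [Finite K] [CharP K 2] [Finite S] (C : SpC S K) (hS : IsPGroup 2 S)
    {F : FusionSystem S} (hF : F.IsSaturated 2) (hcore : F.core ≠ ⊥)
    (hnc : ¬ ∃ Q : Subgroup Ω, F.IsNormal Q ∧ F.IsCentric Q) :
    ∃ C : SpC S K, F.IsEssential 2 C.M ∧ F.IsEssential 2 (C.L 0) ∧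
      (∀ α ∈ F.autGroup C.M, ∀ x : C.M, (x : Ω) ∈ C.Z1 → ((α x : C.M) : Ω) ∈ C.Z1) ∧
      (∀ α ∈ F.autGroup (C.L 0), ∀ x : C.L 0, (x : Ω) ∈ C.Z1 → ((α x : C.L 0) : Ω) ∈ C.Z1) ∧
      SideConc F C.M C.Z1 C.Z2 C.s C.t C.u ∧ SideConc F (C.L 0) C.Z1 C.Z2 C.t C.s C.u := by
  have h2 : (2 : K) = 0 := two_eq_zero
  obtain ⟨C, hM, hL, h3, h4⟩ := C.exists_coords hS hF hcore hnc
  obtain ⟨f, hf⟩ := C.side_M.main hS hF hM h3 (fun β hβ x hx =>
    ((C.mem_L0).1 ((C.inv_two h2 hS hF hβ).2 x (C.mem_L0.2 ⟨x.2, hx⟩))).2)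
  obtain ⟨g, hg⟩ := C.side_L.main hS hF hL h4 (fun β hβ x hx =>
    ((C.inv_two h2 hS hF hβ).1 x ⟨x.2, hx⟩).2)
  refine ⟨C.shift f g, hM, hL, ?_, ?_, ?_, ?_⟩
  · intro α hα x hx
    rw [C.shift_Z1] at hx ⊢
    exact h3 α hα x hx
  · intro α hα x hx
    rw [C.shift_Z1] at hx ⊢
    exact h4 α hα x hx
  · rw [C.shift_Z1]
    refine hf _ fun x hx => ?_
    show C.u x + f (C.s x) + g (C.t x) = _
    rw [hx.2, map_zero, add_zero]
  · rw [C.shift_Z1]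
    refine hg _ fun x hx => ?_
    show C.u x + f (C.s x) + g (C.t x) = _
    rw [(C.mem_L0.1 hx).2, map_zero, add_zero]

end Cfsg.Agent.H780
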