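import Cfsg.Agent.H780.SpEss
import Cfsg.Agent.H780.SLSit

/-!
# The torus coming from an essential `L_m` (helper780)
-/

set_option autoImplicit false

universe u v

namespace Cfsg.Agent.H780

open Cfsg Cfsg.FusionSystem Cfsg.Agent.H802

variable {Ω : Type u} [Group Ω] {S : Subgroup Ω}

/-- If `T = Aut_S(P)` is normal in `G` and `α` conjugates `T` into `G`, then `α` normalizes `T`. -/
theorem conj_mem_of_normal [Finite S] {p : ℕ} [Fact p.Prime] (hS : IsPGroup p S)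
    {F : FusionSystem S} {P : Subgroup Ω} (hPa : F.IsFullyAutomized p P)
    {G : Subgroup (MulAut P)} (hG : G ≤ F.autGroup P) (hTG : autInducedBy S P ≤ G)
    (hTn : ∀ g ∈ G, ∀ u ∈ autInducedBy S P, g * u * g⁻¹ ∈ autInducedBy S P)
    {α : MulAut P} (hα : ∀ u ∈ autInducedBy S P, α * u * α⁻¹ ∈ G) :
    ∀ u ∈ autInducedBy S P, α * u * α⁻¹ ∈ autInducedBy S P := by
  have hfP : Finite P := finite_of_le hPa.1
  obtain ⟨R, hR⟩ := exists_sylow_of_le hS hPa hG hTG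
  have hRn : (R : Subgroup G).Normal := by
    refine ⟨fun u hu g => ?_⟩
    rw [hR] at hu ⊢
    exact hTn g g.2 u hu
  set H : Subgroup (MulAut P) := (autInducedBy S P).map (MulAut.conj α).toMonoidHom with hH
  have hHG : H ≤ G := by
    rintro _ ⟨u, hu, rfl⟩
    exact hα u hu
  have hHp : IsPGroup p H := (isPGroup_autInducedBy hS P).map _
  have h1 : H.subgroupOf G ≤ pCore p G := H794.le_pCore_of_normal_sylow R hRn _
    (hHp.of_equiv (Subgroup.subgroupOfEquivOfLe hHG).symm)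
  have h2 := h1.trans (H794.pCore_le_sylow R)
  intro u hu
  have h3 : (⟨α * u * α⁻¹, hα u hu⟩ : G) ∈ H.subgroupOf G := ⟨u, hu, rfl⟩
  have h4 := h2 h3
  rw [hR] at h4
  exact h4

/-- Extension of an automorphism normalizing `Aut_S(P)` to `S`, for `P` normal in `S`. -/
theorem exists_extension_top [Finite S] {F : FusionSystem S} {P : Subgroup Ω}
    (hPr : F.IsReceptive P) (hPn : ∀ g ∈ S, ∀ x ∈ P, g * x * g⁻¹ ∈ P)
    {α : MulAut P} (hα : α ∈ F.autGroup P)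
    (hαn : ∀ u ∈ autInducedBy S P, α * u * α⁻¹ ∈ autInducedBy S P) :
    ∃ β ∈ F.autGroup S, ∀ (x : Ω) (hx : x ∈ P) (hx' : x ∈ S),
      ((β ⟨x, hx'⟩ : S) : Ω) = (α ⟨x, hx⟩ : P) := by
  have hPS := hPr.1
  have hnorm : ∀ g ∈ S, g ∈ Subgroup.normalizer (P : Set Ω) := by
    intro g hg
    rw [Subgroup.mem_normalizer_iff]
    intro x
    refine ⟨fun hx => hPn g hg x hx, fun hx => ?_⟩
    have h1 := hPn g⁻¹ (S.inv_mem hg) _ hx
    have h2 : g⁻¹ * (g * x * g⁻¹) * g⁻¹⁻¹ = x := by group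
    rwa [h2] at h1
  have hαm := (mem_autGroup_iff F hPS α).1 hα
  have hrange : (P.subtype.comp α.toMonoidHom).range = P := by
    ext x
    constructor
    · rintro ⟨y, rfl⟩
      exact (α y).2
    · intro hx
      refine ⟨α.symm ⟨x, hx⟩, ?_⟩
      show ((α (α.symm ⟨x, hx⟩) : P) : Ω) = x
      rw [MulEquiv.apply_symm_apply]
  obtain ⟨ψ, hψ, hψe⟩ := hPr.2 P _ hαm hrange
  have hext : extender S P (P.subtype.comp α.toMonoidHom) = S := by
    apply le_antisymm (extender_le _ _ _)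
    intro g hg
    rw [mem_extender_iff]
    refine ⟨hg, hnorm g hg, ?_⟩
    obtain ⟨τ, hτ⟩ := exists_conjAut (hnorm g hg)
    have hτ' := hαn τ ((mem_autInducedBy_iff S P τ).2 ⟨g, hg, hτ⟩)
    obtain ⟨h, hh, hhe⟩ := (mem_autInducedBy_iff S P _).1 hτ'
    refine ⟨h, hh, fun x hx => ?_⟩
    have h1 := hhe (α x)
    rw [MulAut.mul_apply, MulAut.mul_apply] at h1
    have h2 : α⁻¹ (α x) = x := α.symm_apply_apply x
    rw [h2] at h1
    have h3 : τ x = ⟨g * x * g⁻¹, hx⟩ := Subtype.ext (hτ x)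
    rw [h3] at h1
    exact h1
  have key : ∀ (E : Subgroup Ω), extender S P (P.subtype.comp α.toMonoidHom) = E → E = S →
      ∃ ψ' ∈ F.Hom S, ∀ (x : Ω) (hP : x ∈ P) (hN : x ∈ S), ψ' ⟨x, hN⟩ = (α ⟨x, hP⟩ : P) := by
    intro E hE hES
    subst hE
    have h4 : ∀ (T : Subgroup Ω) (hT : extender S P (P.subtype.comp α.toMonoidHom) = T),
        ∃ ψ' ∈ F.Hom T, ∀ (x : Ω) (hP : x ∈ P) (hN : x ∈ T), ψ' ⟨x, hN⟩ = (α ⟨x, hP⟩ : P) := by
      rintro T rfl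
      exact ⟨ψ, hψ, hψe⟩
    exact h4 S hES
  obtain ⟨ψ', hψ', hψe'⟩ := key _ rfl hext
  have hr : ψ'.range = S := range_eq_of_mapsTo hψ' (fun x => (F.le_of_mem hψ').2 x)
  obtain ⟨β, hβ, hβe⟩ := exists_aut hψ' hr
  exact ⟨β, hβ, fun x hx hx' => by rw [hβe, hψe' x hx hx']⟩

variable {K : Type v} [Field K] (C : SpC S K)

section odd

variable (h2 : (2 : K) ≠ 0)

include h2

/-- `Z₁` is invariant under `Aut(S)`. -/
theorem SpC.Z1_inv (α : MulAut S) (x : S) (hx : (x : Ω) ∈ C.Z1) : ((α x : S) : Ω) ∈ C.Z1 :=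
  center_invariant (fun _ hx => ⟨fun h _ hy => C.Z1_comm h hy, fun h => C.mem_Z1_of_comm h2 hx h⟩) α x hx

/-- `Z₂` is invariant under `Aut(S)`. -/
theorem SpC.Z2_inv (α : MulAut S) (x : S) (hx : (x : Ω) ∈ C.Z2) : ((α x : S) : Ω) ∈ C.Z2 := by
  refine second_invariant (B := C.Z1) (fun x hx => ?_) α (C.Z1_inv h2 α) x hx
  constructor
  · intro h y hy
    rw [C.comm_mem_Z1_iff hx hy, h.2.1, h.2.2]
    ring
  · intro h
    obtain ⟨y, hy, h3, h4, -, -⟩ := C.surj 1 0 0 0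
    obtain ⟨w, hw, h5, h6, -, -⟩ := C.surj 0 1 0 0
    have h7 := (C.comm_mem_Z1_iff hx hy).1 (h y hy)
    have h8 := (C.comm_mem_Z1_iff hx hw).1 (h w hw)
    rw [h3, h4] at h7
    rw [h5, h6] at h8
    exact ⟨hx, by linear_combination h8, by linear_combination -h7⟩

/-- `M` is invariant under `Aut(S)`. -/
theorem SpC.M_inv (α : MulAut S) (x : S) (hx : (x : Ω) ∈ C.M) : ((α x : S) : Ω) ∈ C.M := by
  -- an element of `Z₂ ∖ Z₁`
  obtain ⟨y, hy, h3, h4, h5, -⟩ := C.surj 0 0 1 0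
  have hyZ2 : y ∈ C.Z2 := ⟨hy, h3, h4⟩
  have hyZ1 : y ∉ C.Z1 := fun h => one_ne_zero (h5.symm.trans h.2.2.2)
  have h6 := C.Z2_inv h2 α ⟨y, hy⟩ hyZ2
  have h7 : ((α ⟨y, hy⟩ : S) : Ω) ∉ C.Z1 := by
    intro h
    have h8 := C.Z1_inv h2 α⁻¹ _ h
    have h9 : α⁻¹ (α ⟨y, hy⟩) = ⟨y, hy⟩ := α.symm_apply_apply _
    rw [h9] at h8
    exact hyZ1 h8
  refine ⟨(α x).2, C.t_eq_zero_of_comm h2 (C.Z2_le_M h6) h7 (α x).2 ?_⟩
  have h8 : (⟨y, hy⟩ : S) * x = x * ⟨y, hy⟩ := Subtype.ext (C.M_comm (C.Z2_le_M hyZ2) hx)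
  have h9 := congrArg α h8
  rw [map_mul, map_mul] at h9
  exact congrArg Subtype.val h9

/-- **The torus of `L_m`.** -/
theorem SpC.exists_torus [Finite S] {p : ℕ} [Fact p.Prime] (hsl : SL2Prop.{u} K p)
    (hS : IsPGroup p S) {F : FusionSystem S} (hF : F.IsSaturated p) {m : K}
    (hP : F.IsEssential p (C.L m)) {c : K} (hc : c ≠ 0) :
    ∃ β ∈ F.autGroup S, (∀ x : S, (x : Ω) ∈ C.Z1 → β x = x) ∧
      (∀ x : S, (x : Ω) ∈ C.Z2 → C.u (β x : S) = c * C.u x) ∧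
      (∀ x : S, C.t (β x : S) = c⁻¹ * C.t x) ∧
      (∀ x : S, C.s (β x : S) - m * C.t (β x : S) = c ^ 2 * (C.s x - m * C.t x)) := by
  set P := C.L m with hPdef
  have hPS : P ≤ S := C.L_le m
  have hfP : Finite P := finite_of_le hPS
  have hPa := isFullyAutomized_of_isFullyNormalized hS hF hP.2.1
  have hPr := isReceptive_of_isFullyNormalized hS hF hP.2.1
  have hZP : C.Z1 ≤ P := C.Z1_le_Z2.trans (C.Z2_le_L m)
  have hnormP : ∀ g ∈ S, ∀ x ∈ P, g * x * g⁻¹ ∈ P := fun g hg x hx =>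
    C.conj_mem_of_Z2_le hPS (C.Z2_le_L m) hg hx
  have hnormal : ∀ g ∈ S, g ∈ Subgroup.normalizer (P : Set Ω) := by
    intro g hg
    rw [Subgroup.mem_normalizer_iff]
    intro x
    refine ⟨fun hx => hnormP g hg x hx, fun hx => ?_⟩
    have h1 := hnormP g⁻¹ (S.inv_mem hg) _ hx
    have h2 : g⁻¹ * (g * x * g⁻¹) * g⁻¹⁻¹ = x := by group
    rwa [h2] at h1
  -- `Z₁` is the centre of `P`
  have hcenP : ∀ x ∈ P, x ∈ C.Z1 ↔ ∀ y ∈ P, x * y = y * x := by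
    intro x hx
    refine ⟨fun h y hy => C.Z1_comm h (hPS hy), fun h => ?_⟩
    obtain ⟨y, hy, h3, h4, h5, -⟩ := C.surj 1 m 0 0
    obtain ⟨w, hw, h6, h7, h8, -⟩ := C.surj 0 0 1 0
    have hyP : y ∈ P := ⟨hy, by rw [h3, h4, mul_one]⟩
    have hwP : w ∈ P := ⟨hw, by rw [h6, h7, mul_zero]⟩
    refine C.centralizer_le_Z1 h2 hPS hyP hwP (fun h9 => ?_) (hPS hx) h
    have h10 := (C.comm_iff hy hw).1 h9
    rw [h3, h4, h5, h6, h7, h8] at h10
    apply h2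
    linear_combination h10.2
  have hZinv : ∀ (α : MulAut P) (x : P), (x : Ω) ∈ C.Z1 → ((α x : P) : Ω) ∈ C.Z1 :=
    fun α x hx => center_invariant hcenP α x hx
  -- the projection
  let w : Ω → K := fun x => C.u x - m / 2 * C.t x ^ 2
  have hw : ∀ x ∈ P, ∀ y ∈ P, w (x * y) = w x + w y := by
    intro x hx y hy
    show C.u (x * y) - m / 2 * C.t (x * y) ^ 2 = (C.u x - m / 2 * C.t x ^ 2) + (C.u y - m / 2 * C.t y ^ 2)
    rw [C.u_mul (hPS hx) (hPS hy), C.t_mul (hPS hx) (hPS hy), hy.2]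
    field_simp
    ring
  let π : P → K × K := fun x => (C.t x, w x)
  have hπ : ∀ x y, π (x * y) = π x + π y := by
    intro x y
    ext
    · exact C.t_mul (hPS x.2) (hPS y.2)
    · exact hw x x.2 y y.2
  have hπs : Function.Surjective π := by
    rintro ⟨a, b⟩
    obtain ⟨x, hx, h3, h4, h5, -⟩ := C.surj a (m * a) (b + m / 2 * a ^ 2) 0
    refine ⟨⟨x, hx, by rw [h3, h4]⟩, ?_⟩
    ext
    · exact h3
    · show C.u x - m / 2 * C.t x ^ 2 = b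
      rw [h5, h3]; ring
  have hπ0 : ∀ x : P, π x = 0 ↔ (x : Ω) ∈ C.Z1 := by
    intro x
    constructor
    · intro h
      have h3 : C.t x = 0 := congrArg Prod.fst h
      have h4 : C.u x - m / 2 * C.t x ^ 2 = 0 := congrArg Prod.snd h
      refine ⟨hPS x.2, h3, by rw [x.2.2, h3, mul_zero], ?_⟩
      rw [h3] at h4
      linear_combination h4
    · intro h
      ext
      · exact h.2.1
      · show C.u x - m / 2 * C.t x ^ 2 = 0
        rw [h.2.1, h.2.2.2]; ring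
  have hconjπ : ∀ g ∈ S, ∀ (x y : P), (y : Ω) = g * x * g⁻¹ → π y = theta (m * C.t g - C.s g) (π x) := by
    intro g hg x y hy
    ext
    · show C.t y = C.t x
      rw [hy, C.t_conj hg (hPS x.2)]
    · show C.u y - m / 2 * C.t y ^ 2 = (C.u x - m / 2 * C.t x ^ 2) + (m * C.t g - C.s g) * C.t x
      rw [hy, C.u_conj hg (hPS x.2), C.t_conj hg (hPS x.2), x.2.2]
      ring
  -- the group `G`
  let G : Subgroup (MulAut P) :=
    { carrier := {α | α ∈ F.autGroup P ∧ ∀ x : P, (x : Ω) ∈ C.Z1 → α x = x}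
      one_mem' := ⟨Subgroup.one_mem _, fun x _ => rfl⟩
      mul_mem' := by
        rintro a b ⟨ha, ha1⟩ ⟨hb, hb1⟩
        exact ⟨Subgroup.mul_mem _ ha hb, fun x hx => by rw [MulAut.mul_apply, hb1 x hx, ha1 x hx]⟩
      inv_mem' := by
        rintro a ⟨ha, ha1⟩
        refine ⟨Subgroup.inv_mem _ ha, fun x hx => ?_⟩
        have h3 := ha1 x hx
        calc a⁻¹ x = a⁻¹ (a x) := by rw [h3]
          _ = x := a.symm_apply_apply x }
  have hG : G ≤ F.autGroup P := fun α hα => hα.1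
  have hTG : autInducedBy S P ≤ G := by
    intro τ hτ
    refine ⟨autInducedBy_le_autGroup F hPS hτ, fun x hx => ?_⟩
    obtain ⟨g, hg, hgτ⟩ := (mem_autInducedBy_iff S P τ).1 hτ
    apply Subtype.ext
    rw [hgτ, ← C.Z1_comm hx hg, mul_inv_cancel_right]
  have hnn : ¬ ∀ g ∈ G, ∀ u ∈ autInducedBy S P, g * u * g⁻¹ ∈ autInducedBy S P := by
    intro h
    apply not_normal_of_isEssential hS hF hP
    intro α hα
    apply conj_mem_of_normal hS hPa hG hTG h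
    intro u hu
    refine ⟨Subgroup.mul_mem _ (Subgroup.mul_mem _ hα (hG (hTG hu))) (Subgroup.inv_mem _ hα),
      fun x hx => ?_⟩
    rw [MulAut.mul_apply, MulAut.mul_apply, (hTG hu).2 _ (hZinv α⁻¹ x hx)]
    exact α.apply_symm_apply x
  obtain ⟨f, hf, -⟩ := sl2_situation hsl hS hPa hG hTG π hπ hπs
    (fun α hα x hx => hα.2 x ((hπ0 x).1 hx))
    (fun τ hτ => by
      obtain ⟨g, hg, hgτ⟩ := (mem_autInducedBy_iff S P τ).1 hτ
      exact ⟨_, fun x => hconjπ g hg x (τ x) (hgτ x)⟩)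
    (fun r => by
      obtain ⟨g, hg, h3, h4, -, -⟩ := C.surj 0 (-r) 0 0
      obtain ⟨τ, hτ⟩ := exists_conjAut (hnormal g hg)
      refine ⟨τ, (mem_autInducedBy_iff S P τ).2 ⟨g, hg, hτ⟩, fun x => ?_⟩
      rw [hconjπ g hg x (τ x) (hτ x), h3, h4, show m * 0 - -r = r by ring]) hnn
  obtain ⟨h, hh, hh1, hh2⟩ := hf c hc
  obtain ⟨β, hβ, hβe⟩ := exists_extension_top hPr hnormP (hG hh) hh2
  have hβP : ∀ (x : P), β ⟨x, hPS x.2⟩ = ⟨h x, hPS (h x).2⟩ := fun x =>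
    Subtype.ext (hβe x x.2 (hPS x.2))
  -- `t`
  have htP : ∀ x : P, C.t (h x : P) = c⁻¹ * C.t x := fun x => congrArg Prod.fst (hh1 x)
  have ht : ∀ x : S, C.t (β x : S) = c⁻¹ * C.t x := by
    intro x
    obtain ⟨l, hl, h3, h4, -, -⟩ := C.surj (C.t x) (m * C.t x) 0 0
    have hlP : l ∈ P := ⟨hl, by rw [h3, h4]⟩
    have hxl : x * (⟨l, hl⟩ : S)⁻¹ * ⟨l, hl⟩ = x := by group
    have hM : ((x * (⟨l, hl⟩ : S)⁻¹ : S) : Ω) ∈ C.M := by
      refine ⟨(x * (⟨l, hl⟩ : S)⁻¹).2, ?_⟩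
      show C.t (x * l⁻¹) = 0
      rw [C.t_mul x.2 (S.inv_mem hl), C.t_inv hl, h3, add_neg_cancel]
    have h5 := C.M_inv h2 β _ hM
    have h6 := htP ⟨l, hlP⟩
    have h7 : (β ⟨l, hl⟩ : S) = ⟨h ⟨l, hlP⟩, hPS (h ⟨l, hlP⟩).2⟩ := hβP ⟨l, hlP⟩
    rw [← hxl, map_mul]
    show C.t ((β (x * (⟨l, hl⟩ : S)⁻¹) : S) * (β ⟨l, hl⟩ : S) : Ω) = c⁻¹ * C.t _
    rw [C.t_mul (β _).2 (β _).2, h5.2, h7, hxl]
    show 0 + C.t (h ⟨l, hlP⟩ : P) = _
    rw [h6, h3, zero_add]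
  have hconj : ∀ g : S, m * C.t (β g : S) - C.s (β g : S) = c ^ 2 * (m * C.t g - C.s g) := by
    intro g
    obtain ⟨x, hx, h3, h4, -, -⟩ := C.surj 1 m 0 0
    have hxP : x ∈ P := ⟨hx, by rw [h3, h4, mul_one]⟩
    have hy : (g : Ω) * x * (g : Ω)⁻¹ ∈ P := hnormP g g.2 x hxP
    have h5 := hconjπ g g.2 ⟨x, hxP⟩ ⟨_, hy⟩ rfl
    have h6 : ((h ⟨_, hy⟩ : P) : Ω) = (β g : S) * (h ⟨x, hxP⟩ : P) * ((β g : S) : Ω)⁻¹ := by
      have h7 : (β (g * ⟨x, hx⟩ * g⁻¹) : S) = β g * β ⟨x, hx⟩ * (β g)⁻¹ := by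
        rw [map_mul, map_mul, map_inv]
      have h8 := congrArg Subtype.val h7
      have h9 : β ⟨x, hx⟩ = _ := hβP ⟨x, hxP⟩
      have h10 : β (g * ⟨x, hx⟩ * g⁻¹) = _ := hβP ⟨_, hy⟩
      rw [h10, h9] at h8
      exact h8
    have h7 := hconjπ (β g : S) (β g).2 (h ⟨x, hxP⟩) (h ⟨_, hy⟩) h6
    rw [hh1, h5, hh1] at h7
    have h8 := congrArg Prod.snd h7
    have hx1 : (π ⟨x, hxP⟩).1 = 1 := h3
    simp only [theta, Equiv.coe_fn_mk, hx1, mul_one] at h8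
    have h9 : c * (m * C.t g - C.s g) = (m * C.t (β g : S) - C.s (β g : S)) * c⁻¹ := by
      linear_combination h8
    have h10 : (m * C.t (β g : S) - C.s (β g : S)) = (c * (m * C.t g - C.s g)) * c := by
      rw [h9]; field_simp
    rw [h10]; ring
  refine ⟨β, hβ, fun x hx => ?_, fun x hx => ?_, ht, fun x => ?_⟩
  · have h3 : x = ⟨x, hPS (hZP hx)⟩ := rfl
    have h4 := hβP ⟨x, hZP hx⟩
    have h5 := hh.2 ⟨x, hZP hx⟩ hx
    rw [h5] at h4
    exact h4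
  · have hxP : (x : Ω) ∈ P := C.Z2_le_L m hx
    have h4 : β x = _ := hβP ⟨x, hxP⟩
    rw [h4]
    show C.u (h ⟨x, hxP⟩ : P) = _
    have h5 := hh1 ⟨x, hxP⟩
    have h6 : (π ⟨x, hxP⟩).1 = 0 := hx.2.1
    have h7 : (π ⟨x, hxP⟩).2 = C.u x := by
      show C.u x - m / 2 * C.t x ^ 2 = C.u x
      rw [hx.2.1]; ring
    rw [h6, h7] at h5
    have h8 := congrArg Prod.snd h5
    have h9 : C.t (h ⟨x, hxP⟩ : P) = 0 := by rw [htP, show C.t (x : Ω) = 0 from hx.2.1, mul_zero]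
    have h10 : C.u (h ⟨x, hxP⟩ : P) - m / 2 * C.t (h ⟨x, hxP⟩ : P) ^ 2 = _ := h8
    rw [h9] at h10
    simp only [mul_zero, map_zero, sub_zero, add_zero, ne_eq, OfNat.ofNat_ne_zero, not_false_eq_true,
      zero_pow] at h10
    exact h10
  · linear_combination -(hconj x)

end odd

end Cfsg.Agent.H780
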