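import Cfsg.Agent.H780.SpTwoU
import Cfsg.Agent.H780.SpTorus

/-!
# `p = 2`: the two sides (helper780)
-/

set_option autoImplicit false
set_option linter.unusedSectionVars false

universe u v

namespace Cfsg.Agent.H780

open Cfsg Cfsg.FusionSystem Cfsg.Agent.H802

variable {Ω : Type u} [Group Ω] {S : Subgroup Ω} {K : Type v} [Field K]

/-- The common properties of `M` and `L₀` (in characteristic two). -/
structure Side (S : Subgroup Ω) (P Z1 Z2 : Subgroup Ω) (σ τ w : Ω → K) : Prop where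
  σ_mul : ∀ {x y}, x ∈ S → y ∈ S → σ (x * y) = σ x + σ y
  τ_mul : ∀ {x y}, x ∈ S → y ∈ S → τ (x * y) = τ x + τ y
  w_mul : ∀ {x y}, x ∈ P → y ∈ P → w (x * y) = w x + w y
  memP : ∀ {x}, x ∈ P ↔ x ∈ S ∧ τ x = 0
  memZ2 : ∀ {x}, x ∈ Z2 ↔ x ∈ S ∧ τ x = 0 ∧ σ x = 0
  memZ1 : ∀ {x}, x ∈ Z1 ↔ x ∈ S ∧ τ x = 0 ∧ σ x = 0 ∧ w x = 0
  σ_conj : ∀ {g x}, g ∈ S → x ∈ S → σ (g * x * g⁻¹) = σ x
  τ_conj : ∀ {g x}, g ∈ S → x ∈ S → τ (g * x * g⁻¹) = τ x
  w_conj : ∀ {g x}, g ∈ S → x ∈ P → w (g * x * g⁻¹) = w x + τ g * σ x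
  surj : ∀ a b c : K, ∃ x ∈ S, σ x = a ∧ τ x = b ∧ w x = c
  comm : ∀ {x y}, x ∈ Z2 → y ∈ S → x * y = y * x
  cen : ∀ {x}, x ∈ S → (∀ y ∈ S, x * y = y * x) → x ∈ Z2

/-- What is obtained for the two sides. -/
structure SideConc (F : FusionSystem S) (P Z1 Z2 : Subgroup Ω) (σ τ w : Ω → K) : Prop where
  torus : ∀ c : K, c ≠ 0 → ∃ β ∈ F.autGroup S, (∀ x : S, (x : Ω) ∈ Z1 → β x = x) ∧
    (∀ x : S, (x : Ω) ∈ P → w (β x : S) = c * w x) ∧ (∀ x : S, σ (β x : S) = c⁻¹ * σ x) ∧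
    (∀ x : S, τ (β x : S) = c ^ 2 * τ x)
  n : ∃ n ∈ F.autGroup P, (∀ x : P, (x : Ω) ∈ Z1 → n x = x) ∧
    ∀ x : P, σ (n x : P) = w x ∧ w (n x : P) = σ x
  spread : ∀ α ∈ F.autGroup P, (∀ x : P, (x : Ω) ∈ Z2 → ((α x : P) : Ω) ∈ Z2) ∨
    ∃ r : K, ∀ x : P, (x : Ω) ∈ Z2 → w (α x : P) = r * σ (α x : P)
  ext : ∀ α ∈ F.autGroup P, (∀ x : P, (x : Ω) ∈ Z2 → ((α x : P) : Ω) ∈ Z2) →
    ∃ β ∈ F.autGroup S, ∀ (x : Ω) (hx : x ∈ P) (hx' : x ∈ S), ((β ⟨x, hx'⟩ : S) : Ω) = (α ⟨x, hx⟩ : P)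

theorem SpC.side_M [Finite K] [CharP K 2] (C : SpC S K) : Side S C.M C.Z1 C.Z2 C.s C.t C.u where
  σ_mul := fun hx hy => C.s_mul hx hy
  τ_mul := fun hx hy => C.t_mul hx hy
  w_mul := fun {x y} hx hy => by rw [C.u_mul hx.1 hy.1, hx.2]; ring
  memP := Iff.rfl
  memZ2 := Iff.rfl
  memZ1 := Iff.rfl
  σ_conj := fun hg hx => C.s_conj hg hx
  τ_conj := fun hg hx => C.t_conj hg hx
  w_conj := fun {g x} hg hx => by rw [C.u_conj hg hx.1, hx.2]; ring
  surj := fun a b c => by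
    obtain ⟨x, hx, h1, h2, h3, -⟩ := C.surj b a c 0
    exact ⟨x, hx, h2, h1, h3⟩
  comm := fun hx hy => C.Z2_comm two_eq_zero hx hy
  cen := fun hx h => C.mem_Z2_of_comm hx h

theorem SpC.side_L [Finite K] [CharP K 2] (C : SpC S K) : Side S (C.L 0) C.Z1 C.Z2 C.t C.s C.u where
  σ_mul := fun hx hy => C.t_mul hx hy
  τ_mul := fun hx hy => C.s_mul hx hy
  w_mul := fun {x y} hx hy => by
    rw [C.mem_L0] at hx hy
    rw [C.u_mul hx.1 hy.1, hy.2]; ring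
  memP := C.mem_L0
  memZ2 := fun {x} => by
    rw [C.mem_Z2]; tauto
  memZ1 := fun {x} => by
    rw [C.mem_Z1]; tauto
  σ_conj := fun hg hx => C.t_conj hg hx
  τ_conj := fun hg hx => C.s_conj hg hx
  w_conj := fun {g x} hg hx => by
    rw [C.mem_L0] at hx
    rw [C.u_conj hg hx.1, hx.2]
    linear_combination (-C.t x * C.s g) * (two_eq_zero : (2 : K) = 0)
  surj := fun a b c => by
    obtain ⟨x, hx, h1, h2, h3, -⟩ := C.surj a b c 0
    exact ⟨x, hx, h1, h2, h3⟩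
  comm := fun hx hy => C.Z2_comm two_eq_zero hx hy
  cen := fun hx h => C.mem_Z2_of_comm hx h

section

variable [Finite S] {P Z1 Z2 : Subgroup Ω} {σ τ w : Ω → K} {F : FusionSystem S}

theorem Side.P_le (hs : Side S P Z1 Z2 σ τ w) : P ≤ S := fun _ hx => (hs.memP.1 hx).1

theorem Side.Z2_le (hs : Side S P Z1 Z2 σ τ w) : Z2 ≤ P := fun _ hx =>
  hs.memP.2 ⟨(hs.memZ2.1 hx).1, (hs.memZ2.1 hx).2.1⟩

theorem Side.Z1_le (hs : Side S P Z1 Z2 σ τ w) : Z1 ≤ Z2 := fun _ hx =>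
  hs.memZ2.2 ⟨(hs.memZ1.1 hx).1, (hs.memZ1.1 hx).2.1, (hs.memZ1.1 hx).2.2.1⟩

theorem Side.conj_mem (hs : Side S P Z1 Z2 σ τ w) {g x : Ω} (hg : g ∈ S) (hx : x ∈ P) :
    g * x * g⁻¹ ∈ P := by
  rw [hs.memP] at hx ⊢
  exact ⟨S.mul_mem (S.mul_mem hg hx.1) (S.inv_mem hg), by rw [hs.τ_conj hg hx.1, hx.2]⟩

theorem Side.normalizer (hs : Side S P Z1 Z2 σ τ w) {g : Ω} (hg : g ∈ S) :
    g ∈ Subgroup.normalizer (P : Set Ω) := by
  rw [Subgroup.mem_normalizer_iff]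
  intro x
  refine ⟨fun hx => hs.conj_mem hg hx, fun hx => ?_⟩
  have h1 := hs.conj_mem (S.inv_mem hg) hx
  have h2 : g⁻¹ * (g * x * g⁻¹) * g⁻¹⁻¹ = x := by group
  rwa [h2] at h1

/-- An element of `Aut_F(P)` preserving `Z₂` normalizes `Aut_S(P)`. -/
theorem Side.normalizes (hs : Side S P Z1 Z2 σ τ w) (hS : IsPGroup 2 S)
    (hPa : F.IsFullyAutomized 2 P) {α : MulAut P} (hα : α ∈ F.autGroup P)
    (h : ∀ x : P, (x : Ω) ∈ Z2 → ((α x : P) : Ω) ∈ Z2) :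
    ∀ u ∈ autInducedBy S P, α * u * α⁻¹ ∈ autInducedBy S P := by
  have hfP : Finite P := finite_of_le hs.P_le
  let c : ℕ → Subgroup P := fun i => match i with
    | 0 => ⊤
    | 1 => Z2.subgroupOf P
    | _ => ⊥
  have hanti : ∀ i, c (i + 1) ≤ c i := by
    rintro (_ | _ | i)
    · exact le_top
    · exact bot_le
    · exact le_rfl
  have hNp : IsPGroup 2 (chainStab (F.autGroup P) 2 c hanti rfl) :=
    chainStab_isPGroup (hS.to_le hs.P_le) _ 2 c hanti rfl rfl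
  have hNmem : ∀ κ, κ ∈ chainStab (F.autGroup P) 2 c hanti rfl ↔ κ ∈ F.autGroup P ∧
      (∀ x : P, ((x⁻¹ * κ x : P) : Ω) ∈ Z2) ∧ ∀ x : P, (x : Ω) ∈ Z2 → κ x = x := by
    intro κ
    rw [mem_chainStab]
    constructor
    · rintro ⟨h1, h2⟩
      refine ⟨h1, fun x => h2 0 (by norm_num) x (Subgroup.mem_top x), fun x hx => ?_⟩
      have h3 : x⁻¹ * κ x ∈ (⊥ : Subgroup P) := h2 1 (by norm_num) x hx
      exact (inv_mul_eq_one.1 (Subgroup.mem_bot.1 h3)).symm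
    · rintro ⟨h1, h2, h3⟩
      refine ⟨h1, ?_⟩
      rintro (_ | _ | i) hi x hx
      · exact h2 x
      · have h4 : κ x = x := h3 x hx
        rw [h4, inv_mul_cancel]
        exact Subgroup.one_mem _
      · omega
  have hT : ∀ u ∈ autInducedBy S P, (∀ x : P, ((x⁻¹ * u x : P) : Ω) ∈ Z2) ∧
      ∀ x : P, (x : Ω) ∈ Z2 → u x = x := by
    intro u hu
    obtain ⟨g, hg, hgu⟩ := (mem_autInducedBy_iff S P u).1 hu
    constructor
    · intro x
      have hxP := hs.memP.1 x.2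
      have hy : ((u x : P) : Ω) ∈ S := hs.P_le (u x).2
      have h3 : ((x⁻¹ * u x : P) : Ω) = (x : Ω)⁻¹ * (u x : P) := rfl
      have hσi : σ (x : Ω)⁻¹ + σ x = 0 := by
        rw [← hs.σ_mul (S.inv_mem hxP.1) hxP.1, inv_mul_cancel]
        have h9 := hs.σ_mul S.one_mem S.one_mem
        rw [mul_one] at h9
        simpa using h9
      rw [h3, hs.memZ2]
      have h4 : (x : Ω)⁻¹ * (u x : P) ∈ P := P.mul_mem (P.inv_mem x.2) (u x).2
      refine ⟨(hs.memP.1 h4).1, (hs.memP.1 h4).2, ?_⟩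
      rw [hs.σ_mul (S.inv_mem hxP.1) hy, hgu, hs.σ_conj hg hxP.1]
      exact hσi
    · intro x hx
      apply Subtype.ext
      rw [hgu, ← hs.comm hx hg, mul_inv_cancel_right]
  have hTN : autInducedBy S P ≤ chainStab (F.autGroup P) 2 c hanti rfl := by
    intro u hu
    rw [hNmem]
    exact ⟨autInducedBy_le_autGroup F hs.P_le hu, (hT u hu).1, (hT u hu).2⟩
  have hNT := le_autInducedBy_of_le hPa (fun κ hκ => ((hNmem κ).1 hκ).1) hNp hTN
  -- `α⁻¹` preserves `Z₂`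
  have hinv : ∀ x : P, (x : Ω) ∈ Z2 → ((α⁻¹ x : P) : Ω) ∈ Z2 := by
    have h1 : (Z2.subgroupOf P).map α.toMonoidHom = Z2.subgroupOf P := by
      apply Subgroup.eq_of_le_of_card_ge
      · rintro _ ⟨x, hx, rfl⟩
        exact h x hx
      · rw [Subgroup.card_map_of_injective α.injective]
    intro x hx
    have h2 : x ∈ (Z2.subgroupOf P).map α.toMonoidHom := by rw [h1]; exact hx
    obtain ⟨y, hy, rfl⟩ := h2
    have h3 : α⁻¹ (α.toMonoidHom y) = y := α.symm_apply_apply y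
    rw [h3]
    exact hy
  intro u hu
  apply hNT
  rw [hNmem]
  refine ⟨Subgroup.mul_mem _ (Subgroup.mul_mem _ hα (autInducedBy_le_autGroup F hs.P_le hu))
    (Subgroup.inv_mem _ hα), fun x => ?_, fun x hx => ?_⟩
  · have h1 := h _ ((hT u hu).1 (α⁻¹ x))
    have h2 : α ((α⁻¹ x)⁻¹ * u (α⁻¹ x)) = x⁻¹ * (α * u * α⁻¹) x := by
      rw [map_mul, map_inv]
      have h3 : α (α⁻¹ x) = x := α.apply_symm_apply x
      rw [h3]
      rfl
    rw [h2] at h1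
    exact h1
  · rw [MulAut.mul_apply, MulAut.mul_apply, (hT u hu).2 _ (hinv x hx)]
    exact α.apply_symm_apply x

/-- **The main statement about a side.** -/
theorem Side.main [Finite K] [CharP K 2] (hs : Side S P Z1 Z2 σ τ w) (hS : IsPGroup 2 S)
    (hF : F.IsSaturated 2) (hP : F.IsEssential 2 P)
    (hZ1 : ∀ α ∈ F.autGroup P, ∀ x : P, (x : Ω) ∈ Z1 → ((α x : P) : Ω) ∈ Z1)
    (hother : ∀ β ∈ F.autGroup S, ∀ x : S, σ x = 0 → σ (β x : S) = 0) :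
    ∃ f : K →+ K, ∀ w' : Ω → K, (∀ x ∈ P, w' x = w x + f (σ x)) → SideConc F P Z1 Z2 σ τ w' := by
  have h2 : (2 : K) = 0 := two_eq_zero
  have hPS := hs.P_le
  have hfP : Finite P := finite_of_le hPS
  have hPa := isFullyAutomized_of_isFullyNormalized hS hF hP.2.1
  have hPr := isReceptive_of_isFullyNormalized hS hF hP.2.1
  have hZP : Z1 ≤ P := hs.Z1_le.trans hs.Z2_le
  have hnormP : ∀ g ∈ S, ∀ x ∈ P, g * x * g⁻¹ ∈ P := fun g hg x hx => hs.conj_mem hg hx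
  -- the projection
  let π : P → K × K := fun x => (σ x, w x)
  have hπ : ∀ x y, π (x * y) = π x + π y := by
    intro x y
    ext
    · exact hs.σ_mul (hPS x.2) (hPS y.2)
    · exact hs.w_mul x.2 y.2
  have hπs : Function.Surjective π := by
    rintro ⟨a, b⟩
    obtain ⟨x, hx, h3, h4, h5⟩ := hs.surj a 0 b
    exact ⟨⟨x, hs.memP.2 ⟨hx, h4⟩⟩, Prod.ext h3 h5⟩
  have hπ0 : ∀ x : P, π x = 0 ↔ (x : Ω) ∈ Z1 := by
    intro x
    constructor
    · intro h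
      exact hs.memZ1.2 ⟨hPS x.2, (hs.memP.1 x.2).2, congrArg Prod.fst h, congrArg Prod.snd h⟩
    · intro h
      have h3 := hs.memZ1.1 h
      exact Prod.ext h3.2.2.1 h3.2.2.2
  have hconjπ : ∀ g ∈ S, ∀ (x y : P), (y : Ω) = g * x * g⁻¹ → π y = theta (τ g) (π x) := by
    intro g hg x y hy
    ext
    · show σ y = σ x
      rw [hy, hs.σ_conj hg (hPS x.2)]
    · show w y = w x + τ g * σ x
      rw [hy, hs.w_conj hg x.2]
  -- the group `G`
  let G : Subgroup (MulAut P) :=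
    { carrier := {α | α ∈ F.autGroup P ∧ ∀ x : P, (x : Ω) ∈ Z1 → α x = x}
      one_mem' := ⟨Subgroup.one_mem _, fun x _ => rfl⟩
      mul_mem' := by
        rintro a b ⟨ha, ha1⟩ ⟨hb, hb1⟩
        exact ⟨Subgroup.mul_mem _ ha hb, fun x hx => by rw [MulAut.mul_apply, hb1 x hx, ha1 x hx]⟩
      inv_mem' := by
        rintro a ⟨ha, ha1⟩
        refine ⟨Subgroup.inv_mem _ ha, fun x hx => ?_⟩
        have h3 := ha1 x hx
        calc a⁻¹ x = a⁻¹ (a x) := by rw [h3]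
          _ = x := a.symm_apply_apply x }
  have hG : G ≤ F.autGroup P := fun α hα => hα.1
  have hTG : autInducedBy S P ≤ G := by
    intro u hu
    refine ⟨autInducedBy_le_autGroup F hPS hu, fun x hx => ?_⟩
    obtain ⟨g, hg, hgu⟩ := (mem_autInducedBy_iff S P u).1 hu
    apply Subtype.ext
    rw [hgu, ← hs.comm (hs.Z1_le hx) hg, mul_inv_cancel_right]
  have hconjG : ∀ α ∈ F.autGroup P, ∀ u ∈ autInducedBy S P, α * u * α⁻¹ ∈ G := by
    intro α hα u hu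
    refine ⟨Subgroup.mul_mem _ (Subgroup.mul_mem _ hα (hG (hTG hu))) (Subgroup.inv_mem _ hα),
      fun x hx => ?_⟩
    rw [MulAut.mul_apply, MulAut.mul_apply, (hTG hu).2 _ (hZ1 α⁻¹ (Subgroup.inv_mem _ hα) x hx)]
    exact α.apply_symm_apply x
  have hnn : ¬ ∀ g ∈ G, ∀ u ∈ autInducedBy S P, g * u * g⁻¹ ∈ autInducedBy S P := by
    intro h
    apply not_normal_of_isEssential hS hF hP
    intro α hα
    exact conj_mem_of_normal hS hPa hG hTG h (hconjG α hα)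
  obtain ⟨f, hf1, hf2, hf3⟩ := sl2_situation sl2Prop hS hPa hG hTG π hπ hπs
    (fun α hα x hx => hα.2 x ((hπ0 x).1 hx))
    (fun u hu => by
      obtain ⟨g, hg, hgu⟩ := (mem_autInducedBy_iff S P u).1 hu
      exact ⟨_, fun x => hconjπ g hg x (u x) (hgu x)⟩)
    (fun r => by
      obtain ⟨g, hg, -, h4, -⟩ := hs.surj 0 r 0
      obtain ⟨u, hu⟩ := exists_conjAut (hs.normalizer hg)
      refine ⟨u, (mem_autInducedBy_iff S P u).2 ⟨g, hg, hu⟩, fun x => ?_⟩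
      rw [hconjπ g hg x (u x) (hu x), h4]) hnn
  refine ⟨f, fun w' hw' => ?_⟩
  have hdbl : ∀ a : K, a + a = 0 := fun a => by linear_combination a * h2
  refine ⟨fun c hc => ?_, ?_, ?_, ?_⟩
  · -- the torus
    obtain ⟨h, hh, hh1, hh2⟩ := hf1 c hc
    obtain ⟨β, hβ, hβe⟩ := exists_extension_top hPr hnormP (hG hh) hh2
    have hβP : ∀ (x : P), β ⟨x, hPS x.2⟩ = ⟨h x, hPS (h x).2⟩ := fun x =>
      Subtype.ext (hβe x x.2 (hPS x.2))
    have hσP : ∀ x : P, σ (h x : P) = c⁻¹ * σ x := fun x => congrArg Prod.fst (hh1 x)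
    have hwP : ∀ x : P, w' (h x : P) = c * w' x := by
      intro x
      have h3 : w (h x : P) = c * (w x - f (σ x)) + f (c⁻¹ * σ x) := congrArg Prod.snd (hh1 x)
      rw [hw' _ (h x).2, hw' _ x.2, h3, hσP]
      linear_combination (f (c⁻¹ * σ x) - c * f (σ x)) * h2
    refine ⟨β, hβ, fun x hx => ?_, fun x hx => ?_, fun x => ?_, fun g => ?_⟩
    · have h4 := hβP ⟨x, hZP hx⟩
      have h5 := hh.2 ⟨x, hZP hx⟩ hx
      rw [h5] at h4
      exact h4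
    · have h4 : β x = _ := hβP ⟨x, hx⟩
      rw [h4]
      exact hwP ⟨x, hx⟩
    · obtain ⟨l, hl, h3, h4, -⟩ := hs.surj (σ x) 0 0
      have hlP : l ∈ P := hs.memP.2 ⟨hl, h4⟩
      have hxl : x * (⟨l, hl⟩ : S)⁻¹ * ⟨l, hl⟩ = x := by group
      have h0 : σ ((x * (⟨l, hl⟩ : S)⁻¹ : S) : Ω) = 0 := by
        have h5 := hs.σ_mul (x * (⟨l, hl⟩ : S)⁻¹).2 hl
        have h6 : ((x * (⟨l, hl⟩ : S)⁻¹ : S) : Ω) * l = x := by
          show (x : Ω) * l⁻¹ * l = x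
          group
        rw [h6, h3] at h5
        exact left_eq_add.1 (by rw [add_comm]; exact h5)
      have h5 := hother β hβ _ h0
      have h7 : (β ⟨l, hl⟩ : S) = ⟨h ⟨l, hlP⟩, hPS (h ⟨l, hlP⟩).2⟩ := hβP ⟨l, hlP⟩
      have h8 : (β x : S) = β (x * (⟨l, hl⟩ : S)⁻¹) * β ⟨l, hl⟩ := by rw [← map_mul, hxl]
      rw [h8]
      show σ ((β (x * (⟨l, hl⟩ : S)⁻¹) : S) * (β ⟨l, hl⟩ : S) : Ω) = _
      rw [hs.σ_mul (β _).2 (β _).2, h5, h7, zero_add, ← h3]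
      exact hσP ⟨l, hlP⟩
    · obtain ⟨x, hx, h3, h4, -⟩ := hs.surj 1 0 0
      have hxP : x ∈ P := hs.memP.2 ⟨hx, h4⟩
      have hy : (g : Ω) * x * (g : Ω)⁻¹ ∈ P := hnormP g g.2 x hxP
      have h6 : ((h ⟨_, hy⟩ : P) : Ω) = (β g : S) * (h ⟨x, hxP⟩ : P) * ((β g : S) : Ω)⁻¹ := by
        have h7 : (β (g * ⟨x, hx⟩ * g⁻¹) : S) = β g * β ⟨x, hx⟩ * (β g)⁻¹ := by
          rw [map_mul, map_mul, map_inv]
        have h8 := congrArg Subtype.val h7
        have h9 : β ⟨x, hx⟩ = _ := hβP ⟨x, hxP⟩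
        have h10 : β (g * ⟨x, hx⟩ * g⁻¹) = _ := hβP ⟨_, hy⟩
        rw [h10, h9] at h8
        exact h8
      have h7 : w' ((h ⟨_, hy⟩ : P) : Ω) = w' (h ⟨x, hxP⟩ : P) + τ (β g : S) * σ (h ⟨x, hxP⟩ : P) := by
        rw [hw' _ (h ⟨_, hy⟩).2, h6, hs.w_conj (β g).2 (h ⟨x, hxP⟩).2,
          hs.σ_conj (β g).2 (hPS (h ⟨x, hxP⟩).2), hw' _ (h ⟨x, hxP⟩).2]
        ring
      rw [hwP, hwP, hσP] at h7
      have h8 : w' ((g : Ω) * x * (g : Ω)⁻¹) = w' x + τ g * σ x := by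
        rw [hw' _ hy, hs.w_conj g.2 hxP, hs.σ_conj g.2 hx, hw' _ hxP]
        ring
      have h9 : c * w' ((g : Ω) * x * (g : Ω)⁻¹) = c * w' x + τ (β g : S) * (c⁻¹ * σ x) := h7
      rw [h8, h3] at h9
      have h10 : c * τ g = τ (β g : S) * c⁻¹ := by linear_combination h9
      calc τ (β g : S) = (τ (β g : S) * c⁻¹) * c := by field_simp
        _ = c ^ 2 * τ g := by rw [← h10]; ring
  · -- the reflection
    obtain ⟨n, hn, hn1⟩ := hf2 1 one_ne_zero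
    refine ⟨n, hG hn, hn.2, fun x => ?_⟩
    have h3 : σ (n x : P) = (w x - f (σ x)) / 1 := congrArg Prod.fst (hn1 x)
    have h4 : w (n x : P) = f ((w x - f (σ x)) / 1) - 1 * σ x := congrArg Prod.snd (hn1 x)
    have h5 : σ (n x : P) = w' x := by
      rw [h3, hw' _ x.2, div_one]
      linear_combination (-f (σ x)) * h2
    refine ⟨h5, ?_⟩
    rw [hw' _ (n x).2, h4, ← h3]
    linear_combination (f (σ (n x : P)) - σ x) * h2
  · -- the spread
    intro α hα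
    obtain ⟨R, hR⟩ := exists_sylow_of_le hS hPa hG hTG
    set H : Subgroup (MulAut P) := (autInducedBy S P).map (MulAut.conj α).toMonoidHom with hH
    have hHG : H ≤ G := by
      rintro _ ⟨u, hu, rfl⟩
      exact hconjG α hα u hu
    have hHp : IsPGroup 2 H := (isPGroup_autInducedBy hS P).map _
    obtain ⟨R', hR'⟩ := (hHp.of_equiv (Subgroup.subgroupOfEquivOfLe hHG).symm).exists_le_sylow
    obtain ⟨g, hg⟩ := MulAction.exists_smul_eq G R R'
    set γ : MulAut P := g.1⁻¹ * α with hγdef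
    have hγ : ∀ u ∈ autInducedBy S P, γ * u * γ⁻¹ ∈ autInducedBy S P := by
      intro u hu
      have h3 : (⟨α * u * α⁻¹, hconjG α hα u hu⟩ : G) ∈ (R' : Subgroup G) := hR' ⟨u, hu, rfl⟩
      rw [← hg, Sylow.coe_subgroup_smul] at h3
      obtain ⟨v, hv, hve⟩ := Subgroup.mem_smul_pointwise_iff_exists _ _ _ |>.1 h3
      rw [hR] at hv
      have h4 : ((MulAut.conj g • v : G) : MulAut P) = α * u * α⁻¹ := congrArg Subtype.val hve
      have h5 : g.1 * v.1 * g.1⁻¹ = α * u * α⁻¹ := h4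
      have h6 : γ * u * γ⁻¹ = v.1 := by
        rw [hγdef]
        calc g.1⁻¹ * α * u * (g.1⁻¹ * α)⁻¹ = g.1⁻¹ * (α * u * α⁻¹) * g.1 := by group
          _ = v.1 := by rw [← h5]; group
      rw [h6]
      exact hv
    have hγ' : ∀ u ∈ autInducedBy S P, γ⁻¹ * u * γ ∈ autInducedBy S P := by
      have h1 : (autInducedBy S P).map (MulAut.conj γ).toMonoidHom = autInducedBy S P := by
        apply Subgroup.eq_of_le_of_card_ge
        · rintro _ ⟨x, hx, rfl⟩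
          exact hγ x hx
        · rw [Subgroup.card_map_of_injective (MulAut.conj γ).injective]
      intro u hu
      rw [← h1] at hu
      obtain ⟨v, hv, rfl⟩ := hu
      have h3 : γ⁻¹ * ((MulAut.conj γ).toMonoidHom v) * γ = v := by
        show γ⁻¹ * (γ * v * γ⁻¹) * γ = v
        group
      rw [h3]
      exact hv
    -- `γ` preserves `Z₂`
    have h3 : ∀ x : P, (x : Ω) ∈ Z2 → ((γ x : P) : Ω) ∈ Z2 := by
      intro x hx
      refine hs.cen (hPS (γ x).2) fun y hy => ?_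
      obtain ⟨u, hu⟩ := exists_conjAut (hs.normalizer hy)
      have hu' : u ∈ autInducedBy S P := (mem_autInducedBy_iff S P u).2 ⟨y, hy, hu⟩
      have h5 : u (γ x) = γ x := by
        obtain ⟨z, hz, hzu⟩ := (mem_autInducedBy_iff S P _).1 (hγ' u hu')
        have h6 : (γ⁻¹ * u * γ) x = x := by
          apply Subtype.ext
          rw [hzu, ← hs.comm hx hz, mul_inv_cancel_right]
        have h7 : γ ((γ⁻¹ * u * γ) x) = u (γ x) := by
          rw [MulAut.mul_apply, MulAut.mul_apply]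
          exact γ.apply_symm_apply _
        rw [← h7, h6]
      have h6 := hu (γ x)
      rw [h5] at h6
      calc ((γ x : P) : Ω) * y = (y * (γ x : P) * y⁻¹) * y := by rw [← h6]
        _ = y * (γ x : P) := by group
    have h4 : ∀ x : P, α x = g.1 (γ x) := by
      intro x
      rw [hγdef, MulAut.mul_apply]
      exact (g.1.apply_symm_apply _).symm
    rcases hf3 g.1 g.2 with h5 | ⟨r, h5⟩
    · left
      intro x hx
      rw [h4 x]
      have h6 : σ (γ x : P) = 0 := (hs.memZ2.1 (h3 x hx)).2.2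
      have h7 : σ (g.1 (γ x) : P) = 0 := h5 (γ x) h6
      exact hs.memZ2.2 ⟨hPS (g.1 (γ x)).2, (hs.memP.1 (g.1 (γ x)).2).2, h7⟩
    · right
      refine ⟨r, fun x hx => ?_⟩
      rw [h4 x]
      have h6 : σ (γ x : P) = 0 := (hs.memZ2.1 (h3 x hx)).2.2
      have h7 : w (g.1 (γ x) : P) = f (σ (g.1 (γ x) : P)) + r * σ (g.1 (γ x) : P) := h5 (γ x) h6
      rw [hw' _ (g.1 (γ x)).2, h7]
      linear_combination (f (σ (g.1 (γ x) : P))) * h2
  · -- the extensions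
    intro α hα h
    exact exists_extension_top hPr hnormP hα (hs.normalizes hS hPa hα h)

end

end Cfsg.Agent.H780
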