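import Cfsg.Agent.H780.SpBasic
import Cfsg.Agent.H454.AlperinGL3

/-!
# Data for saturated systems over a Sylow `2`-subgroup of `Sp₄(K)`, `|K| ∈ {2,4}` (helper780)
-/

set_option autoImplicit false

universe u v w

namespace Cfsg.Agent.H780

open Cfsg Cfsg.FusionSystem

variable {Ω : Type u} [Group Ω] {S : Subgroup Ω} {K : Type v} [Field K]

/-- The data which determine a saturated system `F` over `S` (with `Z₁ = {t=s=u=0}` invariant), `M = {t=0}`,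
`L₀ = C.L 0 = {s=0}`, `Z₂ = {t=s=0}`. -/
structure TwoData (F : FusionSystem S) (C : SpC S K) (Δ : Subgroup Kˣ) : Prop where
  autS : ∀ α ∈ F.autGroup S, ∃ a b : Kˣ, a ^ 2 * b ∈ Δ ∧ ∃ r₁ r₂ : K,
    (∀ x : S, C.t (α x : S) = a * C.t x ∧ C.s (α x : S) = b * C.s x ∧
      C.u (α x : S) = a * b * C.u x + r₁ * C.t x + r₂ * C.s x) ∧
    ∀ x : S, (x : Ω) ∈ C.Z1 → ((α x : S) : Ω) ∈ C.Z1 ∧ C.z (α x : S) = a ^ 2 * b * C.z x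
  exS : ∀ a b : Kˣ, a ^ 2 * b ∈ Δ → ∃ α ∈ F.autGroup S,
    (∀ x : S, C.t (α x : S) = a * C.t x ∧ C.s (α x : S) = b * C.s x ∧
      C.u (α x : S) = a * b * C.u x) ∧
    ∀ x : S, (x : Ω) ∈ C.Z1 → ((α x : S) : Ω) ∈ C.Z1 ∧ C.z (α x : S) = a ^ 2 * b * C.z x
  Z1M : ∀ α ∈ F.autGroup C.M, ∀ x : C.M, (x : Ω) ∈ C.Z1 → ((α x : C.M) : Ω) ∈ C.Z1
  Z1L : ∀ α ∈ F.autGroup (C.L 0), ∀ x : C.L 0, (x : Ω) ∈ C.Z1 → ((α x : C.L 0) : Ω) ∈ C.Z1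
  nM : ∃ n ∈ F.autGroup C.M, (∀ x : C.M, (x : Ω) ∈ C.Z1 → n x = x) ∧
    ∀ x : C.M, C.s (n x : C.M) = C.u x ∧ C.u (n x : C.M) = C.s x
  nL : ∃ n ∈ F.autGroup (C.L 0), (∀ x : C.L 0, (x : Ω) ∈ C.Z1 → n x = x) ∧
    ∀ x : C.L 0, C.t (n x : C.L 0) = C.u x ∧ C.u (n x : C.L 0) = C.t x
  spreadM : ∀ α ∈ F.autGroup C.M, (∀ x : C.M, (x : Ω) ∈ C.Z2 → ((α x : C.M) : Ω) ∈ C.Z2) ∨
    ∃ r : K, ∀ x : C.M, (x : Ω) ∈ C.Z2 → C.u (α x : C.M) = r * C.s (α x : C.M)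
  spreadL : ∀ α ∈ F.autGroup (C.L 0), (∀ x : C.L 0, (x : Ω) ∈ C.Z2 → ((α x : C.L 0) : Ω) ∈ C.Z2) ∨
    ∃ r : K, ∀ x : C.L 0, (x : Ω) ∈ C.Z2 → C.u (α x : C.L 0) = r * C.t (α x : C.L 0)
  extM : ∀ α ∈ F.autGroup C.M, (∀ x : C.M, (x : Ω) ∈ C.Z2 → ((α x : C.M) : Ω) ∈ C.Z2) →
    ∃ β ∈ F.autGroup S, ∀ (x : Ω) (hx : x ∈ C.M) (hx' : x ∈ S), ((β ⟨x, hx'⟩ : S) : Ω) = (α ⟨x, hx⟩ : C.M)
  extL : ∀ α ∈ F.autGroup (C.L 0), (∀ x : C.L 0, (x : Ω) ∈ C.Z2 → ((α x : C.L 0) : Ω) ∈ C.Z2) →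
    ∃ β ∈ F.autGroup S, ∀ (x : Ω) (hx : x ∈ C.L 0) (hx' : x ∈ S),
      ((β ⟨x, hx'⟩ : S) : Ω) = (α ⟨x, hx⟩ : C.L 0)

open Cfsg.Agent.H454.AlperinGL3 in
/-- An extension `E` of `GD Δ` by `Z₁` containing `S` over the unitriangular group, `e ∈ E` acting on `Z₁` as
`det⁻¹`. -/
structure ExtData (C : SpC S K) (Δ : Subgroup Kˣ) {E : Type w} [Group E] (ι : S →* E)
    (ρ : E →* GD Δ) : Prop where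
  inj : Function.Injective ι
  comp : ∀ x : S, ρ (ι x) = xx Δ (C.t x) (C.s x) (C.u x)
  surj : Function.Surjective ρ
  ker : ∀ e, ρ e = 1 → ∃ x : S, (x : Ω) ∈ C.Z1 ∧ e = ι x
  conj : ∀ (e : E) (x y : S), (x : Ω) ∈ C.Z1 → (y : Ω) ∈ C.Z1 →
    C.z y * ((Matrix.GeneralLinearGroup.det (ρ e).1 : Kˣ) : K) = C.z x → e * ι x * e⁻¹ = ι y

end Cfsg.Agent.H780
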