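import Cfsg.Agent.H780.SpShift
import Cfsg.Agent.H780.SpOdd
import Cfsg.Agent.H780.TwoDefs

/-!
# `p = 2`: the data of the system (helper780)
-/

set_option autoImplicit false
set_option linter.unusedSectionVars false

universe u v

namespace Cfsg.Agent.H780

open Cfsg Cfsg.FusionSystem Cfsg.Agent.H802

/-- Factorization of additive functions. -/
theorem exists_factor {X : Type*} [Group X] {V W : Type*} [AddGroup V] [AddGroup W] (ψ : X → V)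
    (hψ : ∀ x y, ψ (x * y) = ψ x + ψ y) (hs : Function.Surjective ψ) (φ : X → W)
    (hφ : ∀ x y, φ (x * y) = φ x + φ y) (h : ∀ x, ψ x = 0 → φ x = 0) :
    ∃ A : V →+ W, ∀ x, φ x = A (ψ x) := by
  have h1 : ψ 1 = 0 := by
    have := hψ 1 1
    rw [mul_one] at this
    simpa using this
  have h1' : φ 1 = 0 := h 1 h1
  have hinv : ∀ x, ψ x⁻¹ = - ψ x := by
    intro x
    have := hψ x⁻¹ x
    rw [inv_mul_cancel, h1] at this
    exact eq_neg_of_add_eq_zero_left this.symm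
  have hinv' : ∀ x, φ x⁻¹ = - φ x := by
    intro x
    have := hφ x⁻¹ x
    rw [inv_mul_cancel, h1'] at this
    exact eq_neg_of_add_eq_zero_left this.symm
  have key : ∀ x y, ψ x = ψ y → φ x = φ y := by
    intro x y hxy
    have h2 : ψ (x⁻¹ * y) = 0 := by rw [hψ, hinv, hxy, neg_add_cancel]
    have h3 := h _ h2
    rw [hφ, hinv'] at h3
    exact neg_add_eq_zero.1 h3
  let θ := Function.surjInv hs
  have hθ : ∀ v, ψ (θ v) = v := Function.surjInv_eq hs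
  refine ⟨{ toFun := fun v => φ (θ v)
            map_zero' := h _ (hθ 0)
            map_add' := fun v w => ?_ }, fun x => key _ _ (hθ _).symm⟩
  rw [← hφ]
  apply key
  rw [hψ, hθ, hθ, hθ]

variable {Ω : Type u} [Group Ω] {S : Subgroup Ω} {K : Type v} [Field K]

/-- Commutators of elements of `S` with elements of `M`. -/
theorem SpC.comm_uz [CharP K 2] (C : SpC S K) {g x : Ω} (hg : g ∈ S) (hx : x ∈ C.M) :
    C.u (x⁻¹ * (g * x * g⁻¹)) = C.t g * C.s x ∧ C.z (x⁻¹ * (g * x * g⁻¹)) = C.t g ^ 2 * C.s x := by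
  have h2 : (2 : K) = 0 := two_eq_zero
  have hxS := hx.1
  have hy : g * x * g⁻¹ ∈ S := S.mul_mem (S.mul_mem hg hxS) (S.inv_mem hg)
  constructor
  · rw [C.u_mul (S.inv_mem hxS) hy, C.u_inv hxS, C.u_conj hg hxS, C.t_inv hxS, hx.2]
    ring
  · rw [C.z_mul (S.inv_mem hxS) hy, C.z_inv hxS, C.z_conj hg hxS, C.t_inv hxS, hx.2, h2]
    ring

/-- The maps induced by an automorphism of `S` preserving `M`, `L₀` and `Z₁`. -/
theorem SpC.exists_maps [CharP K 2] [Finite S] (C : SpC S K) (α : MulAut S)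
    (hM : ∀ x : S, (x : Ω) ∈ C.M → ((α x : S) : Ω) ∈ C.M)
    (hL : ∀ x : S, (x : Ω) ∈ C.L 0 → ((α x : S) : Ω) ∈ C.L 0)
    (hZ : ∀ x : S, (x : Ω) ∈ C.Z1 → ((α x : S) : Ω) ∈ C.Z1) :
    ∃ (A B D : K →+ K) (Φ : K × K →+ K), (∀ x : S, C.t (α x : S) = A (C.t x)) ∧
      (∀ x : S, C.s (α x : S) = B (C.s x)) ∧ (∀ x : S, (x : Ω) ∈ C.Z2 → C.u (α x : S) = D (C.u x)) ∧
      (∀ x : S, (x : Ω) ∈ C.Z2 → C.z (α x : S) = Φ (C.u x, C.z x)) ∧
      (∀ a b, D (a * b) = A a * B b) ∧ (∀ a b, Φ (a * b, a ^ 2 * b) = A a ^ 2 * B b) := by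
  have h2 : (2 : K) = 0 := two_eq_zero
  have hZ2 : ∀ x : S, (x : Ω) ∈ C.Z2 → ((α x : S) : Ω) ∈ C.Z2 := fun x hx =>
    ⟨(α x).2, (hM x ⟨x.2, hx.2.1⟩).2, (C.mem_L0.1 (hL x (C.mem_L0.2 ⟨x.2, hx.2.2⟩))).2⟩
  obtain ⟨A, hA⟩ := exists_factor (fun x : S => C.t x) (fun x y => C.t_mul x.2 y.2)
    (fun a => by
      obtain ⟨x, hx, h, -⟩ := C.surj a 0 0 0
      exact ⟨⟨x, hx⟩, h⟩) (fun x : S => C.t (α x : S))
    (fun x y => by
      show C.t ((α (x * y) : S) : Ω) = _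
      rw [map_mul]
      exact C.t_mul (α x).2 (α y).2)
    (fun x hx => (hM x ⟨x.2, hx⟩).2)
  obtain ⟨B, hB⟩ := exists_factor (fun x : S => C.s x) (fun x y => C.s_mul x.2 y.2)
    (fun a => by
      obtain ⟨x, hx, -, h, -⟩ := C.surj 0 a 0 0
      exact ⟨⟨x, hx⟩, h⟩) (fun x : S => C.s (α x : S))
    (fun x y => by
      show C.s ((α (x * y) : S) : Ω) = _
      rw [map_mul]
      exact C.s_mul (α x).2 (α y).2)
    (fun x hx => (C.mem_L0.1 (hL x (C.mem_L0.2 ⟨x.2, hx⟩))).2)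
  have huZ : ∀ x ∈ C.Z2, ∀ y ∈ C.Z2, C.u (x * y) = C.u x + C.u y := by
    intro x hx y hy
    rw [C.u_mul hx.1 hy.1, hx.2.1]; ring
  have hzZ : ∀ x ∈ C.Z2, ∀ y ∈ C.Z2, C.z (x * y) = C.z x + C.z y := by
    intro x hx y hy
    rw [C.z_mul hx.1 hy.1, hx.2.1]; ring
  obtain ⟨D, hD⟩ := exists_factor (fun x : C.Z2 => C.u x) (fun x y => huZ x x.2 y y.2)
    (fun a => by
      obtain ⟨x, hx, h3, h4, h5, -⟩ := C.surj 0 0 a 0
      exact ⟨⟨x, hx, h3, h4⟩, h5⟩) (fun x : C.Z2 => C.u (α ⟨x, C.Z2_le x.2⟩ : S))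
    (fun x y => by
      show C.u ((α (⟨x, C.Z2_le x.2⟩ * ⟨y, C.Z2_le y.2⟩) : S) : Ω) = _
      rw [map_mul]
      exact huZ _ (hZ2 _ x.2) _ (hZ2 _ y.2))
    (fun x hx => (hZ ⟨x, C.Z2_le x.2⟩ ⟨x.2.1, x.2.2.1, x.2.2.2, hx⟩).2.2.2)
  obtain ⟨Φ, hΦ⟩ := exists_factor (fun x : C.Z2 => (C.u x, C.z x))
    (fun x y => Prod.ext (huZ x x.2 y y.2) (hzZ x x.2 y y.2))
    (fun a => by
      obtain ⟨x, hx, h3, h4, h5, h6⟩ := C.surj 0 0 a.1 a.2
      exact ⟨⟨x, hx, h3, h4⟩, Prod.ext h5 h6⟩) (fun x : C.Z2 => C.z (α ⟨x, C.Z2_le x.2⟩ : S))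
    (fun x y => by
      show C.z ((α (⟨x, C.Z2_le x.2⟩ * ⟨y, C.Z2_le y.2⟩) : S) : Ω) = _
      rw [map_mul]
      exact hzZ _ (hZ2 _ x.2) _ (hZ2 _ y.2))
    (fun x hx => by
      have h3 : (x : Ω) = 1 := by
        apply C.inj x.2.1 S.one_mem
        · rw [x.2.2.1, C.t_one]
        · rw [x.2.2.2, C.s_one]
        · rw [C.u_one]; exact congrArg Prod.fst hx
        · rw [C.z_one]; exact congrArg Prod.snd hx
      have h4 : (⟨x, C.Z2_le x.2⟩ : S) = 1 := Subtype.ext h3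
      show C.z ((α ⟨x, C.Z2_le x.2⟩ : S) : Ω) = 0
      rw [h4, map_one]
      exact C.z_one)
  have hcomm : ∀ a b, D (a * b) = A a * B b ∧ Φ (a * b, a ^ 2 * b) = A a ^ 2 * B b := by
    intro a b
    obtain ⟨g, hg, hg1, -⟩ := C.surj a 0 0 0
    obtain ⟨x, hx, hx1, hx2, -⟩ := C.surj 0 b 0 0
    have hxM : x ∈ C.M := ⟨hx, hx1⟩
    have h3 := C.comm_uz hg hxM
    have h4 := C.comm_uz (α ⟨g, hg⟩).2 (hM ⟨x, hx⟩ hxM)
    have h5 : ((α ((⟨x, hx⟩ : S)⁻¹ * (⟨g, hg⟩ * ⟨x, hx⟩ * (⟨g, hg⟩ : S)⁻¹)) : S) : Ω) =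
      ((α ⟨x, hx⟩ : S) : Ω)⁻¹ * ((α ⟨g, hg⟩ : S) * (α ⟨x, hx⟩ : S) * ((α ⟨g, hg⟩ : S) : Ω)⁻¹) := by
      rw [map_mul, map_mul, map_mul, map_inv, map_inv]
      rfl
    rw [← h5, hA ⟨g, hg⟩, hB ⟨x, hx⟩] at h4
    have h6 : x⁻¹ * (g * x * g⁻¹) ∈ C.Z2 := C.comm_mem_Z2 hg hx
    have h7 := hD ⟨_, h6⟩
    have h8 := hΦ ⟨_, h6⟩
    have h9 : C.u (x⁻¹ * (g * x * g⁻¹)) = a * b := by rw [h3.1, hg1, hx2]
    have h10 : C.z (x⁻¹ * (g * x * g⁻¹)) = a ^ 2 * b := by rw [h3.2, hg1, hx2]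
    have h11 : C.t ((⟨g, hg⟩ : S) : Ω) = a := hg1
    have h12 : C.s ((⟨x, hx⟩ : S) : Ω) = b := hx2
    rw [h11, h12] at h4
    refine ⟨?_, ?_⟩
    · rw [← h9]
      exact h7.symm.trans h4.1
    · rw [← h9, ← h10]
      exact h8.symm.trans h4.2
  exact ⟨A, B, D, Φ, hA, hB, fun x hx => hD ⟨x, hx⟩, fun x hx => hΦ ⟨x, hx⟩, fun a b => (hcomm a b).1,
    fun a b => (hcomm a b).2⟩

section alg

variable [CharP K 2]

/-- In the presence of the torus, the order of the field is at most four. -/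
theorem cube_of_phi {Φ : K × K →+ K} {c : K} (hc : c ≠ 0)
    (h1 : ∀ ζ, Φ (0, ζ) = ζ) (h2 : ∀ a b : K, Φ (a * b, a ^ 2 * b) = (c ^ 2 * a) ^ 2 * (c⁻¹ * b)) :
    c ^ 3 = 1 := by
  have h20 : (2 : K) = 0 := two_eq_zero
  by_cases hc1 : c = 1
  · rw [hc1, one_pow]
  have h3 := h2 1 1
  have h4 := h2 c c⁻¹
  have h5 : Φ ((1 * 1 : K), (1 ^ 2 * 1 : K)) + Φ (c * c⁻¹, c ^ 2 * c⁻¹) = Φ (0, 1 + c) := by
    rw [← map_add]
    congr 1
    ext
    · show (1 * 1 : K) + c * c⁻¹ = 0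
      rw [mul_inv_cancel₀ hc]; linear_combination h20
    · show (1 ^ 2 * 1 : K) + c ^ 2 * c⁻¹ = 1 + c
      field_simp
  rw [h1, h3, h4] at h5
  have h6 : c ^ 3 * (1 + c) = 1 + c := by
    have h7 : (c ^ 2 * 1) ^ 2 * (c⁻¹ * 1) + (c ^ 2 * c) ^ 2 * (c⁻¹ * c⁻¹) = c ^ 3 * (1 + c) := by
      field_simp
    rw [← h7]; exact h5
  have h8 : (1 + c) ≠ 0 := by
    intro h
    apply hc1
    linear_combination h - h20
  exact mul_right_cancel₀ h8 (by rw [h6, one_mul])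

/-- The additive maps are linear. -/
theorem linear_of_maps (hcube : ∀ c : K, c ≠ 0 → c ^ 3 = 1) {A B D : K →+ K} {Φ : K × K →+ K}
    (hAi : ∀ a, A a = 0 → a = 0) (hBi : ∀ a, B a = 0 → a = 0) (hE : ∀ a, Φ (0, a) = 0 → a = 0)
    (hD : ∀ a b, D (a * b) = A a * B b) (hΦ : ∀ a b, Φ (a * b, a ^ 2 * b) = A a ^ 2 * B b)
    (hodd : ∃ m : ℕ, ¬ 2 ∣ m ∧ ∀ a, A^[m] a = a) :
    A 1 ≠ 0 ∧ B 1 ≠ 0 ∧ (∀ a, A a = A 1 * a) ∧ (∀ b, B b = B 1 * b) ∧ (∀ a, D a = A 1 * B 1 * a) ∧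
      ∀ a, Φ (0, a) = A 1 ^ 2 * B 1 * a := by
  have h20 : (2 : K) = 0 := two_eq_zero
  have ha0 : A 1 ≠ 0 := fun h => one_ne_zero (hAi _ h)
  have hb0 : B 1 ≠ 0 := fun h => one_ne_zero (hBi _ h)
  -- the field automorphism
  have hDA : ∀ a, D a = A a * B 1 := fun a => by rw [← hD, mul_one]
  have hDB : ∀ a, D a = A 1 * B a := fun a => by rw [← hD, one_mul]
  have hB : ∀ a, B a = A a * B 1 / A 1 := fun a => by
    rw [← hDA, hDB, mul_div_cancel_left₀ _ ha0]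
  have hmulA : ∀ a b, A (a * b) * A 1 = A a * A b := by
    intro a b
    have h3 := hDA (a * b)
    rw [hD, hB b] at h3
    have h4 : A a * (A b * B 1 / A 1) = A a * A b / A 1 * B 1 := by ring
    rw [h4] at h3
    have h5 := mul_right_cancel₀ hb0 h3
    rw [← h5, div_mul_cancel₀ _ ha0]
  have hφ : ∀ a : K, A a = A 1 * a ∨ A a = A 1 * a ^ 2 := by
    intro a
    by_cases ha : a = 0
    · left; rw [ha, map_zero, mul_zero]
    by_cases ha1 : a = 1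
    · left; rw [ha1, mul_one]
    have h3 : a ^ 2 + a + 1 = 0 := by
      have h4 : (a - 1) * (a ^ 2 + a + 1) = 0 := by linear_combination hcube a ha
      exact (mul_eq_zero.1 h4).resolve_left (sub_ne_zero.2 ha1)
    have h5 : A a ^ 2 + A a * A 1 + A 1 ^ 2 = 0 := by
      have h6 := hmulA a a
      have h7 : A (a * a) + A a + A 1 = 0 := by
        rw [← map_add, ← map_add]
        have h8 : a * a + a + 1 = 0 := by linear_combination h3
        rw [h8, map_zero]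
      have h9 : A (a * a) * A 1 + A a * A 1 + A 1 * A 1 = 0 := by
        rw [← add_mul, ← add_mul, h7, zero_mul]
      rw [h6] at h9
      linear_combination h9
    have h6 : (A a - A 1 * a) * (A a - A 1 * a ^ 2) = 0 := by
      linear_combination h5 + (-A a * A 1) * h3 + A 1 ^ 2 * (hcube a ha)
    rcases mul_eq_zero.1 h6 with h7 | h7
    · exact Or.inl (sub_eq_zero.1 h7)
    · exact Or.inr (sub_eq_zero.1 h7)
  have hpow4 : ∀ a : K, a ^ 4 = a := by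
    intro a
    by_cases ha : a = 0
    · rw [ha]; ring
    · linear_combination a * hcube a ha
  -- the square of `A` is a scalar
  have hA2 : ∀ a, A (A a) = A (A 1) * a := by
    intro a
    have h3 : ∀ b, A b * A 1 = A 1 * A b := fun b => mul_comm _ _
    -- `A (c * b) = A c * A b / A 1`
    have h4 : A (A 1 * a) = A (A 1) * A a / A 1 := by
      rw [eq_div_iff ha0, hmulA]
    have h5 : A (A 1 * a ^ 2) = A (A 1) * A (a ^ 2) / A 1 := by
      rw [eq_div_iff ha0, hmulA]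
    have h6 : A (a ^ 2) = A a * A a / A 1 := by
      rw [eq_div_iff ha0, pow_two, hmulA]
    rcases hφ a with h | h
    · rw [h, h4, h]
      field_simp
    · rw [h, h5, h6, h]
      have h7 := hpow4 a
      have h8 : A (A 1) * (A 1 * a ^ 2 * (A 1 * a ^ 2) / A 1) / A 1 = A (A 1) * a ^ 4 := by
        field_simp
      rw [h8, h7]
  have hA2' : ∀ (k : ℕ) a, A^[2 * k] a = A (A 1) ^ k * a := by
    intro k
    induction k with
    | zero => intro a; simp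
    | succ k ih =>
      intro a
      have h3 : 2 * (k + 1) = 2 * k + 1 + 1 := by ring
      rw [h3, Function.iterate_succ_apply, Function.iterate_succ_apply, ih, hA2 a]
      ring
  have hA : ∀ a, A a = A 1 * a := by
    obtain ⟨m, hm, hmA⟩ := hodd
    obtain ⟨k, hk⟩ := Nat.odd_iff.2 (Nat.two_dvd_ne_zero.1 hm)
    have h3 : ∀ a, A (A 1) ^ k * A a = a := by
      intro a
      have h4 := hmA a
      rw [hk, Function.iterate_add_apply, Function.iterate_one, hA2'] at h4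
      exact h4
    intro a
    have h5 := h3 1
    have h6 := h3 a
    have h7 : A (A 1) ^ k ≠ 0 := by
      intro h
      rw [h, zero_mul] at h5
      exact zero_ne_one h5
    apply mul_left_cancel₀ h7
    rw [h6, ← mul_assoc, h5, one_mul]
  have hBlin : ∀ b, B b = B 1 * b := by
    intro b
    rw [hB, hA]
    field_simp
  refine ⟨ha0, hb0, hA, hBlin, fun a => by rw [hDA, hA]; ring, ?_⟩
  have hΦ' : ∀ a v, a ≠ 0 → Φ (v, a * v) = A 1 ^ 2 * B 1 * (a * v) := by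
    intro a v ha
    have h3 := hΦ a (v / a)
    have h4 : a * (v / a) = v := by field_simp
    have h5 : a ^ 2 * (v / a) = a * v := by field_simp
    rw [h4, h5, hA, hBlin] at h3
    rw [h3]
    field_simp
  by_cases hone : ∀ c : K, c ≠ 0 → c = 1
  · intro a
    rw [hone _ ha0, hone _ hb0]
    by_cases ha : a = 0
    · have h3 : ((0 : K), a) = 0 := by rw [ha]; rfl
      rw [h3, map_zero, ha]; ring
    · rw [hone _ (fun h => ha (hE a h)), hone a ha]; ring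
  · push Not at hone
    obtain ⟨c, hc, hc1⟩ := hone
    have h8 : (1 + c) ≠ 0 := by
      intro h
      apply hc1
      linear_combination h - h20
    intro a
    have h3 := hΦ' 1 (a / (1 + c)) one_ne_zero
    have h4 := hΦ' c (a / (1 + c)) hc
    have h5 : Φ (a / (1 + c), 1 * (a / (1 + c))) + Φ (a / (1 + c), c * (a / (1 + c))) = Φ (0, a) := by
      rw [← map_add]
      congr 1
      ext
      · show a / (1 + c) + a / (1 + c) = 0
        linear_combination (a / (1 + c)) * h20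
      · show 1 * (a / (1 + c)) + c * (a / (1 + c)) = a
        field_simp
    rw [← h5, h3, h4]
    field_simp

end alg

section main

variable [Finite K] [CharP K 2] [Finite S] (C : SpC S K) {F : FusionSystem S}

/-- `Z₁` is invariant under `Aut_F(S)`. -/
theorem SpC.Z1_inv_two (hS : IsPGroup 2 S) (hF : F.IsSaturated 2)
    (hZM : ∀ α ∈ F.autGroup C.M, ∀ x : C.M, (x : Ω) ∈ C.Z1 → ((α x : C.M) : Ω) ∈ C.Z1)
    {α : MulAut S} (hα : α ∈ F.autGroup S) (x : S) (hx : (x : Ω) ∈ C.Z1) :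
    ((α x : S) : Ω) ∈ C.Z1 := by
  obtain ⟨α', hα', h⟩ := exists_restrict C.M_le hα (C.inv_two two_eq_zero hS hF hα).1
  have hxM : (x : Ω) ∈ C.M := C.Z2_le_M (C.Z1_le_Z2 hx)
  have h1 := hZM α' hα' ⟨x, hxM⟩ hx
  rw [h] at h1
  exact h1

/-- The order of `K` is at most four. -/
theorem SpC.cube (hS : IsPGroup 2 S) (hF : F.IsSaturated 2)
    (sM : SideConc F C.M C.Z1 C.Z2 C.s C.t C.u) {c : K} (hc : c ≠ 0) : c ^ 3 = 1 := by
  obtain ⟨β, hβ, h1, -, h3, h4⟩ := sM.torus c hc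
  obtain ⟨A, B, D, Φ, hA, hB, hD, hΦ, h5, h6⟩ := C.exists_maps β (C.inv_two two_eq_zero hS hF hβ).1
    (C.inv_two two_eq_zero hS hF hβ).2 (fun x hx => by rw [h1 x hx]; exact hx)
  have hA' : ∀ a, A a = c ^ 2 * a := by
    intro a
    obtain ⟨x, hx, hx1, -⟩ := C.surj a 0 0 0
    have h7 := hA ⟨x, hx⟩
    rw [h4] at h7
    rw [show C.t ((⟨x, hx⟩ : S) : Ω) = a from hx1] at h7
    exact h7.symm
  have hB' : ∀ a, B a = c⁻¹ * a := by
    intro a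
    obtain ⟨x, hx, -, hx1, -⟩ := C.surj 0 a 0 0
    have h7 := hB ⟨x, hx⟩
    rw [h3] at h7
    rw [show C.s ((⟨x, hx⟩ : S) : Ω) = a from hx1] at h7
    exact h7.symm
  refine cube_of_phi hc (fun ζ => ?_) (fun a b => ?_) (Φ := Φ)
  · obtain ⟨x, hx, hx1, hx2, hx3, hx4⟩ := C.surj 0 0 0 ζ
    have h7 := hΦ ⟨x, hx⟩ ⟨hx, hx1, hx2⟩
    rw [h1 ⟨x, hx⟩ ⟨hx, hx1, hx2, hx3⟩] at h7
    have h8 : C.z x = Φ (C.u x, C.z x) := h7
    rw [hx3, hx4] at h8
    exact h8.symm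
  · rw [h6, hA', hB']

/-- The action of the elements of `Aut_F(S)` on the coordinates. -/
theorem SpC.aut_lin (hS : IsPGroup 2 S) (hF : F.IsSaturated 2)
    (hZM : ∀ α ∈ F.autGroup C.M, ∀ x : C.M, (x : Ω) ∈ C.Z1 → ((α x : C.M) : Ω) ∈ C.Z1)
    (hcube : ∀ c : K, c ≠ 0 → c ^ 3 = 1) {α : MulAut S} (hα : α ∈ F.autGroup S) :
    ∃ a b : Kˣ, (∀ x : S, C.t (α x : S) = a * C.t x) ∧ (∀ x : S, C.s (α x : S) = b * C.s x) ∧
      (∀ x : S, (x : Ω) ∈ C.Z2 → C.u (α x : S) = a * b * C.u x) ∧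
      ∀ x : S, (x : Ω) ∈ C.Z1 → C.z (α x : S) = a ^ 2 * b * C.z x := by
  have hinv := C.inv_two two_eq_zero hS hF hα
  have hinv' := C.inv_two two_eq_zero hS hF (Subgroup.inv_mem _ hα)
  have hZi : ∀ x : S, (x : Ω) ∈ C.Z1 → ((α x : S) : Ω) ∈ C.Z1 := C.Z1_inv_two hS hF hZM hα
  obtain ⟨A, B, D, Φ, hA, hB, hD, hΦ, h5, h6⟩ := C.exists_maps α hinv.1 hinv.2 hZi
  have hback : ∀ x : S, α⁻¹ (α x) = x := fun x => α.symm_apply_apply x
  obtain ⟨ha0, hb0, hAl, hBl, hDl, hΦl⟩ := linear_of_maps hcube (A := A) (B := B) (D := D) (Φ := Φ)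
    (fun a ha => by
      obtain ⟨x, hx, hx1, -⟩ := C.surj a 0 0 0
      have h7 := hA ⟨x, hx⟩
      rw [show C.t ((⟨x, hx⟩ : S) : Ω) = a from hx1, ha] at h7
      have h8 := hinv'.1 _ (⟨(α ⟨x, hx⟩).2, h7⟩ : ((α ⟨x, hx⟩ : S) : Ω) ∈ C.M)
      rw [hback] at h8
      rw [← hx1]; exact h8.2)
    (fun a ha => by
      obtain ⟨x, hx, -, hx1, -⟩ := C.surj 0 a 0 0
      have h7 := hB ⟨x, hx⟩
      rw [show C.s ((⟨x, hx⟩ : S) : Ω) = a from hx1, ha] at h7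
      have h8 := hinv'.2 _ (C.mem_L0.2 ⟨(α ⟨x, hx⟩).2, h7⟩ : ((α ⟨x, hx⟩ : S) : Ω) ∈ C.L 0)
      rw [hback, C.mem_L0] at h8
      rw [← hx1]; exact h8.2)
    (fun a ha => by
      obtain ⟨x, hx, hx1, hx2, hx3, hx4⟩ := C.surj 0 0 0 a
      have h7 := hΦ ⟨x, hx⟩ ⟨hx, hx1, hx2⟩
      rw [show C.u ((⟨x, hx⟩ : S) : Ω) = 0 from hx3, show C.z ((⟨x, hx⟩ : S) : Ω) = a from hx4,
        ha] at h7
      have h8 := hZi ⟨x, hx⟩ ⟨hx, hx1, hx2, hx3⟩
      have h9 : ((α ⟨x, hx⟩ : S) : Ω) = 1 := by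
        apply C.inj h8.1 S.one_mem
        · rw [h8.2.1, C.t_one]
        · rw [h8.2.2.1, C.s_one]
        · rw [h8.2.2.2, C.u_one]
        · rw [h7, C.z_one]
      have h10 : (⟨x, hx⟩ : S) = 1 := by
        apply α.injective
        rw [map_one]
        exact Subtype.ext h9
      have h11 : x = 1 := congrArg Subtype.val h10
      rw [← hx4, h11, C.z_one])
    h5 h6
    (by
      obtain ⟨m, hm, hmα⟩ := exists_pow_mem_autInducedBy hS hF hα
      refine ⟨m, hm, fun a => ?_⟩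
      obtain ⟨x, hx, hx1, -⟩ := C.surj a 0 0 0
      obtain ⟨g, hg, hgα⟩ := (mem_autInducedBy_iff S S _).1 hmα
      have h7 : ∀ (k : ℕ) (y : S), C.t ((α ^ k) y : S) = A^[k] (C.t y) := by
        intro k
        induction k with
        | zero => intro y; rfl
        | succ k ih =>
          intro y
          rw [pow_succ, MulAut.mul_apply, ih, hA, Function.iterate_succ_apply]
      have h8 := h7 m ⟨x, hx⟩
      rw [hgα, C.t_conj hg hx] at h8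
      rw [← hx1]
      exact h8.symm)
  refine ⟨Units.mk0 _ ha0, Units.mk0 _ hb0, fun x => ?_, fun x => ?_, fun x hx => ?_, fun x hx => ?_⟩
  · rw [hA, hAl]; rfl
  · rw [hB, hBl]; rfl
  · rw [hD x hx, hDl]; rfl
  · rw [hΦ x (C.Z1_le_Z2 hx), hx.2.2.2, hΦl]; rfl

/-- The full action of the elements of `Aut_F(S)`. -/
theorem SpC.aut_full (hS : IsPGroup 2 S) (hF : F.IsSaturated 2)
    (hZM : ∀ α ∈ F.autGroup C.M, ∀ x : C.M, (x : Ω) ∈ C.Z1 → ((α x : C.M) : Ω) ∈ C.Z1)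
    (hcube : ∀ c : K, c ≠ 0 → c ^ 3 = 1)
    (sM : SideConc F C.M C.Z1 C.Z2 C.s C.t C.u) (sL : SideConc F (C.L 0) C.Z1 C.Z2 C.t C.s C.u)
    {α : MulAut S} (hα : α ∈ F.autGroup S) :
    ∃ a b : Kˣ, ∃ r₁ r₂ : K,
      (∀ x : S, C.t (α x : S) = a * C.t x ∧ C.s (α x : S) = b * C.s x ∧
        C.u (α x : S) = a * b * C.u x + r₁ * C.t x + r₂ * C.s x) ∧
      ∀ x : S, (x : Ω) ∈ C.Z1 → ((α x : S) : Ω) ∈ C.Z1 ∧ C.z (α x : S) = a ^ 2 * b * C.z x := by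
  obtain ⟨a, b, h1, h2, h3, h4⟩ := C.aut_lin hS hF hZM hcube hα
  have hinv := C.inv_two two_eq_zero hS hF hα
  obtain ⟨Θ, hΘ⟩ := exists_factor (fun x : S => (C.t x, C.s x))
    (fun x y => Prod.ext (C.t_mul x.2 y.2) (C.s_mul x.2 y.2))
    (fun v => by
      obtain ⟨x, hx, hx1, hx2, -⟩ := C.surj v.1 v.2 0 0
      exact ⟨⟨x, hx⟩, Prod.ext hx1 hx2⟩)
    (fun x : S => C.u (α x : S) - a * b * C.u x)
    (fun x y => by
      show C.u ((α (x * y) : S) : Ω) - a * b * C.u ((x : Ω) * y) = _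
      rw [map_mul, C.u_mul x.2 y.2]
      show C.u (((α x : S) : Ω) * (α y : S)) - _ = _
      rw [C.u_mul (α x).2 (α y).2, h1, h2]
      ring)
    (fun x hx => by
      have h5 : C.t (x : Ω) = 0 := congrArg Prod.fst hx
      have h6 : C.s (x : Ω) = 0 := congrArg Prod.snd hx
      show C.u (α x : S) - a * b * C.u x = 0
      rw [h3 x ⟨x.2, h5, h6⟩, sub_self])
  have hu : ∀ x : S, C.u (α x : S) = a * b * C.u x + Θ (C.t x, 0) + Θ (0, C.s x) := by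
    intro x
    have h5 : C.u (α x : S) - a * b * C.u x = Θ (C.t x, C.s x) := hΘ x
    have h6 : ((C.t x, C.s x) : K × K) = (C.t x, 0) + (0, C.s x) := by ext <;> simp
    rw [h6, map_add] at h5
    linear_combination h5
  -- linearity of the two parts
  obtain ⟨r₂, hr₂⟩ : ∃ r₂ : K, ∀ v, Θ (0, v) = r₂ * v := by
    obtain ⟨n, hn, -, hn2⟩ := sM.n
    obtain ⟨α', hα', hα'e⟩ := exists_restrict C.M_le hα hinv.1
    have key : ∀ x : C.M, (x : Ω) ∈ C.Z2 → C.s ((α' * n) x : C.M) = b * C.u x ∧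
        C.u ((α' * n) x : C.M) = Θ (0, C.u x) := by
      intro x hx
      have h5 := hn2 x
      have h6 := (n x).2.2
      rw [MulAut.mul_apply, hα'e]
      refine ⟨?_, ?_⟩
      · rw [h2]
        show b * C.s ((n x : C.M) : Ω) = _
        rw [h5.1]
      · rw [hu]
        show a * b * C.u ((n x : C.M) : Ω) + Θ (C.t ((n x : C.M) : Ω), 0) + Θ (0, C.s ((n x : C.M) : Ω)) = _
        rw [h5.1, h5.2, h6, hx.2.2]
        have h7 : ((0 : K), (0 : K)) = 0 := rfl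
        rw [h7, map_zero]
        ring
    have hex : ∀ v : K, ∃ x : C.M, (x : Ω) ∈ C.Z2 ∧ C.u x = v := by
      intro v
      obtain ⟨x, hx, hx1, hx2, hx3, -⟩ := C.surj 0 0 v 0
      exact ⟨⟨x, hx, hx1⟩, ⟨hx, hx1, hx2⟩, hx3⟩
    rcases sM.spread (α' * n) (Subgroup.mul_mem _ hα' hn) with h | ⟨r, h⟩
    · exfalso
      obtain ⟨x, hx, hx1⟩ := hex 1
      have h5 := (key x hx).1
      rw [(h x hx).2.2, hx1, mul_one] at h5
      exact b.ne_zero h5.symm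
    · refine ⟨r * b, fun v => ?_⟩
      obtain ⟨x, hx, hx1⟩ := hex v
      have h5 := h x hx
      rw [(key x hx).1, (key x hx).2, hx1] at h5
      rw [h5]; ring
  obtain ⟨r₁, hr₁⟩ : ∃ r₁ : K, ∀ v, Θ (v, 0) = r₁ * v := by
    obtain ⟨n, hn, -, hn2⟩ := sL.n
    obtain ⟨α', hα', hα'e⟩ := exists_restrict (C.L_le 0) hα hinv.2
    have key : ∀ x : C.L 0, (x : Ω) ∈ C.Z2 → C.t ((α' * n) x : C.L 0) = a * C.u x ∧
        C.u ((α' * n) x : C.L 0) = Θ (C.u x, 0) := by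
      intro x hx
      have h5 := hn2 x
      have h6 := (C.mem_L0.1 (n x).2).2
      rw [MulAut.mul_apply, hα'e]
      refine ⟨?_, ?_⟩
      · rw [h1]
        show a * C.t ((n x : C.L 0) : Ω) = _
        rw [h5.1]
      · rw [hu]
        show a * b * C.u ((n x : C.L 0) : Ω) + Θ (C.t ((n x : C.L 0) : Ω), 0) +
          Θ (0, C.s ((n x : C.L 0) : Ω)) = _
        rw [h5.1, h5.2, h6, hx.2.1]
        have h7 : ((0 : K), (0 : K)) = 0 := rfl
        rw [h7, map_zero]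
        ring
    have hex : ∀ v : K, ∃ x : C.L 0, (x : Ω) ∈ C.Z2 ∧ C.u x = v := by
      intro v
      obtain ⟨x, hx, hx1, hx2, hx3, -⟩ := C.surj 0 0 v 0
      exact ⟨⟨x, C.mem_L0.2 ⟨hx, hx2⟩⟩, ⟨hx, hx1, hx2⟩, hx3⟩
    rcases sL.spread (α' * n) (Subgroup.mul_mem _ hα' hn) with h | ⟨r, h⟩
    · exfalso
      obtain ⟨x, hx, hx1⟩ := hex 1
      have h5 := (key x hx).1
      rw [(h x hx).2.1, hx1, mul_one] at h5
      exact a.ne_zero h5.symm
    · refine ⟨r * a, fun v => ?_⟩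
      obtain ⟨x, hx, hx1⟩ := hex v
      have h5 := h x hx
      rw [(key x hx).1, (key x hx).2, hx1] at h5
      rw [h5]; ring
  refine ⟨a, b, r₁, r₂, fun x => ⟨h1 x, h2 x, ?_⟩, fun x hx => ⟨C.Z1_inv_two hS hF hZM hα x hx, h4 x hx⟩⟩
  rw [hu, hr₁, hr₂]

include C in
/-- **The data of the system.** -/
theorem SpC.exists_twoData (hS : IsPGroup 2 S) (hF : F.IsSaturated 2) (hcore : F.core ≠ ⊥)
    (hnc : ¬ ∃ Q : Subgroup Ω, F.IsNormal Q ∧ F.IsCentric Q) :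
    ∃ (C : SpC S K) (Δ : Subgroup Kˣ), (∀ c : K, c ≠ 0 → c ^ 3 = 1) ∧ F.IsEssential 2 C.M ∧
      F.IsEssential 2 (C.L 0) ∧ TwoData F C Δ := by
  have h20 : (2 : K) = 0 := two_eq_zero
  obtain ⟨C, hM, hL, hZM, hZL, sM, sL⟩ := C.exists_sides hS hF hcore hnc
  have hcube : ∀ c : K, c ≠ 0 → c ^ 3 = 1 := fun c hc => C.cube hS hF sM hc
  have hZS : ∀ α ∈ F.autGroup S, ∀ x : S, (x : Ω) ∈ C.Z1 → ((α x : S) : Ω) ∈ C.Z1 :=
    fun α hα x hx => C.Z1_inv_two hS hF hZM hα x hx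
  -- an element of `Z₁` with `z = 1`
  obtain ⟨x₀, hx₀, hx₁, hx₂, hx₃, hx₄⟩ := C.surj 0 0 0 1
  have hxZ : x₀ ∈ C.Z1 := ⟨hx₀, hx₁, hx₂, hx₃⟩
  let Δ : Subgroup Kˣ :=
    { carrier := {δ | ∃ α ∈ F.autGroup S, ∀ x : S, (x : Ω) ∈ C.Z1 → C.z (α x : S) = δ * C.z x}
      one_mem' := ⟨1, Subgroup.one_mem _, fun x _ => by rw [MulAut.one_apply, Units.val_one, one_mul]⟩
      mul_mem' := by
        rintro δ ε ⟨α, hα, h1⟩ ⟨β, hβ, h2⟩
        refine ⟨α * β, Subgroup.mul_mem _ hα hβ, fun x hx => ?_⟩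
        rw [MulAut.mul_apply, h1 _ (hZS β hβ x hx), h2 x hx, Units.val_mul]
        ring
      inv_mem' := by
        rintro δ ⟨α, hα, h1⟩
        refine ⟨α⁻¹, Subgroup.inv_mem _ hα, fun x hx => ?_⟩
        have h2 := h1 _ (hZS α⁻¹ (Subgroup.inv_mem _ hα) x hx)
        have h3 : α (α⁻¹ x) = x := α.apply_symm_apply x
        rw [h3] at h2
        rw [h2, Units.inv_mul_cancel_left] }
  have hautS : ∀ α ∈ F.autGroup S, ∃ a b : Kˣ, a ^ 2 * b ∈ Δ ∧ ∃ r₁ r₂ : K,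
      (∀ x : S, C.t (α x : S) = a * C.t x ∧ C.s (α x : S) = b * C.s x ∧
        C.u (α x : S) = a * b * C.u x + r₁ * C.t x + r₂ * C.s x) ∧
      ∀ x : S, (x : Ω) ∈ C.Z1 → ((α x : S) : Ω) ∈ C.Z1 ∧ C.z (α x : S) = a ^ 2 * b * C.z x := by
    intro α hα
    obtain ⟨a, b, r₁, r₂, h1, h2⟩ := C.aut_full hS hF hZM hcube sM sL hα
    exact ⟨a, b, ⟨α, hα, fun x hx => by rw [(h2 x hx).2]; push_cast; rfl⟩, r₁, r₂, h1, h2⟩
  refine ⟨C, Δ, hcube, hM, hL, hautS, ?_, hZM, hZL, sM.n, sL.n, sM.spread, sL.spread, sM.ext, sL.ext⟩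
  rintro a b ⟨α₀, hα₀, h1⟩
  obtain ⟨a₀, b₀, -, r₁, r₂, h2, h3⟩ := hautS α₀ hα₀
  have h4 : (a₀ : K) ^ 2 * b₀ = a ^ 2 * b := by
    have h5 := h1 ⟨x₀, hx₀⟩ hxZ
    rw [(h3 ⟨x₀, hx₀⟩ hxZ).2] at h5
    have h6 : C.z ((⟨x₀, hx₀⟩ : S) : Ω) = 1 := hx₄
    rw [h6, mul_one, mul_one] at h5
    rw [h5]
    push_cast
    rfl
  -- composition with the torus of `M`
  have he : ((a / a₀ : Kˣ) : K)⁻¹ ≠ 0 := inv_ne_zero (Units.ne_zero _)
  obtain ⟨β, hβ, h5, -, h6, h7⟩ := sM.torus _ he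
  set e : K := ((a / a₀ : Kˣ) : K) with hedef
  have he0 : e ≠ 0 := Units.ne_zero _
  have hea : e * a₀ = a := by
    rw [hedef, ← Units.val_mul, div_mul_cancel]
  have he3 : e ^ 3 = 1 := hcube e he0
  have heb : e * b₀ = b := by
    have h8 : (b : K) = e⁻¹ ^ 2 * b₀ := by
      have h9 : (a : K) ^ 2 * b = a ^ 2 * (e⁻¹ ^ 2 * b₀) := by
        rw [← h4, ← hea]
        field_simp
      exact mul_left_cancel₀ (pow_ne_zero 2 a.ne_zero) h9
    rw [h8]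
    field_simp
    linear_combination he3
  obtain ⟨a', b', -, ρ₁, ρ₂, h8, h9⟩ := hautS (β * α₀) (Subgroup.mul_mem _ hβ hα₀)
  have ht : ∀ x : S, C.t ((β * α₀) x : S) = a * C.t x := by
    intro x
    rw [MulAut.mul_apply, h7, (h2 x).1, ← hea]
    have h10 : (e⁻¹) ^ 2 = e := by
      field_simp
      linear_combination -he3
    rw [h10]; ring
  have hs : ∀ x : S, C.s ((β * α₀) x : S) = b * C.s x := by
    intro x
    rw [MulAut.mul_apply, h6, (h2 x).2.1, ← heb, inv_inv]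
    ring
  have haa : (a' : K) = a := by
    obtain ⟨x, hx, hx1, -⟩ := C.surj 1 0 0 0
    have h10 := (h8 ⟨x, hx⟩).1
    rw [ht] at h10
    have h11 : C.t ((⟨x, hx⟩ : S) : Ω) = 1 := hx1
    rw [h11, mul_one, mul_one] at h10
    exact h10.symm
  have hbb : (b' : K) = b := by
    obtain ⟨x, hx, -, hx1, -⟩ := C.surj 0 1 0 0
    have h10 := (h8 ⟨x, hx⟩).2.1
    rw [hs] at h10
    have h11 : C.s ((⟨x, hx⟩ : S) : Ω) = 1 := hx1
    rw [h11, mul_one, mul_one] at h10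
    exact h10.symm
  -- correction by an inner automorphism
  obtain ⟨g, hg, hg1, hg2, -⟩ := C.surj (ρ₂ / b) (ρ₁ / a) 0 0
  obtain ⟨τ, hτ⟩ := exists_conjAut (P := S) (g := g) (Subgroup.le_normalizer hg)
  have hτF : τ ∈ F.autGroup S :=
    autInducedBy_le_autGroup F le_rfl ((mem_autInducedBy_iff S S τ).2 ⟨g, hg, hτ⟩)
  refine ⟨τ * (β * α₀), Subgroup.mul_mem _ hτF (Subgroup.mul_mem _ hβ hα₀), fun x => ?_, fun x hx => ?_⟩
  · rw [MulAut.mul_apply, hτ, C.t_conj hg ((β * α₀) x).2, C.s_conj hg ((β * α₀) x).2,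
      C.u_conj hg ((β * α₀) x).2, ht, hs, (h8 x).2.2, haa, hbb, hg1, hg2]
    refine ⟨rfl, rfl, ?_⟩
    have hane : (a : K) ≠ 0 := a.ne_zero
    have hbne : (b : K) ≠ 0 := b.ne_zero
    field_simp
    linear_combination (ρ₂ * C.s x) * h20
  · have h11 := h9 x hx
    rw [haa, hbb] at h11
    have h12 : (((τ * (β * α₀)) x : S) : Ω) = ((β * α₀) x : S) := by
      rw [MulAut.mul_apply, hτ, ← C.Z1_comm h11.1 hg, mul_inv_cancel_right]
    rw [h12]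
    exact h11

end main

end Cfsg.Agent.H780
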