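import Cfsg.Agent.H541.TwoLem

/-!
# `two_lemma` of helper541 with the additional conclusion that `Q` is contained in the
invariant subgroup (helper780; the proof is helper541's)
-/

set_option autoImplicit false
set_option linter.unusedSectionVars false

namespace Cfsg.Agent.H780

open Cfsg.Agent.H541.TwoLem

variable {K : Type*} [Field K] [Finite K] [CharP K 2] {G : Type*} [Group G] [Finite G]
  (ρ : G →* Equiv.Perm (K × K × K)) (hρ : Function.Injective ρ)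
  (hadd : ∀ g v w, ρ g (v + w) = ρ g v + ρ g w) (P : Sylow 2 G)
  (hP1 : ∀ g ∈ P, ∃ t : K, ρ g = phi t) (hP2 : ∀ t : K, ∃ g ∈ P, ρ g = phi t)

include hρ hadd hP1 hP2 in
/-- **Task S5260-F.** -/
theorem two_lemma' (Q : AddSubgroup (K × K × K)) (hQ : Q ≠ ⊥) (hQZ : ∀ v ∈ Q, v.1 = 0)
    (hQG : ∀ g, ∀ v ∈ Q, ρ g v ∈ Q) (hnn : ∃ g u z, (ρ g (0, u, z)).1 ≠ 0) :
    ((∀ g z, ∃ z', ρ g (0, 0, z) = (0, 0, z')) ∧ ∀ v ∈ Q, v.2.1 = 0) ∨
      ((∀ g u, ∃ u', ρ g (0, u, 0) = (0, u', 0)) ∧ ∀ v ∈ Q, v.2.2 = 0) := by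
  obtain ⟨g₀, u₀, z₀, h₀⟩ := hnn
  have hne₀ : WW ρ hadd g₀⁻¹ ≠ WW ρ hadd 1 := by
    intro h
    apply h₀
    have h1 : ((0 : K), u₀, z₀) ∈ WW ρ hadd 1 := (mem_WW_one ρ hadd).2 rfl
    rw [← h, mem_WW, inv_inv] at h1
    exact h1
  let S : Set G := {g | WW ρ hadd g ≠ WW ρ hadd 1}
  obtain ⟨g₁, hg₁, hmax⟩ := Set.exists_max_image S
    (fun g => Nat.card (WW ρ hadd 1 ⊓ WW ρ hadd g : AddSubgroup (K × K × K))) (Set.toFinite S) ⟨_, hne₀⟩
  have hq : 0 < Nat.card K := Nat.card_pos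
  -- every `g Z ≠ Z` contains a vector outside `Z`
  have hout : ∀ g, WW ρ hadd g ≠ WW ρ hadd 1 → ∃ e ∈ WW ρ hadd g, e.1 ≠ 0 := by
    intro g hg
    by_contra hcon
    push Not at hcon
    apply hg
    refine AddSubgroup.eq_of_le_of_card_ge (fun v hv => (mem_WW_one ρ hadd).2 (hcon v hv)) ?_
    rw [card_WW, card_WW]
  -- the maximal order is `q`
  have hle₁ : Nat.card (WW ρ hadd 1 ⊓ WW ρ hadd g₁ : AddSubgroup (K × K × K)) ≤ Nat.card K := by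
    obtain ⟨e, he, he1⟩ := hout g₁ hg₁
    have h1 := Cfsg.Agent.H263.FF.Basic.card_sup_inf (WW ρ hadd 1 ⊓ WW ρ hadd g₁) (RR e.1)
    have h2 : (WW ρ hadd 1 ⊓ WW ρ hadd g₁) ⊓ RR e.1 = ⊥ := by
      rw [eq_bot_iff]
      intro v hv
      obtain ⟨hv1, hv2⟩ := AddSubgroup.mem_inf.1 hv
      exact AddSubgroup.mem_bot.2 (inf_RR ρ hρ hadd P hP1 hP2 hg₁ (fun h hh => hmax h hh) he he1 hv1 hv2)
    have h3 : Nat.card ((WW ρ hadd 1 ⊓ WW ρ hadd g₁) ⊔ RR e.1 : AddSubgroup (K × K × K)) ≤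
        Nat.card K * Nat.card K := by
      rw [← card_WW ρ hadd 1]
      refine Cfsg.Agent.H263.FF.Basic.card_le (sup_le inf_le_left fun v hv => ?_)
      exact (mem_WW_one ρ hadd).2 hv.1
    rw [h2, AddSubgroup.card_bot, mul_one, card_RR he1] at h1
    rw [h1] at h3
    exact Nat.le_of_mul_le_mul_right h3 hq
  have hcard : ∀ g, WW ρ hadd g ≠ WW ρ hadd 1 →
      Nat.card (WW ρ hadd 1 ⊓ WW ρ hadd g : AddSubgroup (K × K × K)) = Nat.card K := fun g hg =>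
    le_antisymm ((hmax g hg).trans hle₁) (card_inf_ge ρ hadd g)
  -- each of the intersections is `K_u` or `K_z`
  have hD : ∀ g, WW ρ hadd g ≠ WW ρ hadd 1 →
      WW ρ hadd 1 ⊓ WW ρ hadd g = KU K ∨ WW ρ hadd 1 ⊓ WW ρ hadd g = KZ K := by
    intro g hg
    refine eq_KU_or (fun v hv => (mem_WW_one ρ hadd).1 (AddSubgroup.mem_inf.1 hv).1) (hcard g hg) ?_
    intro v hv
    by_contra hcon
    push Not at hcon
    obtain ⟨hx, hy⟩ := hcon
    -- the sum is everything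
    have h1 := Cfsg.Agent.H263.FF.Basic.card_sup_inf (WW ρ hadd 1) (WW ρ hadd g)
    rw [card_WW, card_WW, hcard g hg] at h1
    have h2 : (WW ρ hadd 1 ⊔ WW ρ hadd g : AddSubgroup (K × K × K)) = ⊤ := by
      apply AddSubgroup.eq_top_of_card_eq
      rw [card_all]
      have h3 : Nat.card (WW ρ hadd 1 ⊔ WW ρ hadd g : AddSubgroup (K × K × K)) * Nat.card K =
          Nat.card K * (Nat.card K * Nat.card K) * Nat.card K := by rw [h1]; ring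
      exact Nat.eq_of_mul_eq_mul_right hq h3
    have h4 : ((v.2.1 ^ 2 / v.2.2 : K), (0 : K), (0 : K)) ∈ (WW ρ hadd 1 ⊔ WW ρ hadd g : AddSubgroup (K × K × K)) := by
      rw [h2]; exact AddSubgroup.mem_top _
    obtain ⟨a, ha, e, he, hae⟩ := AddSubgroup.mem_sup.1 h4
    have ha1 : a.1 = 0 := (mem_WW_one ρ hadd).1 ha
    have he1 : e.1 = v.2.1 ^ 2 / v.2.2 := by
      have h5 : a.1 + e.1 = v.2.1 ^ 2 / v.2.2 := congrArg Prod.fst hae
      rwa [ha1, zero_add] at h5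
    have he0 : e.1 ≠ 0 := by
      rw [he1]; exact div_ne_zero (pow_ne_zero 2 hx) hy
    have hmax' : ∀ h : G, WW ρ hadd h ≠ WW ρ hadd 1 →
        Nat.card (WW ρ hadd 1 ⊓ WW ρ hadd h : AddSubgroup (K × K × K)) ≤
          Nat.card (WW ρ hadd 1 ⊓ WW ρ hadd g : AddSubgroup (K × K × K)) := by
      intro h hh
      rw [hcard g hg, hcard h hh]
    have h6 := inf_RR ρ hρ hadd P hP1 hP2 hg hmax' he he0 hv
      ⟨(mem_WW_one ρ hadd).1 (AddSubgroup.mem_inf.1 hv).1, by rw [he1]; field_simp⟩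
    rw [h6] at hx
    exact hx rfl
  -- a non-zero vector of `Q`
  obtain ⟨w, hw, hw0⟩ : ∃ w ∈ Q, w ≠ 0 := by
    obtain ⟨a, ha⟩ := AddSubgroup.ne_bot_iff_exists_ne_zero.1 hQ
    exact ⟨a.1, a.2, fun h => ha (Subtype.ext h)⟩
  have hwall : ∀ g, w ∈ WW ρ hadd g := fun g => hQZ _ (hQG g⁻¹ w hw)
  -- the intersection is the same for all `g`
  have hinv : ∀ U : AddSubgroup (K × K × K), (∀ g, WW ρ hadd g ≠ WW ρ hadd 1 → WW ρ hadd 1 ⊓ WW ρ hadd g = U) →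
      ∀ g, ∀ v ∈ U, ρ g v ∈ U := by
    intro U hU g v hv
    have hUle : ∀ h, U ≤ WW ρ hadd h := by
      intro h
      by_cases hh : WW ρ hadd h = WW ρ hadd 1
      · rw [hh, ← hU g₁ hg₁]; exact inf_le_left
      · rw [← hU h hh]; exact inf_le_right
    have h1 : ∀ h, ρ g v ∈ WW ρ hadd h := by
      intro h
      have h2 : h = g * (g⁻¹ * h) := by group
      rw [h2, apply_mem_WW]
      exact hUle _ hv
    rw [← hU g₁ hg₁]
    exact AddSubgroup.mem_inf.2 ⟨h1 1, h1 g₁⟩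
  have hdisj : ¬ (w ∈ KU K ∧ w ∈ KZ K) := by
    rintro ⟨⟨h1, h2⟩, ⟨-, h3⟩⟩
    apply hw0
    exact Prod.ext h1 (Prod.ext h3 h2)
  rcases hD g₁ hg₁ with h1 | h1
  · right
    have hwU : w ∈ KU K := by rw [← h1]; exact AddSubgroup.mem_inf.2 ⟨hwall 1, hwall g₁⟩
    have hU : ∀ g, WW ρ hadd g ≠ WW ρ hadd 1 → WW ρ hadd 1 ⊓ WW ρ hadd g = KU K := by
      intro g hg
      rcases hD g hg with h2 | h2
      · exact h2
      · exact absurd ⟨hwU, by rw [← h2]; exact AddSubgroup.mem_inf.2 ⟨hwall 1, hwall g⟩⟩ hdisj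
    refine ⟨fun g u => ?_, fun v hv => ?_⟩
    · obtain ⟨h3, h4⟩ := hinv _ hU g (0, u, 0) ⟨rfl, rfl⟩
      exact ⟨(ρ g (0, u, 0)).2.1, Prod.ext h3 (Prod.ext rfl h4)⟩
    · have h5 : v ∈ KU K := by
        rw [← h1]; exact AddSubgroup.mem_inf.2 ⟨hQZ _ (hQG _ v hv), hQZ _ (hQG _ v hv)⟩
      exact h5.2
  · left
    have hwU : w ∈ KZ K := by rw [← h1]; exact AddSubgroup.mem_inf.2 ⟨hwall 1, hwall g₁⟩
    have hU : ∀ g, WW ρ hadd g ≠ WW ρ hadd 1 → WW ρ hadd 1 ⊓ WW ρ hadd g = KZ K := by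
      intro g hg
      rcases hD g hg with h2 | h2
      · exact absurd ⟨by rw [← h2]; exact AddSubgroup.mem_inf.2 ⟨hwall 1, hwall g⟩, hwU⟩ hdisj
      · exact h2
    refine ⟨fun g z => ?_, fun v hv => ?_⟩
    · obtain ⟨h3, h4⟩ := hinv _ hU g (0, 0, z) ⟨rfl, rfl⟩
      exact ⟨(ρ g (0, 0, z)).2.2, Prod.ext h3 (Prod.ext h4 rfl)⟩
    · have h5 : v ∈ KZ K := by
        rw [← h1]; exact AddSubgroup.mem_inf.2 ⟨hQZ _ (hQG _ v hv), hQZ _ (hQG _ v hv)⟩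
      exact h5.2


end Cfsg.Agent.H780
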