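import Cfsg.Agent.H780.SpTwo
import Cfsg.Agent.H780.SpProps
import Cfsg.Agent.H780.TwoLemQ

/-!
# `p = 2`: the invariant subgroup `U` and the change of coordinates (helper780)
-/

set_option autoImplicit false

universe u v

namespace Cfsg.Agent.H780

open Cfsg Cfsg.FusionSystem Cfsg.Agent.H802

variable {Ω : Type u} [Group Ω] {S : Subgroup Ω} {K : Type v} [Field K]

theorem two_eq_zero [CharP K 2] : (2 : K) = 0 := by
  have := CharP.cast_eq_zero K 2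
  simpa using this

theorem sq_inj [CharP K 2] {a b : K} (h : a ^ 2 = b ^ 2) : a = b := by
  have h2 : (2 : K) = 0 := two_eq_zero
  have h3 : (a - b) ^ 2 = 0 := by
    linear_combination h + (b ^ 2 - a * b) * h2
  exact sub_eq_zero.1 (pow_eq_zero_iff (two_ne_zero)|>.1 h3)

theorem sq_surj [Finite K] [CharP K 2] (a : K) : ∃ b : K, b ^ 2 = a := by
  have h : Function.Injective (fun b : K => b ^ 2) := fun a b h => sq_inj h
  exact Finite.surjective_of_injective h a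

/-- The other coordinates for `p = 2`, exchanging `M` and `L₀`. -/
def SpC.swap [Finite K] [CharP K 2] (C : SpC S K) : SpC S K where
  t x := C.s x
  s x := C.t x ^ 2
  u x := C.z x + C.t x ^ 2 * C.s x
  z x := (C.u x + C.t x * C.s x) ^ 2
  t_mul := fun hx hy => C.s_mul hx hy
  s_mul := fun {x y} hx hy => by
    rw [C.t_mul hx hy]
    linear_combination (C.t x * C.t y) * (two_eq_zero : (2 : K) = 0)
  u_mul := fun {x y} hx hy => by
    rw [C.z_mul hx hy, C.t_mul hx hy, C.s_mul hx hy]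
    linear_combination (C.t x * C.u y + C.t x ^ 2 * C.s y + C.t x * C.t y * (C.s x + C.s y)) *
      (two_eq_zero : (2 : K) = 0)
  z_mul := fun {x y} hx hy => by
    rw [C.u_mul hx hy, C.t_mul hx hy, C.s_mul hx hy]
    have h2 : (2 : K) = 0 := two_eq_zero
    have h3 : C.u x + C.u y + C.t x * C.s y + (C.t x + C.t y) * (C.s x + C.s y) =
        (C.u x + C.t x * C.s x) + (C.u y + C.t y * C.s y) + C.t y * C.s x := by
      linear_combination (C.t x * C.s y) * h2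
    rw [h3]
    linear_combination ((C.u x + C.t x * C.s x) * (C.u y + C.t y * C.s y) +
      (C.u x + C.t x * C.s x) * (C.t y * C.s x) + (C.u y + C.t y * C.s y) * (C.t y * C.s x) -
      C.s x * (C.z y + C.t y ^ 2 * C.s y)) * h2
  inj := fun {x y} hx hy h1 h2 h3 h4 => by
    have h5 : C.t x = C.t y := sq_inj h2
    have h6 := sq_inj h4
    apply C.inj hx hy h5 h1
    · rw [h5, h1] at h6
      exact add_right_cancel h6
    · rw [h5, h1] at h3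
      exact add_right_cancel h3
  surj := fun a b c d => by
    obtain ⟨b', hb⟩ := sq_surj b
    obtain ⟨d', hd⟩ := sq_surj d
    obtain ⟨x, hx, h1, h2, h3, h4⟩ := C.surj b' a (d' - b' * a) (c - b * a)
    refine ⟨x, hx, h2, by rw [h1, hb], ?_, ?_⟩
    · rw [h1, h2, h4, hb]; ring
    · rw [h1, h2, h3, ← hd]; ring

theorem SpC.swap_M [Finite K] [CharP K 2] (C : SpC S K) : C.swap.M = C.L 0 := by
  ext x
  rw [C.mem_L0]
  exact Iff.rfl

theorem SpC.swap_L [Finite K] [CharP K 2] (C : SpC S K) : C.swap.L 0 = C.M := by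
  ext x
  rw [C.swap.mem_L0]
  show x ∈ S ∧ C.t x ^ 2 = 0 ↔ x ∈ S ∧ C.t x = 0
  rw [pow_eq_zero_iff two_ne_zero]

theorem SpC.swap_Z2 [Finite K] [CharP K 2] (C : SpC S K) : C.swap.Z2 = C.Z2 := by
  ext x
  show x ∈ S ∧ C.s x = 0 ∧ C.t x ^ 2 = 0 ↔ x ∈ S ∧ C.t x = 0 ∧ C.s x = 0
  rw [pow_eq_zero_iff two_ne_zero]
  tauto

theorem SpC.mem_swap_Z1 [Finite K] [CharP K 2] (C : SpC S K) {x : Ω} :
    x ∈ C.swap.Z1 ↔ x ∈ C.Z2 ∧ C.z x = 0 := by
  show x ∈ S ∧ C.s x = 0 ∧ C.t x ^ 2 = 0 ∧ C.z x + C.t x ^ 2 * C.s x = 0 ↔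
    (x ∈ S ∧ C.t x = 0 ∧ C.s x = 0) ∧ C.z x = 0
  rw [pow_eq_zero_iff two_ne_zero]
  constructor
  · rintro ⟨h1, h2, h3, h4⟩
    rw [h2, h3] at h4
    exact ⟨⟨h1, h3, h2⟩, by linear_combination h4⟩
  · rintro ⟨⟨h1, h3, h2⟩, h4⟩
    exact ⟨h1, h2, h3, by rw [h2, h3, h4]; ring⟩

theorem SpC.swap_z_iff [Finite K] [CharP K 2] (C : SpC S K) {x : Ω} :
    (x ∈ C.swap.Z2 ∧ C.swap.z x = 0) ↔ x ∈ C.Z1 := by
  show ((x ∈ S ∧ C.s x = 0 ∧ C.t x ^ 2 = 0) ∧ (C.u x + C.t x * C.s x) ^ 2 = 0) ↔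
    (x ∈ S ∧ C.t x = 0 ∧ C.s x = 0 ∧ C.u x = 0)
  rw [pow_eq_zero_iff two_ne_zero, pow_eq_zero_iff two_ne_zero]
  constructor
  · rintro ⟨⟨h1, h2, h3⟩, h4⟩
    rw [h2, h3] at h4
    exact ⟨h1, h3, h2, by linear_combination h4⟩
  · rintro ⟨h1, h3, h2, h4⟩
    exact ⟨⟨h1, h2, h3⟩, by rw [h2, h3, h4]; ring⟩

/-- The invariant subgroup for `M`. -/
theorem SpC.two_U [Finite K] [CharP K 2] [Finite S] (C : SpC S K) (hS : IsPGroup 2 S) {F : FusionSystem S}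
    (hF : F.IsSaturated 2) (hM : F.IsEssential 2 C.M) {Q : Subgroup Ω} (hQ : F.StronglyClosed Q)
    (hQ1 : Q ≠ ⊥) (hQZ : Q ≤ C.Z2) :
    ((∀ α ∈ F.autGroup C.M, ∀ x : C.M, (x : Ω) ∈ C.Z1 → ((α x : C.M) : Ω) ∈ C.Z1) ∧ Q ≤ C.Z1) ∨
      ((∀ α ∈ F.autGroup C.M, ∀ x : C.M, ((x : Ω) ∈ C.Z2 ∧ C.z x = 0) →
        (((α x : C.M) : Ω) ∈ C.Z2 ∧ C.z (α x : C.M) = 0)) ∧ ∀ x ∈ Q, C.z x = 0) := by
  have h2 : (2 : K) = 0 := two_eq_zero
  have hPS : C.M ≤ S := C.M_le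
  have hfM : Finite C.M := finite_of_le hPS
  obtain ⟨-, R, hR⟩ := isFullyAutomized_of_isFullyNormalized hS hF hM.2.1
  have hmemR : ∀ g : F.autGroup C.M, g ∈ R ↔ (g : MulAut C.M) ∈ autInducedBy S C.M := by
    intro g
    have : g ∈ (R : Subgroup (F.autGroup C.M)) ↔
      g ∈ (autInducedBy S C.M).subgroupOf (F.autGroup C.M) := by rw [hR]
    exact this
  have hc1 : C.c3 1 = 0 := by
    have := C.c3_mul 1 1
    rw [mul_one] at this
    simpa using this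
  have hker : ∀ x, C.c3 x = 0 → x = 1 := fun x hx => C.c3_inj x 1 (by rw [hx, hc1])
  obtain ⟨ρ, hρ, hρadd⟩ := exists_rho C.c3 C.c3_mul C.c3_surj (F.autGroup C.M)
    (fun α _ x hx => by rw [hker x hx, map_one, hc1])
  have hρinj : Function.Injective ρ := by
    intro α β hαβ
    apply Subtype.ext
    apply MulEquiv.ext
    intro x
    apply C.c3_inj
    rw [← hρ, ← hρ, hαβ]
  have hρeq : ∀ (g : F.autGroup C.M) (t : K), (∀ x, C.c3 (g.1 x) = phi t (C.c3 x)) → ρ g = phi t := by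
    intro g t h
    apply Equiv.ext
    intro v
    obtain ⟨x, rfl⟩ := C.c3_surj v
    rw [hρ]
    exact h x
  have hQM : Q ≤ C.M := fun x hx => C.Z2_le_M (hQZ hx)
  let Q' : AddSubgroup (K × K × K) :=
    { carrier := {v | ∃ x : C.M, (x : Ω) ∈ Q ∧ C.c3 x = v}
      zero_mem' := ⟨1, Q.one_mem, hc1⟩
      add_mem' := by
        rintro _ _ ⟨x, hx, rfl⟩ ⟨y, hy, rfl⟩
        exact ⟨x * y, Q.mul_mem hx hy, C.c3_mul x y⟩
      neg_mem' := by
        rintro _ ⟨x, hx, rfl⟩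
        refine ⟨x⁻¹, Q.inv_mem hx, ?_⟩
        have := C.c3_mul x⁻¹ x
        rw [inv_mul_cancel, hc1] at this
        exact eq_neg_of_add_eq_zero_left this.symm }
  have hQ'mem : ∀ x : C.M, (x : Ω) ∈ Q → C.c3 x ∈ Q' := fun x hx => ⟨x, hx, rfl⟩
  have hinv : ∀ α ∈ F.autGroup C.M, ∀ x : C.M, (x : Ω) ∈ Q → ((α x : C.M) : Ω) ∈ Q := by
    intro α hα x hx
    have h5 := hQ.2 Q le_rfl ((C.M.subtype.comp α.toMonoidHom).comp
      (Subgroup.inclusion hQM)) (restrict_mem ((mem_autGroup_iff F hPS _).1 hα) _) ⟨x, hx⟩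
    exact h5
  have hmain := two_lemma' ρ hρinj hρadd R
    (fun g hg => by
      obtain ⟨a, ha, haτ⟩ := (mem_autInducedBy_iff S C.M _).1 ((hmemR g).1 hg)
      exact ⟨C.t a, hρeq g _ (fun x => C.c3_conj ha x _ (haτ x))⟩)
    (fun t => by
      obtain ⟨a, ha, h3, -, -, -⟩ := C.surj t 0 0 0
      obtain ⟨τ, hτ⟩ := exists_conjAut (C.M_normalizer ha)
      have hτT : τ ∈ autInducedBy S C.M := (mem_autInducedBy_iff S C.M τ).2 ⟨a, ha, hτ⟩
      refine ⟨⟨τ, autInducedBy_le_autGroup F hPS hτT⟩, (hmemR _).2 hτT, hρeq _ _ (fun x => ?_)⟩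
      have h4 := C.c3_conj ha x _ (hτ x)
      rw [h3] at h4
      exact h4)
    Q'
    (fun h => by
      apply hQ1
      rw [Subgroup.eq_bot_iff_forall]
      intro x hx
      have h3 := hQ'mem ⟨x, hQM hx⟩ hx
      rw [h, AddSubgroup.mem_bot] at h3
      exact congrArg Subtype.val (hker _ h3))
    (by
      rintro _ ⟨x, hx, rfl⟩
      exact (hQZ hx).2.2)
    (by
      rintro g _ ⟨x, hx, rfl⟩
      rw [hρ]
      exact hQ'mem _ (hinv g g.2 x hx))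
    (by
      by_contra hcon
      push Not at hcon
      apply ne_of_isEssential hS hF hM
      apply le_antisymm hPS
      intro g hg
      refine mem_of_chain2 hS hM C.Z2 C.Z2_le_M (fun α hα x hx => ?_) hg
        (fun x hx => C.comm_mem_Z2 hg (hPS hx)) (fun x hx => ?_)
      · refine ⟨(α x).2.1, (α x).2.2, ?_⟩
        have h3 : (ρ ⟨α, hα⟩ (C.c3 x)).1 = 0 := by
          have h4 : C.c3 x = (0, C.u x, C.z x) := by
            show (C.s x, C.u x, C.z x) = _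
            rw [hx.2.2]
          rw [h4]
          exact hcon _ _ _
        rw [hρ] at h3
        exact h3
      · rw [← C.Z2_comm h2 hx hg, mul_inv_cancel_right])
  have hmemZ1 : ∀ x : C.M, (x : Ω) ∈ C.Z1 ↔ ∃ z, C.c3 x = (0, 0, z) := by
    intro x
    constructor
    · intro h
      refine ⟨C.z x, ?_⟩
      show (C.s x, C.u x, C.z x) = _
      rw [h.2.2.1, h.2.2.2]
    · rintro ⟨z, hz⟩
      exact ⟨x.2.1, x.2.2, congrArg Prod.fst hz, congrArg (fun v => v.2.1) hz⟩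
  have hmemKu : ∀ x : C.M, ((x : Ω) ∈ C.Z2 ∧ C.z x = 0) ↔ ∃ u, C.c3 x = (0, u, 0) := by
    intro x
    constructor
    · rintro ⟨h, h'⟩
      refine ⟨C.u x, ?_⟩
      show (C.s x, C.u x, C.z x) = _
      rw [h.2.2, h']
    · rintro ⟨z, hz⟩
      exact ⟨⟨x.2.1, x.2.2, congrArg Prod.fst hz⟩, congrArg (fun v => v.2.2) hz⟩
  rcases hmain with ⟨h3, h4⟩ | ⟨h3, h4⟩
  · left
    refine ⟨fun α hα x hx => ?_, fun x hx => ?_⟩
    · obtain ⟨z, hz⟩ := (hmemZ1 x).1 hx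
      rw [hmemZ1]
      obtain ⟨z', hz'⟩ := h3 ⟨α, hα⟩ z
      exact ⟨z', by rw [← hz', ← hz, hρ]⟩
    · have h5 := hQZ hx
      have h6 := h4 _ (hQ'mem ⟨x, hQM hx⟩ hx)
      exact ⟨h5.1, h5.2.1, h5.2.2, h6⟩
  · right
    refine ⟨fun α hα x hx => ?_, fun x hx => ?_⟩
    · obtain ⟨z, hz⟩ := (hmemKu x).1 hx
      rw [hmemKu]
      obtain ⟨z', hz'⟩ := h3 ⟨α, hα⟩ z
      exact ⟨z', by rw [← hz', ← hz, hρ]⟩
    · exact h4 _ (hQ'mem ⟨x, hQM hx⟩ hx)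

/-- **Coordinates in which `Z₁` is invariant.** -/
theorem SpC.exists_coords [Finite K] [CharP K 2] [Finite S] (C : SpC S K) (hS : IsPGroup 2 S)
    {F : FusionSystem S} (hF : F.IsSaturated 2) (hcore : F.core ≠ ⊥)
    (hnc : ¬ ∃ Q : Subgroup Ω, F.IsNormal Q ∧ F.IsCentric Q) :
    ∃ C : SpC S K, F.IsEssential 2 C.M ∧ F.IsEssential 2 (C.L 0) ∧
      (∀ α ∈ F.autGroup C.M, ∀ x : C.M, (x : Ω) ∈ C.Z1 → ((α x : C.M) : Ω) ∈ C.Z1) ∧
      (∀ α ∈ F.autGroup (C.L 0), ∀ x : C.L 0, (x : Ω) ∈ C.Z1 → ((α x : C.L 0) : Ω) ∈ C.Z1) := by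
  have h2 : (2 : K) = 0 := two_eq_zero
  obtain ⟨hM, hL, hQZ⟩ := C.two_reduction h2 hS hF hnc
  have hQs : F.StronglyClosed F.core := H759.IsNormal.stronglyClosed H759.isNormal_core
  obtain ⟨q, hq, hq1⟩ : ∃ q ∈ F.core, q ≠ 1 := by
    by_contra hcon
    push Not at hcon
    exact hcore ((Subgroup.eq_bot_iff_forall _).2 hcon)
  have h3 := C.two_U hS hF hM hQs hcore hQZ
  have h4 := C.swap.two_U hS hF (by rw [C.swap_M]; exact hL) hQs hcore (by rw [C.swap_Z2]; exact hQZ)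
  have hnot : ∀ x, x ∈ C.Z1 → C.z x = 0 → x = 1 := by
    intro x hx hz
    apply C.inj hx.1 S.one_mem
    · rw [hx.2.1, C.t_one]
    · rw [hx.2.2.1, C.s_one]
    · rw [hx.2.2.2, C.u_one]
    · rw [hz, C.z_one]
  rcases h3 with ⟨h3, h3'⟩ | ⟨h3, h3'⟩ <;> rcases h4 with ⟨h4, h4'⟩ | ⟨h4, h4'⟩
  · exact (hq1 (hnot q (h3' hq) (C.mem_swap_Z1.1 (h4' hq)).2)).elim
  · refine ⟨C, hM, hL, h3, ?_⟩
    have key : ∀ P : Subgroup Ω, P = C.L 0 → (∀ α ∈ F.autGroup P, ∀ x : P, ((x : Ω) ∈ C.swap.Z2 ∧ C.swap.z x = 0) →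
        (((α x : P) : Ω) ∈ C.swap.Z2 ∧ C.swap.z (α x : P) = 0)) →
        ∀ α ∈ F.autGroup (C.L 0), ∀ x : C.L 0, (x : Ω) ∈ C.Z1 → ((α x : C.L 0) : Ω) ∈ C.Z1 := by
      rintro P rfl h α hα x hx
      rw [← C.swap_z_iff] at hx ⊢
      exact h α hα x hx
    exact key _ C.swap_M h4
  · refine ⟨C.swap, by rw [C.swap_M]; exact hL, by rw [C.swap_L]; exact hM, h4, ?_⟩
    have key : ∀ P : Subgroup Ω, P = C.M → ∀ α ∈ F.autGroup P, ∀ x : P,
        (x : Ω) ∈ C.swap.Z1 → ((α x : P) : Ω) ∈ C.swap.Z1 := by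
      rintro P rfl α hα x hx
      rw [C.mem_swap_Z1] at hx ⊢
      exact h3 α hα x hx
    exact key _ C.swap_L
  · have h5 : q ∈ C.Z1 := C.swap_z_iff.1 ⟨by rw [C.swap_Z2]; exact hQZ hq, h4' q hq⟩
    exact (hq1 (hnot q h5 (h3' q hq))).elim

end Cfsg.Agent.H780
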